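import Mathlib
import Cfsg.Agent.Lib.Helper6.Mx1
import Cfsg.Agent.Lib.Helper6.Mx3
import Cfsg.Agent.S0802
import Cfsg.Agent.S0803
import Cfsg.Agent.S0804

/-!
# Maximal subgroups of `PSL(2, q)`, `q` odd: triangular and dihedral cases (helper6)

* `case_borel_max`: a triangularisable maximal subgroup is a full Borel subgroup;
* `case_dih_max`: a maximal `p'`-subgroup with commuting squares is a full torus normaliser;
* `excl_small`: the torus normalisers that are not maximal for small `q`.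
-/

set_option autoImplicit false
set_option linter.unusedSimpArgs false
set_option linter.unusedVariables false
set_option linter.unusedSectionVars false
set_option linter.style.haveILetI false
set_option linter.unnecessarySeqFocus false
set_option linter.unreachableTactic false
set_option linter.unusedTactic false

namespace Cfsg.Agent.Lib.Helper6.Mx4

open Matrix MatrixGroups
open Cfsg.Agent.Lib.Helper53.SL2Inv Cfsg.Agent.Lib.Helper53.SL2Unip
open Cfsg.Agent.Lib.Helper98.SL2Sub Cfsg.Agent.Lib.Helper98.SL2Core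
open Cfsg.Agent.Lib.Helper98.SL2Tor Cfsg.Agent.Lib.Helper98.PSL2Max
open Cfsg.Agent.Lib.Helper98.DicksonB Cfsg.Agent.Lib.Helper98.DicksonOdd
open Cfsg.Agent.Lib.Helper98.SL2Field
open Cfsg.Agent.Lib.Helper6.Sb2 Cfsg.Agent.Lib.Helper6.Dk2 Cfsg.Agent.Lib.Helper6.Dk4
  Cfsg.Agent.Lib.Helper6.Dk5 Cfsg.Agent.Lib.Helper6.Mx1 Cfsg.Agent.Lib.Helper6.Mx2

variable {F : Type*} [Field F] [Fintype F]

lemma Bo_ne_top : Bo F ≠ ⊤ := by
  intro h
  have : l (1 : F) ∈ Bo F := by rw [h]; trivial
  rw [mem_Bo, l10] at this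
  exact one_ne_zero this

/-- a triangularisable maximal subgroup has order `q (q - 1)` -/
theorem case_borel_max (X : Subgroup SL(2, F)) (hco : IsCoatom X) (g : SL(2, F))
    (hg : ∀ y ∈ X, (g * y * g⁻¹).1 1 0 = 0) :
    Nat.card X = Fintype.card F * (Fintype.card F - 1) := by
  have hle := map_conj_le_Bo X g hg
  have hco' := isCoatom_map_equiv (MulAut.conj g) X hco
  have heq : X.map (MulAut.conj g).toMonoidHom = Bo F := by
    by_contra hne
    exact Bo_ne_top (hco'.2 _ (lt_of_le_of_ne hle hne))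
  rw [← card_map_equiv X (MulAut.conj g), heq, card_Bo]

/-- a maximal `p'`-subgroup whose squares commute is dihedral of order `q ± 1` -/
theorem case_dih_max (p : ℕ) [Fact p.Prime] [CharP F p] (hodd : Odd (Fintype.card F))
    (h5 : 5 ≤ Fintype.card F)
    (M : Subgroup (Matrix.ProjectiveSpecialLinearGroup (Fin 2) F))
    (hco : IsCoatom (M.comap proj))
    (hp : ¬ p ∣ Nat.card (M.comap proj))
    (hsq : ∀ x ∈ M.comap proj, ∀ y ∈ M.comap proj, x ^ 2 * y ^ 2 = y ^ 2 * x ^ 2) :
    ∃ k : ℕ, (2 * k = Fintype.card F - 1 ∨ 2 * k = Fintype.card F + 1) ∧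
      Nonempty (M ≃* DihedralGroup k) := by
  haveI : Finite SL(2, F) := finite_SL
  haveI : Finite (Matrix.ProjectiveSpecialLinearGroup (Fin 2) F) :=
    Finite.of_surjective _ proj_surj
  have h2 : (2 : F) ≠ 0 := two_ne_zero_of_odd hodd
  obtain ⟨q, hq⟩ : ∃ q, q = Fintype.card F := ⟨_, rfl⟩
  rw [← hq] at h5 ⊢
  have hcardX : Nat.card (M.comap proj) = 2 * Nat.card M := card_comap h2 M
  have hSL : Nat.card SL(2, F) = q * (q ^ 2 - 1) :=
    Cfsg.Agent.Lib.Helper5.SL2Card.card_SL_two hq.symm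
  have hbig : 2 * (q + 1) < q * (q ^ 2 - 1) := by
    obtain ⟨m, rfl⟩ : ∃ m, q = m + 5 := ⟨q - 5, by omega⟩
    have e : (m + 5) ^ 2 - 1 = (m + 4) * (m + 6) := by
      have : (m + 5) ^ 2 = (m + 4) * (m + 6) + 1 := by ring
      rw [this]; omega
    rw [e]
    nlinarith
  have hMcard : Nat.card M = q - 1 ∨ Nat.card M = q + 1 := by
    rcases sq_comm_le_norInv p h2 _ hp hsq with hZ | ⟨a, haX, hao, ha1, ha2, hle⟩
    · exfalso
      have hZB : (Zc : Subgroup SL(2, F)) ≤ Bo F := by
        rintro x (rfl | rfl)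
        · exact (Bo F).one_mem
        · rw [mem_Bo, n10]
      have heq : M.comap proj = Bo F := by
        by_contra hne
        exact Bo_ne_top (hco.2 _ (lt_of_le_of_ne (hZ.trans hZB) hne))
      have h1 := Subgroup.card_le_of_le hZ
      rw [card_Zc h2, heq, card_Bo, ← hq] at h1
      have : 5 * 4 ≤ q * (q - 1) := Nat.mul_le_mul h5 (by omega)
      omega
    · have htr := tr_sq_ne_four p h2 a hao ha1 ha2
      obtain ⟨n₀, hn₀⟩ := exists_inverter hodd a htr
      have hne : a ≠ a⁻¹ := by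
        intro h
        have h' : a * a = 1 := by
          calc a * a = a * a⁻¹ := by rw [← h]
            _ = 1 := mul_inv_cancel a
        rcases sq_eq_one h2 a h' with h'' | h''
        · exact ha1 h''
        · exact ha2 h''
      have hcN := card_norInv_eq a n₀ hn₀ hne
      have hcC := card_centralizer_cases h2 a htr
      rw [← hq] at hcC
      have hNtop : NorInv a ≠ ⊤ := by
        intro htop
        have h1 : Nat.card (NorInv a) = Nat.card SL(2, F) := by rw [htop, Subgroup.card_top]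
        rw [hcN, hSL] at h1
        rcases hcC with h | h <;> rw [h] at h1 <;> omega
      have heq : M.comap proj = NorInv a := by
        by_contra hne'
        exact hNtop (hco.2 _ (lt_of_le_of_ne hle hne'))
      rw [heq, hcN] at hcardX
      rcases hcC with h | h
      · left; omega
      · right; omega
  obtain ⟨k, hk, hstruct⟩ := case_sqcomm p h2 hq.symm M hp hsq
  have hkle : k ≤ (q + 1) / 2 := by
    rcases hk with h | h
    · exact Nat.le_of_dvd (by omega) h
    · exact (Nat.le_of_dvd (by omega) h).trans (Nat.div_le_div_right (by omega))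
  rcases hstruct with ⟨-, hc⟩ | ⟨⟨φ⟩⟩
  · exfalso
    rcases hMcard with h | h <;> omega
  · have hc : Nat.card M = 2 * k := by
      rw [Nat.card_congr φ.toEquiv, DihedralGroup.nat_card]
    refine ⟨k, ?_, ⟨φ⟩⟩
    rcases hMcard with h | h
    · left; omega
    · right; omega

/-! ### Small fields -/

section excl

variable {G : Type*} [Group G] [Finite G]

/-- the anchor criterion against an abstract overgroup -/
theorem excl_aux [IsSimpleGroup G] (M : Subgroup G) (hM : IsCoatom M) (r : ℕ) [Fact r.Prime]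
    (P : Subgroup G) (hnorm : M ≤ Subgroup.normalizer (P : Set G)) (hP1 : Nat.card P ≠ 1)
    (hP2 : Nat.card P ≠ Nat.card G) (hPr : IsPGroup r P) (hSyl : ¬ r * Nat.card P ∣ Nat.card G)
    {A : Type*} [Group A] (S : Subgroup G) (e : S ≃* A) (D P₁ : Subgroup A)
    (hD : D ≤ Subgroup.normalizer (P₁ : Set A)) (hcD : Nat.card D = Nat.card M)
    (hP₁r : IsPGroup r P₁) (hcP₁ : Nat.card P₁ = Nat.card P) (hSM : Nat.card A ≠ Nat.card M)
    (hSG : Nat.card A ≠ Nat.card G) : False := by
  obtain ⟨f, hf⟩ : ∃ f : A →* G, f = S.subtype.comp e.symm.toMonoidHom := ⟨_, rfl⟩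
  have hinj : Function.Injective f := by
    rw [hf]
    exact Subtype.val_injective.comp e.symm.injective
  have hDS : D.map f ≤ S := by
    rintro _ ⟨d, -, rfl⟩
    rw [hf]
    exact (e.symm d).2
  have hcS : Nat.card S = Nat.card A := Nat.card_congr e.toEquiv
  rcases anchor M hM r P hnorm (normalizer_ne_top P hP1 hP2) hPr hSyl S (D.map f) (P₁.map f) hDS
    (map_le_normalizer f D P₁ hD) (by rw [Subgroup.card_map_of_injective hinj, hcD])
    (hP₁r.map f) (by rw [Subgroup.card_map_of_injective hinj, hcP₁]) with h | h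
  · exact hSM (hcS ▸ h)
  · apply hSG
    rw [← hcS, h, Subgroup.card_top]

/-- type (α): the maximal subgroup is a Sylow subgroup -/
theorem excl_sylow [IsSimpleGroup G] (M : Subgroup G) (hM : IsCoatom M) (r n : ℕ)
    [Fact r.Prime] (hcM : Nat.card M = r ^ n) (hM1 : Nat.card M ≠ 1)
    (hM2 : Nat.card M ≠ Nat.card G) (hSyl : ¬ r * Nat.card M ∣ Nat.card G)
    {A : Type*} [Group A] [Finite A] (S : Subgroup G) (e : S ≃* A) (hdvd : r ^ n ∣ Nat.card A)
    (hSM : Nat.card A ≠ Nat.card M) (hSG : Nat.card A ≠ Nat.card G) : False := by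
  obtain ⟨K, hK⟩ := Sylow.exists_subgroup_card_pow_prime (G := A) r hdvd
  exact excl_aux M hM r M Subgroup.le_normalizer hM1 hM2 (IsPGroup.of_card hcM) hSyl S e K K
    Subgroup.le_normalizer (by rw [hK, hcM]) (IsPGroup.of_card hK) (by rw [hK, hcM]) hSM hSG

/-- type (β): the maximal subgroup has order `2r` -/
theorem excl_two_r [IsSimpleGroup G] (M : Subgroup G) (hM : IsCoatom M) (r : ℕ)
    [Fact r.Prime] (hcM : Nat.card M = 2 * r) (hr2 : r ≠ Nat.card G)
    (hSyl : ¬ r * r ∣ Nat.card G)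
    {A : Type*} [Group A] (S : Subgroup G) (e : S ≃* A) (D P₁ : Subgroup A)
    (hD : D ≤ Subgroup.normalizer (P₁ : Set A)) (hcD : Nat.card D = 2 * r)
    (hcP₁ : Nat.card P₁ = r) (hSM : Nat.card A ≠ 2 * r) (hSG : Nat.card A ≠ Nat.card G) :
    False := by
  have hr : r.Prime := Fact.out
  obtain ⟨P, -, hPn, hP⟩ := exists_normal_sub M r hcM
  exact excl_aux M hM r P hPn (by rw [hP]; exact hr.one_lt.ne') (by rw [hP]; exact hr2)
    (IsPGroup.of_card (n := 1) (by rw [hP, pow_one])) (by rw [hP]; exact hSyl) S e D P₁ hD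
    (by rw [hcD, hcM]) (IsPGroup.of_card (n := 1) (by rw [hcP₁, pow_one])) (by rw [hcP₁, hP])
    (by rw [hcM]; exact hSM) hSG

end excl

theorem card_A4 : Nat.card (alternatingGroup (Fin 4)) = 12 := by
  have h := two_mul_nat_card_alternatingGroup (α := Fin 4)
  rw [Nat.card_eq_fintype_card (α := Equiv.Perm (Fin 4)), Fintype.card_perm, Fintype.card_fin] at h
  have : Nat.factorial 4 = 24 := by decide
  omega

theorem card_S4 : Nat.card (Equiv.Perm (Fin 4)) = 24 := by
  rw [Nat.card_eq_fintype_card, Fintype.card_perm, Fintype.card_fin]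
  rfl

/-- the torus normalisers that are not maximal -/
theorem excl_small (p : ℕ) [Fact p.Prime] [CharP F p] (hodd : Odd (Fintype.card F))
    (M : Subgroup (Matrix.ProjectiveSpecialLinearGroup (Fin 2) F)) (hM : IsCoatom M) :
    ¬ (Fintype.card F = 5 ∧ Nat.card M = 4) ∧ ¬ (Fintype.card F = 7 ∧ Nat.card M = 6) ∧
    ¬ (Fintype.card F = 9 ∧ Nat.card M = 8) ∧ ¬ (Fintype.card F = 11 ∧ Nat.card M = 10) ∧
    ¬ (Fintype.card F = 7 ∧ Nat.card M = 8) ∧ ¬ (Fintype.card F = 9 ∧ Nat.card M = 10) := by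
  haveI : Finite SL(2, F) := finite_SL
  haveI : Finite (Matrix.ProjectiveSpecialLinearGroup (Fin 2) F) :=
    Finite.of_surjective _ proj_surj
  haveI h2f : Fact (Nat.Prime 2) := ⟨Nat.prime_two⟩
  haveI h3f : Fact (Nat.Prime 3) := ⟨Nat.prime_three⟩
  haveI h5f : Fact (Nat.Prime 5) := ⟨by norm_num⟩
  have hpp : p.Prime := Fact.out
  have hG : ∀ q, Fintype.card F = q →
      2 * Nat.card (Matrix.ProjectiveSpecialLinearGroup (Fin 2) F) = q * (q ^ 2 - 1) := by
    intro q hq
    exact Cfsg.Agent.Lib.Helper98.DOdd10.card_psl_odd hq (hq ▸ hodd)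
  have hsimple : ∀ q, Fintype.card F = q → 5 ≤ q →
      IsSimpleGroup (Matrix.ProjectiveSpecialLinearGroup (Fin 2) F) := by
    intro q hq h5
    exact Matrix.ProjectiveSpecialLinearGroup.rank_two_simple
      (by rw [Nat.card_eq_fintype_card, hq]; omega)
  have hS4 : ∀ q, Fintype.card F = q → q ^ 2 % 16 = 1 →
      ∃ H : Subgroup (Matrix.ProjectiveSpecialLinearGroup (Fin 2) F),
        Nonempty (H ≃* Equiv.Perm (Fin 4)) := fun q hq h => (Cfsg.Agent.S0803.result hq).2 h
  have hA5 : ∀ q, Fintype.card F = q → 5 ∣ q * (q ^ 2 - 1) →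
      ∃ H : Subgroup (Matrix.ProjectiveSpecialLinearGroup (Fin 2) F),
        Nonempty (H ≃* alternatingGroup (Fin 5)) := fun q hq h => (Cfsg.Agent.S0804.result hq).2 h
  obtain ⟨D4, P4, hD4, hcD4, hcP4⟩ := s4_sub
  obtain ⟨D5, P5, hD5, hcD5, hcP5⟩ := a5_sub10
  refine ⟨?_, ?_, ?_, ?_, ?_, ?_⟩
  · rintro ⟨hq, hc⟩
    haveI := hsimple 5 hq (by norm_num)
    have hGc := hG 5 hq
    have hGc' : Nat.card (Matrix.ProjectiveSpecialLinearGroup (Fin 2) F) = 60 := by
      norm_num at hGc; omega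
    obtain ⟨n, -, hn⟩ := FiniteField.card F p
    have hp2 : ¬ (p = 2 ∧ Odd (n : ℕ)) := by
      rintro ⟨rfl, -⟩
      rw [hq] at hn
      have : 2 ∣ 5 := by rw [hn]; exact dvd_pow_self 2 n.ne_zero
      omega
    obtain ⟨S, ⟨e⟩⟩ := (Cfsg.Agent.S0802.result p n hn).2 hp2
    exact excl_sylow M hM 2 2 (by rw [hc]; norm_num) (by rw [hc]; norm_num)
      (by rw [hc, hGc']; norm_num) (by rw [hc, hGc']; norm_num) S e
      (by rw [card_A4]; norm_num) (by rw [card_A4, hc]; norm_num)
      (by rw [card_A4, hGc']; norm_num)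
  · rintro ⟨hq, hc⟩
    haveI := hsimple 7 hq (by norm_num)
    have hGc := hG 7 hq
    have hGc' : Nat.card (Matrix.ProjectiveSpecialLinearGroup (Fin 2) F) = 168 := by
      norm_num at hGc; omega
    obtain ⟨S, ⟨e⟩⟩ := hS4 7 hq (by norm_num)
    exact excl_two_r M hM 3 (by rw [hc]) (by rw [hGc']; norm_num) (by rw [hGc']; norm_num) S e
      D4 P4 hD4 (by rw [hcD4]) hcP4 (by rw [card_S4]; norm_num) (by rw [card_S4, hGc']; norm_num)
  · rintro ⟨hq, hc⟩
    haveI := hsimple 9 hq (by norm_num)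
    have hGc := hG 9 hq
    have hGc' : Nat.card (Matrix.ProjectiveSpecialLinearGroup (Fin 2) F) = 360 := by
      norm_num at hGc; omega
    obtain ⟨S, ⟨e⟩⟩ := hS4 9 hq (by norm_num)
    exact excl_sylow M hM 2 3 (by rw [hc]; norm_num) (by rw [hc]; norm_num)
      (by rw [hc, hGc']; norm_num) (by rw [hc, hGc']; norm_num) S e
      (by rw [card_S4]; norm_num) (by rw [card_S4, hc]; norm_num)
      (by rw [card_S4, hGc']; norm_num)
  · rintro ⟨hq, hc⟩
    haveI := hsimple 11 hq (by norm_num)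
    have hGc := hG 11 hq
    have hGc' : Nat.card (Matrix.ProjectiveSpecialLinearGroup (Fin 2) F) = 660 := by
      norm_num at hGc; omega
    obtain ⟨S, ⟨e⟩⟩ := hA5 11 hq (by norm_num)
    exact excl_two_r M hM 5 (by rw [hc]) (by rw [hGc']; norm_num) (by rw [hGc']; norm_num) S e
      D5 P5 hD5 (by rw [hcD5]) hcP5 (by rw [card_A5]; norm_num) (by rw [card_A5, hGc']; norm_num)
  · rintro ⟨hq, hc⟩
    haveI := hsimple 7 hq (by norm_num)
    have hGc := hG 7 hq
    have hGc' : Nat.card (Matrix.ProjectiveSpecialLinearGroup (Fin 2) F) = 168 := by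
      norm_num at hGc; omega
    obtain ⟨S, ⟨e⟩⟩ := hS4 7 hq (by norm_num)
    exact excl_sylow M hM 2 3 (by rw [hc]; norm_num) (by rw [hc]; norm_num)
      (by rw [hc, hGc']; norm_num) (by rw [hc, hGc']; norm_num) S e
      (by rw [card_S4]; norm_num) (by rw [card_S4, hc]; norm_num)
      (by rw [card_S4, hGc']; norm_num)
  · rintro ⟨hq, hc⟩
    haveI := hsimple 9 hq (by norm_num)
    have hGc := hG 9 hq
    have hGc' : Nat.card (Matrix.ProjectiveSpecialLinearGroup (Fin 2) F) = 360 := by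
      norm_num at hGc; omega
    obtain ⟨S, ⟨e⟩⟩ := hA5 9 hq (by norm_num)
    exact excl_two_r M hM 5 (by rw [hc]) (by rw [hGc']; norm_num) (by rw [hGc']; norm_num) S e
      D5 P5 hD5 (by rw [hcD5]) hcP5 (by rw [card_A5]; norm_num) (by rw [card_A5, hGc']; norm_num)

end Cfsg.Agent.Lib.Helper6.Mx4
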