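import Mathlib
import Cfsg.Agent.Lib.Helper6.Mx4

/-!
# Maximal subgroups of `PSL(2, q)`, `q` odd: the exceptional cases `A₄`, `S₄`, `A₅` (helper6)

The trace field argument: a maximal subgroup whose preimage has all traces in a subfield `k`
is conjugate into `SL(2, k)`, hence `k = F`.
-/

set_option autoImplicit false
set_option linter.unusedSimpArgs false
set_option linter.unusedVariables false
set_option linter.unusedSectionVars false
set_option linter.style.haveILetI false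
set_option linter.unnecessarySeqFocus false
set_option linter.unreachableTactic false
set_option linter.unusedTactic false

namespace Cfsg.Agent.Lib.Helper6.Mx5

open Matrix MatrixGroups
open Cfsg.Agent.Lib.Helper53.SL2Inv Cfsg.Agent.Lib.Helper53.SL2Unip
open Cfsg.Agent.Lib.Helper98.SL2Sub Cfsg.Agent.Lib.Helper98.SL2Core
open Cfsg.Agent.Lib.Helper98.SL2Tor Cfsg.Agent.Lib.Helper98.PSL2Max
open Cfsg.Agent.Lib.Helper98.DicksonB Cfsg.Agent.Lib.Helper98.DicksonOdd
open Cfsg.Agent.Lib.Helper98.SL2Field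
open Cfsg.Agent.S5941 (Pk Sk_le_Pk Pk_ne_top d_mem_Pk)
open Cfsg.Agent.Lib.Helper6.Sb2 Cfsg.Agent.Lib.Helper6.Dk2 Cfsg.Agent.Lib.Helper6.Dk3
  Cfsg.Agent.Lib.Helper6.Dk4
  Cfsg.Agent.Lib.Helper6.Dk5 Cfsg.Agent.Lib.Helper6.Mx1 Cfsg.Agent.Lib.Helper6.Mx2
  Cfsg.Agent.Lib.Helper6.Mx3 Cfsg.Agent.Lib.Helper6.Mx4

variable {F : Type*} [Field F]

/-! ### Membership of traces in fixed fields -/

lemma two_mem (k : Subfield F) : (2 : F) ∈ k := by
  have : (2 : F) = 1 + 1 := by norm_num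
  rw [this]; exact k.add_mem k.one_mem k.one_mem

lemma small_mem (k : Subfield F) (t : F) (h : t = 2 ∨ t = -2 ∨ t = 0 ∨ t = 1 ∨ t = -1) :
    t ∈ k := by
  rcases h with rfl | rfl | rfl | rfl | rfl
  · exact two_mem k
  · exact k.neg_mem (two_mem k)
  · exact k.zero_mem
  · exact k.one_mem
  · exact k.neg_mem k.one_mem

lemma golden_mem2 (p : ℕ) [Fact p.Prime] [CharP F p] (hp2 : p ≠ 2) (τ : F)
    (h : τ ^ 2 + τ - 1 = 0 ∨ τ ^ 2 - τ - 1 = 0) : τ ∈ fixP F p hp2 2 := by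
  have key : ∀ τ : F, τ ^ 2 + τ - 1 = 0 → τ ∈ fixP F p hp2 2 := by
    intro τ h
    rw [mem_fixP]
    have hσ : (τ ^ p) ^ 2 + τ ^ p - 1 = 0 := by
      have := congrArg (frobenius F p) h
      rw [map_zero, map_sub, map_add, map_pow, map_one, frobenius_def] at this
      exact this
    have h4 : (τ ^ p - τ) * (τ ^ p + τ + 1) = 0 := by linear_combination hσ - h
    rw [pow_two, pow_mul]
    rcases mul_eq_zero.1 h4 with h5 | h5
    · have h6 : τ ^ p = τ := sub_eq_zero.1 h5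
      rw [h6, h6]
    · have h6 : τ ^ p = -τ - 1 := by linear_combination h5
      have e : (-τ - 1) ^ p = -(τ ^ p) - 1 := by
        have := map_sub (frobenius F p) (-τ) 1
        rw [map_neg, map_one, frobenius_def, frobenius_def] at this
        exact this
      rw [h6, e, h6]; ring
  rcases h with h | h
  · exact key τ h
  · have := key (-τ) (by linear_combination h)
    have h' := (fixP F p hp2 2).neg_mem this
    rwa [neg_neg] at h'

lemma golden_mem1 (p : ℕ) [Fact p.Prime] [CharP F p] (hp2 : p ≠ 2) (h2 : (2 : F) ≠ 0)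
    (hp5 : p % 5 = 1 ∨ p % 5 = 4) (τ : F)
    (h : τ ^ 2 + τ - 1 = 0 ∨ τ ^ 2 - τ - 1 = 0) : τ ∈ fixP F p hp2 1 := by
  haveI : Fact (Nat.Prime 5) := ⟨by norm_num⟩
  have hsq : IsSquare ((5 : ℕ) : ZMod p) := by
    rw [← ZMod.exists_sq_eq_prime_iff_of_mod_four_eq_one (p := 5) (q := p) (by norm_num) hp2]
    have e : ((p : ℕ) : ZMod 5) = ((p % 5 : ℕ) : ZMod 5) := (ZMod.natCast_mod p 5).symm
    rw [e]
    rcases hp5 with h | h <;> rw [h]
    · exact ⟨1, by norm_num⟩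
    · have e4 : ((4 : ℕ) : ZMod 5) = 2 * 2 := by rfl
      exact ⟨2, e4⟩
  obtain ⟨s, hs⟩ := hsq
  obtain ⟨ι, hι⟩ : ∃ ι : ZMod p →+* F, ι = ZMod.castHom (dvd_refl p) F := ⟨_, rfl⟩
  have hs' : (ι s) ^ 2 = 5 := by
    have := congrArg ι hs
    rw [map_natCast, map_mul] at this
    rw [pow_two, ← this]; norm_num
  have hsmem : ι s ∈ fixP F p hp2 1 := by
    rw [mem_fixP, pow_one, ← map_pow, ZMod.pow_card]
  have key : ∀ τ : F, τ ^ 2 + τ - 1 = 0 → τ ∈ fixP F p hp2 1 := by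
    intro τ h
    have h4 : (2 * τ + 1 - ι s) * (2 * τ + 1 + ι s) = 0 := by linear_combination 4 * h - hs'
    rcases mul_eq_zero.1 h4 with h5 | h5
    · have : τ = (ι s - 1) / 2 := by field_simp; linear_combination h5
      rw [this]
      exact (fixP F p hp2 1).div_mem ((fixP F p hp2 1).sub_mem hsmem (fixP F p hp2 1).one_mem)
        (two_mem _)
    · have : τ = (-(ι s) - 1) / 2 := by field_simp; linear_combination h5
      rw [this]
      exact (fixP F p hp2 1).div_mem ((fixP F p hp2 1).sub_mem ((fixP F p hp2 1).neg_mem hsmem)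
        (fixP F p hp2 1).one_mem) (two_mem _)
  rcases h with h | h
  · exact key τ h
  · have := key (-τ) (by linear_combination h)
    have h' := (fixP F p hp2 1).neg_mem this
    rwa [neg_neg] at h'

section fin

variable [Fintype F]

lemma card_fixP_ge (p : ℕ) [Fact p.Prime] [CharP F p] (hp2 : p ≠ 2) (j : ℕ) :
    p ≤ Nat.card (fixP F p hp2 j) := by
  obtain ⟨ι, hι⟩ : ∃ ι : ZMod p →+* F, ι = ZMod.castHom (dvd_refl p) F := ⟨_, rfl⟩
  have hmem : ∀ s : ZMod p, ι s ∈ fixP F p hp2 j := by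
    intro s; rw [mem_fixP, ← map_pow, ZMod.pow_card_pow]
  have hinj : Function.Injective (fun s : ZMod p => (⟨ι s, hmem s⟩ : fixP F p hp2 j)) := by
    intro s s' h
    exact ι.injective (congrArg Subtype.val h)
  have := Nat.card_le_card_of_injective _ hinj
  rwa [Nat.card_zmod] at this

lemma card_Sk_fixP_ge (p : ℕ) [Fact p.Prime] [CharP F p] (hp2 : p ≠ 2) (j c : ℕ) (hc : c ≤ p) :
    c * (c ^ 2 - 1) ≤ Nat.card (Sk (fixP F p hp2 j)) := by
  rw [card_Sk]
  have hr := card_fixP_ge (F := F) p hp2 j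
  exact Nat.mul_le_mul (hc.trans hr)
    (Nat.sub_le_sub_right (Nat.pow_le_pow_left (hc.trans hr) 2) 1)

theorem card_of_fix (p : ℕ) [Fact p.Prime] [CharP F p] (hp2 : p ≠ 2) (j : ℕ) (hj : 1 ≤ j)
    (h : ∀ x : F, x ∈ fixP F p hp2 j) : Fintype.card F ≤ p ^ j := by
  have hpp : p.Prime := Fact.out
  have := card_le_of_fix (F := F) (p ^ j) (Nat.one_lt_pow (by omega) hpp.one_lt)
    (fun x => (mem_fixP p hp2 j x).1 (h x))
  rwa [Nat.card_eq_fintype_card] at this

/-! ### Conjugation into subfield subgroups -/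

theorem into_Sk (hodd : Odd (Fintype.card F)) (k : Subfield F) (X : Subgroup SL(2, F))
    (A B : SL(2, F)) (hAX : A ∈ X) (hBX : B ∈ X) (hA : A * A = negOne)
    (hnd : tr B ^ 2 + tr (A * B) ^ 2 ≠ 4) (htr : ∀ x ∈ X, tr x ∈ k) :
    ∃ φ : SL(2, F) ≃* SL(2, F), X.map φ.toMonoidHom ≤ Sk k := by
  obtain ⟨φ, hφ⟩ := entries_mem hodd k A B hA (htr B hBX) (htr _ (X.mul_mem hAX hBX)) hnd
  refine ⟨φ, ?_⟩
  rintro _ ⟨x, hx, rfl⟩
  have := hφ 1 x (by rw [one_mul]; exact htr x hx)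
    (by rw [one_mul]; exact htr _ (X.mul_mem hAX hx))
    (by rw [one_mul]; exact htr _ (X.mul_mem hBX hx))
    (by rw [one_mul]; exact htr _ (X.mul_mem (X.mul_mem hAX hBX) hx))
  simp only [one_mul] at this
  exact this

theorem into_Pk (hodd : Odd (Fintype.card F)) (k : Subfield F) (X XT : Subgroup SL(2, F))
    (hTX : XT ≤ X) (A B : SL(2, F)) (hAX : A ∈ XT) (hBX : B ∈ XT) (hA : A * A = negOne)
    (hnd : tr B ^ 2 + tr (A * B) ^ 2 ≠ 4) (htr : ∀ x ∈ XT, tr x ∈ k) (ρ : F) (hρ : ρ ≠ 0)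
    (htr' : ∀ x ∈ X, x ∉ XT → ρ * tr x ∈ k) :
    ∃ φ : SL(2, F) ≃* SL(2, F), X.map φ.toMonoidHom ≤ Pk k := by
  obtain ⟨φ, hφ⟩ := entries_mem hodd k A B hA (htr B hBX) (htr _ (XT.mul_mem hAX hBX)) hnd
  refine ⟨φ, ?_⟩
  rintro _ ⟨x, hx, rfl⟩
  by_cases hxT : x ∈ XT
  · have := hφ 1 x (by rw [one_mul]; exact htr x hxT)
      (by rw [one_mul]; exact htr _ (XT.mul_mem hAX hxT))
      (by rw [one_mul]; exact htr _ (XT.mul_mem hBX hxT))
      (by rw [one_mul]; exact htr _ (XT.mul_mem (XT.mul_mem hAX hBX) hxT))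
    simp only [one_mul] at this
    exact Sk_le_Pk k this
  · have hnot : ∀ t ∈ XT, t * x ∉ XT := by
      intro t ht h
      apply hxT
      have := XT.mul_mem (XT.inv_mem ht) h
      rwa [inv_mul_cancel_left] at this
    have := hφ ρ x (htr' x hx hxT) (htr' _ (X.mul_mem (hTX hAX) hx) (hnot A hAX))
      (htr' _ (X.mul_mem (hTX hBX) hx) (hnot B hBX))
      (htr' _ (X.mul_mem (hTX (XT.mul_mem hAX hBX)) hx) (hnot _ (XT.mul_mem hAX hBX)))
    exact ⟨ρ, hρ, this.1, this.2.1, this.2.2.1, this.2.2.2⟩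

theorem Sk_top_of (X : Subgroup SL(2, F)) (hco : IsCoatom X) (φ : SL(2, F) ≃* SL(2, F))
    (k : Subfield F) (hle : X.map φ.toMonoidHom ≤ Sk k) (hc : Nat.card X ≠ Nat.card (Sk k)) :
    ∀ x : F, x ∈ k := by
  have hco' := isCoatom_map_equiv φ X hco
  have : Sk k = ⊤ := by
    by_contra hne
    have heq : X.map φ.toMonoidHom = Sk k := by
      by_contra hne'
      exact hne (hco'.2 _ (lt_of_le_of_ne hle hne'))
    apply hc
    rw [← heq, card_map_equiv]
  exact mem_of_Sk_top k this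

theorem Pk_top_of (X : Subgroup SL(2, F)) (hco : IsCoatom X) (φ : SL(2, F) ≃* SL(2, F))
    (k : Subfield F) (hle : X.map φ.toMonoidHom ≤ Pk k) (hc : Nat.card X < Nat.card (Sk k)) :
    ∀ x : F, x ∈ k := by
  haveI : Finite SL(2, F) := finite_SL
  have hco' := isCoatom_map_equiv φ X hco
  by_contra hex
  push Not at hex
  obtain ⟨t, ht⟩ := hex
  have hPtop := Pk_ne_top k t ht
  have heq : X.map φ.toMonoidHom = Pk k := by
    by_contra hne'
    exact hPtop (hco'.2 _ (lt_of_le_of_ne hle hne'))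
  have := Subgroup.card_le_of_le (Sk_le_Pk k)
  rw [← heq, card_map_equiv] at this
  omega

/-! ### Lifts -/

lemma lift_pow (M : Subgroup (Matrix.ProjectiveSpecialLinearGroup (Fin 2) F)) (x : SL(2, F))
    (g : M) (hg : proj x = g.1) (n : ℕ) (h : g ^ n = 1) : x ^ n = 1 ∨ x ^ n = negOne := by
  have h1 : proj (x ^ n) = 1 := by
    rw [map_pow, hg]
    have := congrArg Subtype.val h
    simpa using this
  exact (proj_eq_one_iff _).1 h1

lemma lift_ne (M : Subgroup (Matrix.ProjectiveSpecialLinearGroup (Fin 2) F)) (x : SL(2, F))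
    (g : M) (hg : proj x = g.1) (h : g ≠ 1) : x ≠ 1 ∧ x ≠ negOne := by
  constructor
  · rintro rfl
    apply h
    apply Subtype.ext
    rw [← hg, map_one]; rfl
  · rintro rfl
    apply h
    apply Subtype.ext
    rw [← hg, proj_negOne]; rfl

lemma coprime_of (p : ℕ) [Fact p.Prime] (X : Subgroup SL(2, F))
    (hp : ¬ p ∣ Nat.card X) (x : SL(2, F)) (hx : x ∈ X) : (orderOf x).Coprime p := by
  haveI : Finite SL(2, F) := finite_SL
  have hpp : p.Prime := Fact.out
  have hdvd : orderOf (⟨x, hx⟩ : X) ∣ Nat.card X := orderOf_dvd_natCard _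
  rw [Subgroup.orderOf_mk] at hdvd
  exact Nat.Coprime.coprime_dvd_left hdvd ((Nat.Prime.coprime_iff_not_dvd hpp).2 hp).symm

/-- the normal subgroups of a subgroup, seen in the ambient group -/
lemma le_normalizer_map {G : Type*} [Group G] (M : Subgroup G) (V' : Subgroup M)
    (hn : V'.Normal) : M ≤ Subgroup.normalizer ((V'.map M.subtype : Subgroup G) : Set G) := by
  intro m hm
  rw [Subgroup.mem_normalizer_iff]
  intro x
  constructor
  · rintro ⟨y, hy, rfl⟩
    exact ⟨⟨m, hm⟩ * y * ⟨m, hm⟩⁻¹, hn.conj_mem y hy _, rfl⟩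
  · rintro ⟨y, hy, hyx⟩
    refine ⟨⟨m, hm⟩⁻¹ * y * ⟨m, hm⟩, ?_, ?_⟩
    · have := hn.conj_mem y hy ⟨m, hm⟩⁻¹
      rwa [inv_inv] at this
    · have hyx' : (y : G) = m * x * m⁻¹ := hyx
      show m⁻¹ * (y : G) * m = x
      rw [hyx']
      group

end fin

end Cfsg.Agent.Lib.Helper6.Mx5
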