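import Mathlib
import Cfsg.Agent.Lib.Helper6.Mx5
import Cfsg.Agent.S0265

/-!
# Maximal subgroups of `PSL(2, q)`, `q` odd: the arithmetic of the cases `A₄`, `S₄`, `A₅` (helper6)

* `case_A4`, `case_S4`, `case_A5`: a maximal subgroup of `p'`-preimage isomorphic to `A₄`, `S₄`,
  `A₅` forces the field to be the trace field, hence `q = p` (or `p²`), with congruences;
* `case_res`: the residual case of characteristic 3 (`q = 9`);
* `s4_pgl3`: `S₄ ≅ PGL(2, 3)`.
-/

set_option autoImplicit false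
set_option linter.unusedSimpArgs false
set_option linter.unusedVariables false
set_option linter.unusedSectionVars false
set_option linter.style.haveILetI false
set_option linter.unnecessarySeqFocus false
set_option linter.unreachableTactic false
set_option linter.unusedTactic false

namespace Cfsg.Agent.Lib.Helper6.Mx6

open Matrix MatrixGroups
open Cfsg.Agent.Lib.Helper53.SL2Inv Cfsg.Agent.Lib.Helper53.SL2Unip
open Cfsg.Agent.Lib.Helper98.SL2Sub Cfsg.Agent.Lib.Helper98.SL2Core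
open Cfsg.Agent.Lib.Helper98.SL2Tor Cfsg.Agent.Lib.Helper98.PSL2Max
open Cfsg.Agent.Lib.Helper98.DicksonB Cfsg.Agent.Lib.Helper98.DicksonOdd
open Cfsg.Agent.Lib.Helper98.SL2Field
open Cfsg.Agent.S5941 (Pk Sk_le_Pk Pk_ne_top d_mem_Pk)
open Cfsg.Agent.Lib.Helper6.Sb2 Cfsg.Agent.Lib.Helper6.Dk2 Cfsg.Agent.Lib.Helper6.Dk3
  Cfsg.Agent.Lib.Helper6.Dk4
  Cfsg.Agent.Lib.Helper6.Dk5 Cfsg.Agent.Lib.Helper6.Mx1 Cfsg.Agent.Lib.Helper6.Mx2
  Cfsg.Agent.Lib.Helper6.Mx3 Cfsg.Agent.Lib.Helper6.Mx4 Cfsg.Agent.Lib.Helper6.Mx5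
open Cfsg.Agent.Lib.Helper98.DOdd10 (card_psl_odd five_dvd_of_mod)

/-! ### Abstract: a maximal `A₄` -/

theorem a4_max {G : Type*} [Group G] [Finite G] [IsSimpleGroup G] (M : Subgroup G)
    (hM : IsCoatom M) (e : M ≃* alternatingGroup (Fin 4)) (h13 : 13 ≤ Nat.card G) :
    ¬ 8 ∣ Nat.card G ∧
      ∀ S : Subgroup G, Nonempty (S ≃* alternatingGroup (Fin 5)) → Nat.card G = 60 := by
  haveI : Fact (Nat.Prime 2) := ⟨Nat.prime_two⟩
  have hcM : Nat.card M = 12 := by rw [Nat.card_congr e.toEquiv, card_A4]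
  have hα4 : Nat.card (Fin 4) = 4 := by simp
  obtain ⟨V', hV'⟩ : ∃ V' : Subgroup M,
      V' = (alternatingGroup.kleinFour (Fin 4)).map e.symm.toMonoidHom := ⟨_, rfl⟩
  have hV'n : V'.Normal := by
    rw [hV']
    exact Subgroup.Normal.map (alternatingGroup.normal_kleinFour hα4) _ e.symm.surjective
  have hV'c : Nat.card V' = 4 := by
    rw [hV', Subgroup.card_map_of_injective e.symm.injective,
      alternatingGroup.kleinFour_card_of_card_eq_four hα4]
  obtain ⟨V, hV⟩ : ∃ V : Subgroup G, V = V'.map M.subtype := ⟨_, rfl⟩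
  have hVc : Nat.card V = 4 := by
    rw [hV, Subgroup.card_map_of_injective (Subgroup.subtype_injective M), hV'c]
  have hnorm : M ≤ Subgroup.normalizer (V : Set G) := by
    rw [hV]; exact le_normalizer_map M V' hV'n
  have hNtop : Subgroup.normalizer (V : Set G) ≠ ⊤ :=
    normalizer_ne_top V (by rw [hVc]; norm_num) (by rw [hVc]; omega)
  have h8 : ¬ 8 ∣ Nat.card G := by
    intro h8
    have := eight_dvd_of_normal_four M hM V hnorm hNtop hVc h8
    rw [hcM] at this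
    omega
  refine ⟨h8, ?_⟩
  rintro S ⟨eS⟩
  by_contra hG
  obtain ⟨D, P₁, hD, hcD, hcP₁⟩ := a5_sub12
  exact excl_aux M hM 2 V hnorm (by rw [hVc]; norm_num) (by rw [hVc]; omega)
    (IsPGroup.of_card (n := 2) (by rw [hVc]; norm_num)) (by rw [hVc]; exact h8) S eS D P₁ hD
    (by rw [hcD, hcM]) (IsPGroup.of_card (n := 2) (by rw [hcP₁]; norm_num)) (by rw [hcP₁, hVc])
    (by rw [card_A5, hcM]; norm_num) (by rw [card_A5]; exact fun h => hG h.symm)

variable {F : Type*} [Field F] [Fintype F]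

/-! ### The trace field bound -/

theorem card_le_of_traces (p : ℕ) [Fact p.Prime] [CharP F p] (hp2 : p ≠ 2)
    (hodd : Odd (Fintype.card F)) (X : Subgroup SL(2, F)) (hco : IsCoatom X)
    (A B : SL(2, F)) (hAX : A ∈ X) (hBX : B ∈ X) (hA : A * A = negOne)
    (hnd : tr B ^ 2 + tr (A * B) ^ 2 ≠ 4) (j : ℕ) (hj : 1 ≤ j)
    (htr : ∀ x ∈ X, tr x ∈ fixP F p hp2 j) (c : ℕ) (hc : c ≤ p)
    (hlt : Nat.card X < c * (c ^ 2 - 1)) : Fintype.card F ≤ p ^ j := by
  obtain ⟨φ, hφ⟩ := into_Sk hodd (fixP F p hp2 j) X A B hAX hBX hA hnd htr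
  have hge := card_Sk_fixP_ge (F := F) p hp2 j c hc
  exact card_of_fix p hp2 j hj (Sk_top_of X hco φ _ hφ (by omega))

lemma card_eq_prime (p : ℕ) [Fact p.Prime] [CharP F p] (h : Fintype.card F ≤ p ^ 1) :
    Fintype.card F = p := by
  obtain ⟨n, -, hn⟩ := FiniteField.card F p
  have hpp : p.Prime := Fact.out
  rw [pow_one] at h
  have : p ^ 1 ≤ p ^ (n : ℕ) := Nat.pow_le_pow_right hpp.pos n.pos
  rw [pow_one, ← hn] at this
  omega

lemma card_eq_prime_or_sq (p : ℕ) [Fact p.Prime] [CharP F p] (h : Fintype.card F ≤ p ^ 2) :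
    Fintype.card F = p ∨ Fintype.card F = p ^ 2 := by
  obtain ⟨n, -, hn⟩ := FiniteField.card F p
  have hpp : p.Prime := Fact.out
  have hn1 : (n : ℕ) ≤ 2 := by
    by_contra hcon
    have h1 : p ^ 3 ≤ p ^ (n : ℕ) := Nat.pow_le_pow_right hpp.pos (by omega)
    have h2 : p ^ 2 < p ^ 3 := Nat.pow_lt_pow_right hpp.one_lt (by norm_num)
    rw [← hn] at h1
    omega
  have : (n : ℕ) = 1 ∨ (n : ℕ) = 2 := by have := n.pos; omega
  rcases this with h | h
  · left; rw [hn, h, pow_one]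
  · right; rw [hn, h]

/-- lifts of a generating pair of type `(2, 3, n)` -/
theorem lift_pair (p : ℕ) [Fact p.Prime] [CharP F p] (h2 : (2 : F) ≠ 0)
    (M : Subgroup (Matrix.ProjectiveSpecialLinearGroup (Fin 2) F))
    (hp : ¬ p ∣ Nat.card (M.comap proj))
    (a b : M) (ha1 : a ≠ 1) (ha2 : a ^ 2 = 1) (hb1 : b ≠ 1) (hb3 : b ^ 3 = 1) :
    ∃ A B : SL(2, F), A ∈ M.comap proj ∧ B ∈ M.comap proj ∧ proj A = a.1 ∧ proj B = b.1 ∧
      A * A = negOne ∧ (tr B = 1 ∨ tr B = -1) := by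
  obtain ⟨A, hA⟩ := proj_surj a.1
  obtain ⟨B, hB⟩ := proj_surj b.1
  have hAX : A ∈ M.comap proj := by show proj A ∈ M; rw [hA]; exact a.2
  have hBX : B ∈ M.comap proj := by show proj B ∈ M; rw [hB]; exact b.2
  refine ⟨A, B, hAX, hBX, hA, hB, ?_, ?_⟩
  · rcases lift_two h2 A (lift_pow M A a hA 2 ha2) with h | h | h
    · exact absurd h (lift_ne M A a hA ha1).1
    · exact absurd h (lift_ne M A a hA ha1).2
    · exact sq_of_tr_zero A h
  · rcases lift_three p h2 B (coprime_of p _ hp B hBX) (lift_pow M B b hB 3 hb3)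
      with h | h | h | h
    · exact absurd h (lift_ne M B b hB hb1).1
    · exact absurd h (lift_ne M B b hB hb1).2
    · exact Or.inl h
    · exact Or.inr h

lemma five_le_prime (p : ℕ) (hpp : p.Prime) (hp2 : p ≠ 2) (hp3 : p ≠ 3) : 5 ≤ p := by
  have := hpp.two_le
  by_contra hcon
  have h4 : p = 4 := by omega
  rw [h4] at hpp
  exact absurd hpp (by norm_num)

lemma seven_le_prime (p : ℕ) (hpp : p.Prime) (hp2 : p ≠ 2) (hp3 : p ≠ 3) (hp5 : p ≠ 5) :
    7 ≤ p := by
  have := five_le_prime p hpp hp2 hp3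
  by_contra hcon
  have h6 : p = 6 := by omega
  rw [h6] at hpp
  exact absurd hpp (by norm_num)

/-- the small traces of elements of order dividing 2 or 3 -/
lemma small_of_ord (p : ℕ) [Fact p.Prime] [CharP F p] (h2 : (2 : F) ≠ 0)
    (M : Subgroup (Matrix.ProjectiveSpecialLinearGroup (Fin 2) F))
    (hp : ¬ p ∣ Nat.card (M.comap proj)) (x : SL(2, F)) (hx : x ∈ M.comap proj) (g : M)
    (hg : proj x = g.1) (h : g ^ 2 = 1 ∨ g ^ 3 = 1) :
    tr x = 2 ∨ tr x = -2 ∨ tr x = 0 ∨ tr x = 1 ∨ tr x = -1 := by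
  rcases h with h | h
  · rcases lift_two h2 x (lift_pow M x g hg 2 h) with h | h | h
    · left; rw [h, tr_one]
    · right; left; rw [h, tr_negOne]
    · right; right; left; exact h
  · rcases lift_three p h2 x (coprime_of p _ hp x hx) (lift_pow M x g hg 3 h) with h | h | h | h
    · left; rw [h, tr_one]
    · right; left; rw [h, tr_negOne]
    · right; right; right; left; exact h
    · right; right; right; right; exact h

/-! ### `A₄` -/

theorem case_A4 (p : ℕ) [Fact p.Prime] [CharP F p] (hodd : Odd (Fintype.card F))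
    (h5 : 5 ≤ Fintype.card F)
    (M : Subgroup (Matrix.ProjectiveSpecialLinearGroup (Fin 2) F)) (hM : IsCoatom M)
    (hco : IsCoatom (M.comap proj)) (hp : ¬ p ∣ Nat.card (M.comap proj))
    (e : M ≃* alternatingGroup (Fin 4)) :
    Fintype.card F = p ∧ (p % 8 = 3 ∨ p % 8 = 5) ∧ ¬ (p % 10 = 1 ∨ p % 10 = 9) := by
  haveI : Finite SL(2, F) := finite_SL
  haveI : Finite (Matrix.ProjectiveSpecialLinearGroup (Fin 2) F) :=
    Finite.of_surjective _ proj_surj
  have h2 : (2 : F) ≠ 0 := two_ne_zero_of_odd hodd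
  have hpp : p.Prime := Fact.out
  have hcM : Nat.card M = 12 := by rw [Nat.card_congr e.toEquiv, card_A4]
  have hcX : Nat.card (M.comap proj) = 24 := by rw [card_comap h2 M, hcM]
  have hp2 : p ≠ 2 := by rintro rfl; apply hp; rw [hcX]; norm_num
  have hp3 : p ≠ 3 := by rintro rfl; apply hp; rw [hcX]; norm_num
  have hp5 : 5 ≤ p := five_le_prime p hpp hp2 hp3
  obtain ⟨hord, a, b, ha1, ha2, hb1, hb3, hab1, hab3⟩ := a4_facts e
  obtain ⟨A, B, hAX, hBX, hA, hB, hAA, htB⟩ := lift_pair p h2 M hp a b ha1 ha2 hb1 hb3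
  have hAB : proj (A * B) = (a * b).1 := by rw [map_mul, hA, hB]; rfl
  have hABX : A * B ∈ M.comap proj := Subgroup.mul_mem _ hAX hBX
  have htAB : tr (A * B) = 1 ∨ tr (A * B) = -1 := by
    rcases lift_three p h2 (A * B) (coprime_of p _ hp _ hABX)
      (lift_pow M (A * B) (a * b) hAB 3 hab3) with h | h | h | h
    · exact absurd h (lift_ne M _ _ hAB hab1).1
    · exact absurd h (lift_ne M _ _ hAB hab1).2
    · exact Or.inl h
    · exact Or.inr h
  have hnd : tr B ^ 2 + tr (A * B) ^ 2 ≠ 4 := by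
    have e1 : tr B ^ 2 = 1 := by rcases htB with h | h <;> rw [h] <;> ring
    have e2 : tr (A * B) ^ 2 = 1 := by rcases htAB with h | h <;> rw [h] <;> ring
    rw [e1, e2]
    intro h
    apply h2
    linear_combination -h
  have htr : ∀ x ∈ M.comap proj, tr x ∈ fixP F p hp2 1 := by
    intro x hx
    apply small_mem
    obtain ⟨g, hg⟩ : ∃ g : M, proj x = g.1 := ⟨⟨proj x, hx⟩, rfl⟩
    exact small_of_ord p h2 M hp x hx g hg (hord g)
  have hle := card_le_of_traces p hp2 hodd _ hco A B hAX hBX hAA hnd 1 le_rfl htr 5 hp5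
    (by rw [hcX]; norm_num)
  have hq : Fintype.card F = p := card_eq_prime p hle
  have hG := card_psl_odd (K := F) rfl hodd
  rw [hq] at hG
  haveI : IsSimpleGroup (Matrix.ProjectiveSpecialLinearGroup (Fin 2) F) :=
    Matrix.ProjectiveSpecialLinearGroup.rank_two_simple
      (by rw [Nat.card_eq_fintype_card]; omega)
  have hpodd : p % 2 = 1 := hpp.eq_two_or_odd.resolve_left hp2
  have hG60 : 60 ≤ Nat.card (Matrix.ProjectiveSpecialLinearGroup (Fin 2) F) := by
    have h1 : 5 * (5 ^ 2 - 1) ≤ p * (p ^ 2 - 1) :=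
      Nat.mul_le_mul hp5 (Nat.sub_le_sub_right (Nat.pow_le_pow_left hp5 2) 1)
    norm_num at h1
    omega
  obtain ⟨h8, hA5⟩ := a4_max M hM e (by omega)
  refine ⟨hq, ?_, ?_⟩
  · by_contra hcon
    have h16 : p ^ 2 % 16 = 1 := by
      have : p % 16 = 1 ∨ p % 16 = 7 ∨ p % 16 = 9 ∨ p % 16 = 15 := by omega
      rw [Nat.pow_mod]
      rcases this with h | h | h | h <;> rw [h]
    apply h8
    have hd : 16 ∣ p * (p ^ 2 - 1) := Dvd.dvd.mul_left (by omega) p
    rw [← hG] at hd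
    omega
  · intro h10
    have h5d : 5 ∣ p * (p ^ 2 - 1) := five_dvd_of_mod p (by omega)
    obtain ⟨S, hS⟩ := (Cfsg.Agent.S0804.result hq).2 h5d
    have h60 := hA5 S hS
    have hp9 : 9 ≤ p := by omega
    have h1 : 9 * (9 ^ 2 - 1) ≤ p * (p ^ 2 - 1) :=
      Nat.mul_le_mul hp9 (Nat.sub_le_sub_right (Nat.pow_le_pow_left hp9 2) 1)
    norm_num at h1
    omega

/-! ### `S₄` -/

theorem case_S4 (p : ℕ) [Fact p.Prime] [CharP F p] (hodd : Odd (Fintype.card F))
    (M : Subgroup (Matrix.ProjectiveSpecialLinearGroup (Fin 2) F))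
    (hco : IsCoatom (M.comap proj)) (hp : ¬ p ∣ Nat.card (M.comap proj))
    (e : M ≃* Equiv.Perm (Fin 4)) :
    Fintype.card F = p ∧ (p % 8 = 1 ∨ p % 8 = 7) := by
  haveI : Finite SL(2, F) := finite_SL
  haveI : Finite (Matrix.ProjectiveSpecialLinearGroup (Fin 2) F) :=
    Finite.of_surjective _ proj_surj
  have h2 : (2 : F) ≠ 0 := two_ne_zero_of_odd hodd
  have hpp : p.Prime := Fact.out
  have hcM : Nat.card M = 24 := by rw [Nat.card_congr e.toEquiv, card_S4]
  have hcX : Nat.card (M.comap proj) = 48 := by rw [card_comap h2 M, hcM]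
  have hp2 : p ≠ 2 := by rintro rfl; apply hp; rw [hcX]; norm_num
  have hp3 : p ≠ 3 := by rintro rfl; apply hp; rw [hcX]; norm_num
  have hp5 : 5 ≤ p := five_le_prime p hpp hp2 hp3
  obtain ⟨T, hT1, hT2, a, haT, b, hbT, ha1, ha2, hb1, hb3, hab1, hab3⟩ := s4_facts e
  obtain ⟨XT, hXT⟩ : ∃ XT : Subgroup SL(2, F), XT = (T.map M.subtype).comap proj := ⟨_, rfl⟩
  have hmemXT : ∀ x, x ∈ XT ↔ ∃ g ∈ T, proj x = g.1 := by
    intro x; rw [hXT]; constructor
    · rintro ⟨g, hg, hgx⟩; exact ⟨g, hg, hgx.symm⟩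
    · rintro ⟨g, hg, hgx⟩; exact ⟨g, hg, hgx.symm⟩
  have hTX : XT ≤ M.comap proj := by
    intro x hx
    obtain ⟨g, -, hg⟩ := (hmemXT x).1 hx
    show proj x ∈ M
    rw [hg]; exact g.2
  obtain ⟨A, B, hAX, hBX, hA, hB, hAA, htB⟩ := lift_pair p h2 M hp a b ha1 ha2 hb1 hb3
  have hAT : A ∈ XT := (hmemXT A).2 ⟨a, haT, hA⟩
  have hBT : B ∈ XT := (hmemXT B).2 ⟨b, hbT, hB⟩
  have hAB : proj (A * B) = (a * b).1 := by rw [map_mul, hA, hB]; rfl
  have hABX : A * B ∈ M.comap proj := Subgroup.mul_mem _ hAX hBX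
  have htAB : tr (A * B) = 1 ∨ tr (A * B) = -1 := by
    rcases lift_three p h2 (A * B) (coprime_of p _ hp _ hABX)
      (lift_pow M (A * B) (a * b) hAB 3 hab3) with h | h | h | h
    · exact absurd h (lift_ne M _ _ hAB hab1).1
    · exact absurd h (lift_ne M _ _ hAB hab1).2
    · exact Or.inl h
    · exact Or.inr h
  have hnd : tr B ^ 2 + tr (A * B) ^ 2 ≠ 4 := by
    have e1 : tr B ^ 2 = 1 := by rcases htB with h | h <;> rw [h] <;> ring
    have e2 : tr (A * B) ^ 2 = 1 := by rcases htAB with h | h <;> rw [h] <;> ring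
    rw [e1, e2]
    intro h
    apply h2
    linear_combination -h
  have htr : ∀ x ∈ XT, tr x ∈ fixP F p hp2 1 := by
    intro x hx
    apply small_mem
    obtain ⟨g, hgT, hg⟩ := (hmemXT x).1 hx
    exact small_of_ord p h2 M hp x (hTX hx) g hg (hT1 g hgT)
  obtain ⟨ρ, hρ0, hρ⟩ : ∃ ρ : F, ρ ≠ 0 ∧
      ∀ t : F, t = 0 ∨ t ^ 2 = 2 → ρ * t ∈ fixP F p hp2 1 := by
    by_cases hex : ∃ t₀ : F, t₀ ^ 2 = 2
    · obtain ⟨t₀, ht₀⟩ := hex
      have ht₀0 : t₀ ≠ 0 := by
        rintro rfl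
        apply h2
        rw [← ht₀]; ring
      refine ⟨t₀⁻¹, inv_ne_zero ht₀0, ?_⟩
      rintro t (rfl | ht)
      · rw [mul_zero]; exact Subfield.zero_mem _
      · have h0 : (t - t₀) * (t + t₀) = 0 := by linear_combination ht - ht₀
        rcases mul_eq_zero.1 h0 with h | h
        · have ht' : t = t₀ := sub_eq_zero.1 h
          rw [ht', inv_mul_cancel₀ ht₀0]; exact Subfield.one_mem _
        · have ht' : t = -t₀ := by linear_combination h
          rw [ht', mul_neg, inv_mul_cancel₀ ht₀0]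
          exact Subfield.neg_mem _ (Subfield.one_mem _)
    · refine ⟨1, one_ne_zero, ?_⟩
      rintro t (rfl | ht)
      · rw [mul_zero]; exact Subfield.zero_mem _
      · exact absurd ⟨t, ht⟩ hex
  have htr' : ∀ x ∈ M.comap proj, x ∉ XT → ρ * tr x ∈ fixP F p hp2 1 := by
    intro x hx hxT
    apply hρ
    obtain ⟨g, hg⟩ : ∃ g : M, proj x = g.1 := ⟨⟨proj x, hx⟩, rfl⟩
    have hgT : g ∉ T := fun h => hxT ((hmemXT x).2 ⟨g, h, hg⟩)
    rcases lift_four h2 x (lift_pow M x g hg 4 (hT2 g hgT)) with h | h | h | h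
    · exfalso; apply hxT; rw [h]; exact XT.one_mem
    · exfalso; apply hxT; rw [h, hmemXT]
      exact ⟨1, T.one_mem, by rw [proj_negOne]; rfl⟩
    · exact Or.inl h
    · exact Or.inr h
  obtain ⟨φ, hφ⟩ := into_Pk hodd (fixP F p hp2 1) (M.comap proj) XT hTX A B hAT hBT hAA hnd
    htr ρ hρ0 htr'
  have hge := card_Sk_fixP_ge (F := F) p hp2 1 5 hp5
  have hall := Pk_top_of _ hco φ _ hφ (by rw [hcX]; norm_num at hge; omega)
  have hq := card_eq_prime p (card_of_fix p hp2 1 le_rfl hall)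
  refine ⟨hq, ?_⟩
  have hG := card_psl_odd (K := F) rfl hodd
  rw [hq] at hG
  have hdvd : Nat.card M ∣ Nat.card (Matrix.ProjectiveSpecialLinearGroup (Fin 2) F) :=
    Subgroup.card_subgroup_dvd_card M
  rw [hcM] at hdvd
  by_contra hcon
  have hpodd : p % 2 = 1 := hpp.eq_two_or_odd.resolve_left hp2
  have hp16 : p % 16 = 3 ∨ p % 16 = 5 ∨ p % 16 = 11 ∨ p % 16 = 13 := by omega
  have h16 : p ^ 2 % 16 = 9 := by
    rw [Nat.pow_mod]
    rcases hp16 with h | h | h | h <;> rw [h]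
  obtain ⟨N, hN⟩ : ∃ N, p ^ 2 = N + 1 :=
    ⟨p ^ 2 - 1, by have := Nat.pow_pos (n := 2) hpp.pos; omega⟩
  have hN' : p ^ 2 - 1 = N := by omega
  rw [hN'] at hG
  have hN16 : N % 16 = 8 := by omega
  have hpN : (p * N) % 16 = 8 := by
    rw [Nat.mul_mod, hN16]
    rcases hp16 with h | h | h | h <;> rw [h]
  obtain ⟨c, hc⟩ := hdvd
  rw [hc] at hG
  omega

/-! ### `A₅` -/

theorem case_A5 (p : ℕ) [Fact p.Prime] [CharP F p] (hodd : Odd (Fintype.card F))
    (M : Subgroup (Matrix.ProjectiveSpecialLinearGroup (Fin 2) F))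
    (hco : IsCoatom (M.comap proj)) (hp : ¬ p ∣ Nat.card (M.comap proj))
    (e : M ≃* alternatingGroup (Fin 5)) :
    (Fintype.card F % 10 = 1 ∨ Fintype.card F % 10 = 9) ∧
      (Fintype.card F = p ∨ (Fintype.card F = p ^ 2 ∧ (p % 10 = 3 ∨ p % 10 = 7))) := by
  haveI : Finite SL(2, F) := finite_SL
  haveI : Finite (Matrix.ProjectiveSpecialLinearGroup (Fin 2) F) :=
    Finite.of_surjective _ proj_surj
  have h2 : (2 : F) ≠ 0 := two_ne_zero_of_odd hodd
  have hpp : p.Prime := Fact.out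
  have hcM : Nat.card M = 60 := by rw [Nat.card_congr e.toEquiv, card_A5]
  have hcX : Nat.card (M.comap proj) = 120 := by rw [card_comap h2 M, hcM]
  have hp2 : p ≠ 2 := by rintro rfl; apply hp; rw [hcX]; norm_num
  have hp3 : p ≠ 3 := by rintro rfl; apply hp; rw [hcX]; norm_num
  have hp5 : p ≠ 5 := by rintro rfl; apply hp; rw [hcX]; norm_num
  have hp7 : 7 ≤ p := seven_le_prime p hpp hp2 hp3 hp5
  have hpodd : p % 2 = 1 := hpp.eq_two_or_odd.resolve_left hp2
  have hp5' : p % 5 ≠ 0 := by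
    intro h
    have hd : 5 ∣ p := Nat.dvd_of_mod_eq_zero h
    exact hp5 ((Nat.prime_dvd_prime_iff_eq (by norm_num) hpp).1 hd).symm
  obtain ⟨hord, a, b, ha1, ha2, hb1, hb3, hab1, hab5⟩ := a5_facts e
  obtain ⟨A, B, hAX, hBX, hA, hB, hAA, htB⟩ := lift_pair p h2 M hp a b ha1 ha2 hb1 hb3
  have hAB : proj (A * B) = (a * b).1 := by rw [map_mul, hA, hB]; rfl
  have hABX : A * B ∈ M.comap proj := Subgroup.mul_mem _ hAX hBX
  have htAB : tr (A * B) ^ 2 + tr (A * B) - 1 = 0 ∨ tr (A * B) ^ 2 - tr (A * B) - 1 = 0 := by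
    rcases lift_five p h2 (A * B) (coprime_of p _ hp _ hABX)
      (lift_pow M (A * B) (a * b) hAB 5 hab5) with h | h | h | h
    · exact absurd h (lift_ne M _ _ hAB hab1).1
    · exact absurd h (lift_ne M _ _ hAB hab1).2
    · exact Or.inl h
    · exact Or.inr h
  have hnd : tr B ^ 2 + tr (A * B) ^ 2 ≠ 4 := by
    have e1 : tr B ^ 2 = 1 := by rcases htB with h | h <;> rw [h] <;> ring
    intro h
    have hz3 : tr (A * B) ^ 2 = 3 := by linear_combination h - e1
    rcases htAB with hz | hz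
    · have hz' : tr (A * B) = -2 := by linear_combination hz - hz3
      rw [hz'] at hz3
      exact one_ne_zero (by linear_combination hz3 : (1 : F) = 0)
    · have hz' : tr (A * B) = 2 := by linear_combination hz3 - hz
      rw [hz'] at hz3
      exact one_ne_zero (by linear_combination hz3 : (1 : F) = 0)
  have hcls : ∀ x ∈ M.comap proj,
      (tr x = 2 ∨ tr x = -2 ∨ tr x = 0 ∨ tr x = 1 ∨ tr x = -1) ∨
        (tr x ^ 2 + tr x - 1 = 0 ∨ tr x ^ 2 - tr x - 1 = 0) := by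
    intro x hx
    obtain ⟨g, hg⟩ : ∃ g : M, proj x = g.1 := ⟨⟨proj x, hx⟩, rfl⟩
    rcases hord g with h | h | h
    · exact Or.inl (small_of_ord p h2 M hp x hx g hg (Or.inl h))
    · exact Or.inl (small_of_ord p h2 M hp x hx g hg (Or.inr h))
    · rcases lift_five p h2 x (coprime_of p _ hp x hx) (lift_pow M x g hg 5 h) with h | h | h | h
      · left; left; rw [h, tr_one]
      · left; right; left; rw [h, tr_negOne]
      · right; left; exact h
      · right; right; exact h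
  have htr2 : ∀ x ∈ M.comap proj, tr x ∈ fixP F p hp2 2 := fun x hx =>
    (hcls x hx).elim (small_mem _ _) (golden_mem2 p hp2 _)
  have hle2 := card_le_of_traces p hp2 hodd _ hco A B hAX hBX hAA hnd 2 (by norm_num) htr2 7 hp7
    (by rw [hcX]; norm_num)
  rcases card_eq_prime_or_sq p hle2 with hq | hq
  · refine ⟨?_, Or.inl hq⟩
    rw [hq]
    have hG := card_psl_odd (K := F) rfl hodd
    rw [hq] at hG
    have hdvd : Nat.card M ∣ Nat.card (Matrix.ProjectiveSpecialLinearGroup (Fin 2) F) :=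
      Subgroup.card_subgroup_dvd_card M
    rw [hcM] at hdvd
    by_contra hcon
    have h5 : p % 5 = 2 ∨ p % 5 = 3 := by omega
    have hsq : p ^ 2 % 5 = 4 := by
      rw [Nat.pow_mod]
      rcases h5 with h | h <;> rw [h]
    obtain ⟨N, hN⟩ : ∃ N, p ^ 2 = N + 1 :=
      ⟨p ^ 2 - 1, by have := Nat.pow_pos (n := 2) hpp.pos; omega⟩
    have hN' : p ^ 2 - 1 = N := by omega
    rw [hN'] at hG
    have hN5 : N % 5 = 3 := by omega
    have hpN : (p * N) % 5 ≠ 0 := by
      rw [Nat.mul_mod, hN5]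
      rcases h5 with h | h <;> rw [h] <;> norm_num
    obtain ⟨c, hc⟩ := hdvd
    rw [hc] at hG
    omega
  · have hmod : p % 10 = 3 ∨ p % 10 = 7 := by
      by_contra hcon
      have h5 : p % 5 = 1 ∨ p % 5 = 4 := by omega
      have htr1 : ∀ x ∈ M.comap proj, tr x ∈ fixP F p hp2 1 := fun x hx =>
        (hcls x hx).elim (small_mem _ _) (golden_mem1 p hp2 h2 h5 _)
      have hle1 := card_le_of_traces p hp2 hodd _ hco A B hAX hBX hAA hnd 1 le_rfl htr1 7 hp7
        (by rw [hcX]; norm_num)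
      rw [hq, pow_one] at hle1
      nlinarith [hpp.one_lt]
    refine ⟨?_, Or.inr ⟨hq, hmod⟩⟩
    rw [hq, Nat.pow_mod]
    have h100 : p % 10 = 3 ∨ p % 10 = 7 := hmod
    rcases h100 with h | h <;> rw [h] <;> norm_num

/-! ### The residual case of characteristic 3 -/

theorem case_res (p : ℕ) [Fact p.Prime] [CharP F p] (hodd : Odd (Fintype.card F))
    (M : Subgroup (Matrix.ProjectiveSpecialLinearGroup (Fin 2) F)) (hM : IsCoatom M)
    (hco : IsCoatom (M.comap proj)) (hp : p ∣ Nat.card (M.comap proj))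
    (hnb : ¬ ∃ g : SL(2, F), ∀ y ∈ M.comap proj, (g * y * g⁻¹).1 1 0 = 0)
    (h3 : (3 : F) = 0) (φ : SL(2, F) ≃* SL(2, F)) (i : F) (hi : i ^ 2 = -1)
    (hle : (M.comap proj).map φ.toMonoidHom ≤ Sk (k9 i hi))
    (hne : (M.comap proj).map φ.toMonoidHom ≠ Sk (k9 i hi)) :
    Fintype.card F = 9 ∧ p = 3 ∧
      (Nonempty (M ≃* Equiv.Perm (Fin 4)) ∨ Nonempty (M ≃* alternatingGroup (Fin 5))) := by
  haveI : Finite SL(2, F) := finite_SL
  haveI : Finite (Matrix.ProjectiveSpecialLinearGroup (Fin 2) F) :=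
    Finite.of_surjective _ proj_surj
  have h2 : (2 : F) ≠ 0 := two_ne_zero_of_odd hodd
  have hp3 : p = 3 := by
    have h3' : ((3 : ℕ) : F) = 0 := by exact_mod_cast h3
    have hd := (CharP.cast_eq_zero_iff F p 3).1 h3'
    exact (Nat.prime_dvd_prime_iff_eq Fact.out Nat.prime_three).1 hd
  have hco' := isCoatom_map_equiv φ _ hco
  have htop : Sk (k9 i hi) = ⊤ := hco'.2 _ (lt_of_le_of_ne hle hne)
  have hall := mem_of_Sk_top _ htop
  have hq : Fintype.card F = 9 := by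
    rw [← card_k9 h2 h3 i hi, ← Nat.card_eq_fintype_card]
    exact (Nat.card_congr (Equiv.subtypeUnivEquiv hall)).symm
  obtain ⟨X', hX'⟩ : ∃ X', X' = (M.comap proj).map φ.toMonoidHom := ⟨_, rfl⟩
  rw [← hX'] at hle hne
  have hnegX' : negOne ∈ X' := by
    rw [hX']
    exact ⟨negOne, negOne_mem_comap M, map_negOne h2 φ⟩
  obtain ⟨hd720, hle60⟩ := card_le_sixty h2 h3 i hi X' hnegX' hle hne
  have hHX : (M.comap proj).map proj = M :=
    Subgroup.map_comap_eq_self_of_surjective proj_surj M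
  have isoH : M ≃* (M.comap proj).map proj := MulEquiv.subgroupCongr hHX.symm
  obtain ⟨φ0⟩ := transport φ (M.comap proj)
  rw [← hX'] at φ0
  have hcX : Nat.card (M.comap proj) = 2 * Nat.card M := card_comap h2 M
  have hcX' : Nat.card X' = Nat.card (M.comap proj) := by rw [hX']; exact card_map_equiv _ φ
  have hcH : Nat.card M = Nat.card (X'.map proj) := Nat.card_congr (isoH.trans φ0).toEquiv
  have hd360 : Nat.card M ∣ 360 := by
    rw [hcX', hcX] at hd720
    have e : (720 : ℕ) = 2 * 360 := by norm_num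
    rw [e] at hd720
    exact (Nat.mul_dvd_mul_iff_left (by norm_num : 0 < 2)).1 hd720
  rcases case_unip p h2 hp3 M hp hnb hd360 (by rw [hcH]; exact hle60) with ⟨⟨e⟩⟩ | h | h
  · exfalso
    haveI : IsSimpleGroup (Matrix.ProjectiveSpecialLinearGroup (Fin 2) F) :=
      Matrix.ProjectiveSpecialLinearGroup.rank_two_simple
        (by rw [Nat.card_eq_fintype_card, hq]; norm_num)
    have hG := card_psl_odd (K := F) hq (by decide)
    have hG' : Nat.card (Matrix.ProjectiveSpecialLinearGroup (Fin 2) F) = 360 := by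
      norm_num at hG; omega
    exact (a4_max M hM e (by rw [hG']; norm_num)).1 (by rw [hG']; norm_num)
  · exact ⟨hq, hp3, Or.inl h⟩
  · exact ⟨hq, hp3, Or.inr h⟩

/-- `S₄ ≅ PGL(2, 3)`, seen inside `PSL(2, 9)` -/
theorem s4_pgl3 (hq : Fintype.card F = 9) :
    Nonempty (Equiv.Perm (Fin 4) ≃* Matrix.ProjGenLinGroup (Fin 2) (ZMod 3)) := by
  haveI : Finite SL(2, F) := finite_SL
  haveI : Finite (Matrix.ProjectiveSpecialLinearGroup (Fin 2) F) :=
    Finite.of_surjective _ proj_surj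
  have hodd : Odd (Fintype.card F) := by rw [hq]; decide
  have h2 : (2 : F) ≠ 0 := two_ne_zero_of_odd hodd
  obtain ⟨p, hpc⟩ := CharP.exists F
  haveI := hpc
  haveI : Fact p.Prime := ⟨CharP.char_is_prime F p⟩
  have hp3 : p = 3 := by
    obtain ⟨n, hpp, hn⟩ := FiniteField.card F p
    rw [hq] at hn
    have h9 : p ∣ 3 ^ 2 := by
      have : (3 : ℕ) ^ 2 = 9 := by norm_num
      rw [this, hn]
      exact dvd_pow_self p n.ne_zero
    exact (Nat.prime_dvd_prime_iff_eq hpp Nat.prime_three).1 (hpp.dvd_of_dvd_pow h9)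
  obtain ⟨H, hH, ⟨ψ⟩⟩ := Cfsg.Agent.S5941.result (F := F) (K := ZMod 3) 3 (ZMod.card 3)
    (by rw [hq]; norm_num) (by decide)
  have hcH : Nat.card H = 24 := by
    rw [Nat.card_congr ψ.toEquiv, Cfsg.Agent.S0265.result (F := ZMod 3) 2,
      Cfsg.Agent.Lib.Helper5.SL2Card.card_SL_two (ZMod.card 3)]
    norm_num
  have hcX : Nat.card (H.comap proj) = 48 := by rw [card_comap h2 H, hcH]
  have hnb : ¬ ∃ g : SL(2, F), ∀ y ∈ H.comap proj, (g * y * g⁻¹).1 1 0 = 0 := by
    rintro ⟨g, hg⟩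
    have := card_dvd_of_borel (H.comap proj) g hg
    rw [hcX, hq] at this
    omega
  have hp' : p ∣ Nat.card (H.comap proj) := by rw [hcX, hp3]; norm_num
  rcases case_unip p h2 hp3 H hp' hnb (by rw [hcH]; norm_num) (by rw [hcH]; norm_num)
    with ⟨⟨e⟩⟩ | ⟨⟨e⟩⟩ | ⟨⟨e⟩⟩
  · exfalso
    have := Nat.card_congr e.toEquiv
    rw [hcH, card_A4] at this
    omega
  · exact ⟨e.symm.trans ψ⟩
  · exfalso
    have := Nat.card_congr e.toEquiv
    rw [hcH, card_A5] at this
    omega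

end Cfsg.Agent.Lib.Helper6.Mx6
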