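import Mathlib
import Cfsg.Agent.Lib.Helper6.Mx6

/-!
# Maximal subgroups of `PGL(2, q)`, `q` odd: basics on the pair `Sk k ≤ Pk k` (helper6)

`PGL(2, k)` is realised as `Pk k / ±1` inside `PSL(2, F)` for a quadratic extension `F` of `k`.
This file: elementary facts on `Pk k` and `Sk k`, frames (pairs of elements from whose relative
traces matrix entries can be recovered), the predicate `MaxIn` and its transport, and the trace of
Frobenius powers.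
-/

set_option autoImplicit false
set_option linter.unusedSimpArgs false
set_option linter.unusedVariables false
set_option linter.unusedSectionVars false
set_option linter.style.haveILetI false
set_option linter.unnecessarySeqFocus false
set_option linter.unreachableTactic false
set_option linter.unusedTactic false

namespace Cfsg.Agent.Lib.Helper6.Pg1

open Matrix MatrixGroups
open Cfsg.Agent.Lib.Helper53.SL2Inv Cfsg.Agent.Lib.Helper53.SL2Unip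
open Cfsg.Agent.Lib.Helper98.SL2Sub Cfsg.Agent.Lib.Helper98.SL2Core
open Cfsg.Agent.Lib.Helper98.SL2Tor Cfsg.Agent.Lib.Helper98.PSL2Max
open Cfsg.Agent.Lib.Helper98.DicksonB Cfsg.Agent.Lib.Helper98.DicksonOdd
open Cfsg.Agent.Lib.Helper98.SL2Field Cfsg.Agent.Lib.Helper98.SL2Quad
open Cfsg.Agent.S5941 (Pk Sk_le_Pk Pk_ne_top d_mem_Pk)
open Cfsg.Agent.Lib.Helper6.Sb2 Cfsg.Agent.Lib.Helper6.Dk2 Cfsg.Agent.Lib.Helper6.Dk3
  Cfsg.Agent.Lib.Helper6.Dk4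
  Cfsg.Agent.Lib.Helper6.Dk5 Cfsg.Agent.Lib.Helper6.Mx1 Cfsg.Agent.Lib.Helper6.Mx2
  Cfsg.Agent.Lib.Helper6.Mx3 Cfsg.Agent.Lib.Helper6.Mx4 Cfsg.Agent.Lib.Helper6.Mx5
  Cfsg.Agent.Lib.Helper6.Mx6

variable {F : Type*} [Field F]

/-! ### Elementary facts -/

lemma Pk_mono {k k' : Subfield F} (h : k ≤ k') : Pk k ≤ Pk k' := by
  rintro g ⟨c, hc, h1, h2, h3, h4⟩
  exact ⟨c, hc, h h1, h h2, h h3, h h4⟩

lemma mem_of_u_mem_Pk (k : Subfield F) (t : F) (h : u t ∈ Pk k) : t ∈ k := by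
  obtain ⟨c, hc, h00, h01, -, -⟩ := h
  rw [u00, mul_one] at h00
  rw [u01] at h01
  have : t = (c * t) / c := by field_simp
  rw [this]
  exact k.div_mem h01 h00

lemma le_of_Sk_le_Pk {k k' : Subfield F} (h : Sk k ≤ Pk k') : k ≤ k' :=
  fun t ht => mem_of_u_mem_Pk k' t (h (u_mem_Sk ht))

lemma negOne_mem_Sk (k : Subfield F) : (negOne : SL(2, F)) ∈ Sk k := by
  refine ⟨?_, ?_, ?_, ?_⟩
  · rw [n00]; exact k.neg_mem k.one_mem
  · rw [n01]; exact k.zero_mem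
  · rw [n10]; exact k.zero_mem
  · rw [n11]; exact k.neg_mem k.one_mem

lemma W_mem_Sk (k : Subfield F) : (W : SL(2, F)) ∈ Sk k := by
  refine ⟨?_, ?_, ?_, ?_⟩
  · rw [W00]; exact k.zero_mem
  · rw [W01]; first | exact k.one_mem | exact k.neg_mem k.one_mem
  · rw [W10]; first | exact k.one_mem | exact k.neg_mem k.one_mem
  · rw [W11]; exact k.zero_mem

/-- traces against elements of `Sk k` -/
lemma tr_mul_mem (k : Subfield F) (s x : SL(2, F)) (hs : s ∈ Sk k) (c : F)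
    (h00 : c * x.1 0 0 ∈ k) (h01 : c * x.1 0 1 ∈ k) (h10 : c * x.1 1 0 ∈ k)
    (h11 : c * x.1 1 1 ∈ k) : c * tr (s * x) ∈ k := by
  obtain ⟨s00, s01, s10, s11⟩ := hs
  rw [tr_def, mul00, mul11]
  have : c * (s.1 0 0 * x.1 0 0 + s.1 0 1 * x.1 1 0 + (s.1 1 0 * x.1 0 1 + s.1 1 1 * x.1 1 1)) =
      s.1 0 0 * (c * x.1 0 0) + s.1 0 1 * (c * x.1 1 0) +
        (s.1 1 0 * (c * x.1 0 1) + s.1 1 1 * (c * x.1 1 1)) := by ring
  rw [this]
  exact k.add_mem (k.add_mem (k.mul_mem s00 h00) (k.mul_mem s01 h10))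
    (k.add_mem (k.mul_mem s10 h01) (k.mul_mem s11 h11))

lemma tr_mem_of_entries (k : Subfield F) (x : SL(2, F)) (c : F)
    (h00 : c * x.1 0 0 ∈ k) (h11 : c * x.1 1 1 ∈ k) : c * tr x ∈ k := by
  rw [tr_def, mul_add]
  exact k.add_mem h00 h11

lemma tr_mem_of_Sk (k : Subfield F) (x : SL(2, F)) (h : x ∈ Sk k) : tr x ∈ k := by
  rw [tr_def]
  exact k.add_mem h.1 h.2.2.2

/-- elements of odd order of `Pk k` lie in `Sk k` -/
lemma odd_mem_Sk (k : Subfield F) (g : SL(2, F)) (hg : g ∈ Pk k) (n : ℕ) (hn : Odd n)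
    (h : g ^ n = 1) : g ∈ Sk k := by
  obtain ⟨j, hj⟩ := hn
  have e : g = (g * g) ^ (j + 1) := by
    rw [← pow_two, ← pow_mul]
    have : 2 * (j + 1) = n + 1 := by omega
    rw [this, pow_succ, h, one_mul]
  rw [e]
  exact (Sk k).pow_mem (sq_mem_Sk k g hg) _

section fin

variable [Finite F]

/-- `Sk k` is normalised by `Pk k` -/
lemma conj_mem_Sk (h2 : (2 : F) ≠ 0) (k : Subfield F) (g s : SL(2, F)) (hg : g ∈ Pk k)
    (hs : s ∈ Sk k) : g * s * g⁻¹ ∈ Sk k := by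
  by_cases hgS : g ∈ Sk k
  · exact (Sk k).mul_mem ((Sk k).mul_mem hgS hs) ((Sk k).inv_mem hgS)
  · have h1 : g * s ∈ Pk k := (Pk k).mul_mem hg (Sk_le_Pk k hs)
    have h2' : g * s ∉ Sk k := by
      intro h
      apply hgS
      have := (Sk k).mul_mem h ((Sk k).inv_mem hs)
      rwa [mul_inv_cancel_right] at this
    have h3 : g⁻¹ ∉ Sk k := fun h => hgS (by simpa using (Sk k).inv_mem h)
    exact mul_mem_Sk_of_not_mem h2 k (g * s) g⁻¹ h1 ((Pk k).inv_mem hg) h2' h3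

/-- a subgroup of `Pk k` not inside `Sk k` meets `Sk k` in a subgroup of index two -/
theorem card_inf_Sk (h2 : (2 : F) ≠ 0) (k : Subfield F) (Y : Subgroup SL(2, F))
    (hle : Y ≤ Pk k) (hn : ¬ Y ≤ Sk k) :
    Nat.card Y = 2 * Nat.card (Y ⊓ Sk k : Subgroup SL(2, F)) := by
  haveI : Finite SL(2, F) := finite_SL
  obtain ⟨y₀, hy₀Y, hy₀S⟩ := SetLike.not_le_iff_exists.1 hn
  have hidx : ((Sk k).subgroupOf Y).index = 2 := by
    rw [Subgroup.index_eq_two_iff]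
    refine ⟨⟨y₀, hy₀Y⟩, ?_⟩
    intro b
    by_cases hb : (b : SL(2, F)) ∈ Sk k
    · right
      refine ⟨Subgroup.mem_subgroupOf.2 hb, ?_⟩
      intro h
      have h' : (b : SL(2, F)) * y₀ ∈ Sk k := Subgroup.mem_subgroupOf.1 h
      apply hy₀S
      have := (Sk k).mul_mem ((Sk k).inv_mem hb) h'
      rwa [inv_mul_cancel_left] at this
    · left
      refine ⟨?_, fun h => hb (Subgroup.mem_subgroupOf.1 h)⟩
      rw [Subgroup.mem_subgroupOf]
      exact mul_mem_Sk_of_not_mem h2 k b y₀ (hle b.2) (hle hy₀Y) hb hy₀S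
  have h1 := Subgroup.card_mul_index ((Sk k).subgroupOf Y)
  rw [hidx] at h1
  have h3 : Nat.card ((Sk k).subgroupOf Y) = Nat.card (Y ⊓ Sk k : Subgroup SL(2, F)) := by
    rw [← Subgroup.card_map_of_injective (Subgroup.subtype_injective Y),
      Subgroup.subgroupOf_map_subtype, inf_comm]
  rw [← h3, ← h1, mul_comm]

theorem card_Pk_of_ne (h2 : (2 : F) ≠ 0) (k : Subfield F) (hne : ¬ Pk k ≤ Sk k) :
    Nat.card (Pk k) = 2 * Nat.card (Sk k) := by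
  have := card_inf_Sk h2 k (Pk k) le_rfl hne
  rwa [inf_eq_right.2 (Sk_le_Pk k)] at this

end fin

/-! ### Frames -/

/-- a pair of elements from whose relative traces the entries can be recovered -/
def Frame (A₀ B₀ : SL(2, F)) : Prop :=
  ∀ κ : Subfield F, A₀ ∈ Sk κ → B₀ ∈ Sk κ → ∀ (ρ : F) (x : SL(2, F)),
    ρ * tr x ∈ κ → ρ * tr (A₀ * x) ∈ κ → ρ * tr (B₀ * x) ∈ κ → ρ * tr (A₀ * B₀ * x) ∈ κ →
    ρ * x.1 0 0 ∈ κ ∧ ρ * x.1 0 1 ∈ κ ∧ ρ * x.1 1 0 ∈ κ ∧ ρ * x.1 1 1 ∈ κ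

theorem frame_ul (lam : F) (hlam : lam ≠ 0) : Frame (u 1) (l lam) := by
  intro κ hA hB ρ x h1 h2 h3 h4
  have hl : lam ∈ κ := by have := hB.2.2.1; rwa [l10] at this
  have e2 : tr (u 1 * x) = tr x + x.1 1 0 := by
    rw [tr_def, tr_def, mul00, mul11, u00, u01, u10, u11]; ring
  have e3 : tr (l lam * x) = tr x + lam * x.1 0 1 := by
    rw [tr_def, tr_def, mul00, mul11, l00, l01, l10, l11]; ring
  have e4 : tr (u 1 * l lam * x) = tr x + x.1 1 0 + lam * x.1 0 1 + lam * x.1 0 0 := by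
    rw [tr_def, tr_def, mul00, mul11, mul00, mul01, mul10, mul11, u00, u01, u10, u11, l00, l01,
      l10, l11]; ring
  rw [e2] at h2
  rw [e3] at h3
  rw [e4] at h4
  have m10 : ρ * x.1 1 0 ∈ κ := by
    have : ρ * x.1 1 0 = ρ * (tr x + x.1 1 0) - ρ * tr x := by ring
    rw [this]; exact κ.sub_mem h2 h1
  have m01' : lam * (ρ * x.1 0 1) ∈ κ := by
    have : lam * (ρ * x.1 0 1) = ρ * (tr x + lam * x.1 0 1) - ρ * tr x := by ring
    rw [this]; exact κ.sub_mem h3 h1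
  have m01 : ρ * x.1 0 1 ∈ κ := by
    have := κ.mul_mem (κ.inv_mem hl) m01'
    rwa [inv_mul_cancel_left₀ hlam] at this
  have m00' : lam * (ρ * x.1 0 0) ∈ κ := by
    have : lam * (ρ * x.1 0 0) = ρ * (tr x + x.1 1 0 + lam * x.1 0 1 + lam * x.1 0 0)
        - ρ * (tr x + x.1 1 0) - lam * (ρ * x.1 0 1) := by ring
    rw [this]; exact κ.sub_mem (κ.sub_mem h4 h2) m01'
  have m00 : ρ * x.1 0 0 ∈ κ := by
    have := κ.mul_mem (κ.inv_mem hl) m00'
    rwa [inv_mul_cancel_left₀ hlam] at this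
  refine ⟨m00, m01, m10, ?_⟩
  have : ρ * x.1 1 1 = ρ * tr x - ρ * x.1 0 0 := by rw [tr_def]; ring
  rw [this]; exact κ.sub_mem h1 m00

theorem frame_W (B₀ : SL(2, F))
    (hden : (B₀.1 0 0 - B₀.1 1 1) ^ 2 + (B₀.1 0 1 + B₀.1 1 0) ^ 2 ≠ 0) : Frame W B₀ := by
  intro κ hA hB ρ x h1 h2 h3 h4
  obtain ⟨b00, b01, b10, b11⟩ := hB
  have e2 : tr (W * x) = x.1 0 1 - x.1 1 0 := by
    rw [tr_def, mul00, mul11, W00, W01, W10, W11]; ring
  have e3 : tr (B₀ * x) = B₀.1 0 0 * x.1 0 0 + B₀.1 0 1 * x.1 1 0 + B₀.1 1 0 * x.1 0 1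
      + B₀.1 1 1 * x.1 1 1 := by
    rw [tr_def, mul00, mul11]; ring
  have e4 : tr (W * B₀ * x) = -B₀.1 1 0 * x.1 0 0 - B₀.1 1 1 * x.1 1 0 + B₀.1 0 0 * x.1 0 1
        + B₀.1 0 1 * x.1 1 1 := by
    rw [tr_def, mul00, mul11, mul00, mul01, mul10, mul11, W00, W01, W10, W11]; ring
  rw [e2] at h2
  rw [e3] at h3
  rw [e4] at h4
  rw [tr_def] at h1
  exact lin κ (B₀.1 0 0) (B₀.1 0 1) (B₀.1 1 0) (B₀.1 1 1) b00 b01 b10 b11 hden ρ _ _ _ _ h1 h2 h3 h4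

/-- trace-preserving automorphisms respecting a frame preserve `Pk k` and `Sk k` -/
theorem map_le_of_frame (k : Subfield F) (φ : SL(2, F) ≃* SL(2, F))
    (htr : ∀ x, tr (φ x) = tr x) (A B : SL(2, F)) (hA : A ∈ Sk k) (hB : B ∈ Sk k)
    (hfr : Frame (φ A) (φ B)) (hA' : φ A ∈ Sk k) (hB' : φ B ∈ Sk k) :
    (Pk k).map φ.toMonoidHom ≤ Pk k ∧ (Sk k).map φ.toMonoidHom ≤ Sk k := by
  have key : ∀ (x : SL(2, F)) (c : F), c * x.1 0 0 ∈ k → c * x.1 0 1 ∈ k → c * x.1 1 0 ∈ k →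
      c * x.1 1 1 ∈ k → c * (φ x).1 0 0 ∈ k ∧ c * (φ x).1 0 1 ∈ k ∧ c * (φ x).1 1 0 ∈ k ∧
        c * (φ x).1 1 1 ∈ k := by
    intro x c h00 h01 h10 h11
    apply hfr k hA' hB' c (φ x)
    · rw [htr]; exact tr_mem_of_entries k x c h00 h11
    · rw [← map_mul, htr]; exact tr_mul_mem k A x hA c h00 h01 h10 h11
    · rw [← map_mul, htr]; exact tr_mul_mem k B x hB c h00 h01 h10 h11
    · rw [← map_mul, ← map_mul, htr]
      exact tr_mul_mem k (A * B) x ((Sk k).mul_mem hA hB) c h00 h01 h10 h11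
  constructor
  · rintro _ ⟨x, ⟨c, hc, h00, h01, h10, h11⟩, rfl⟩
    obtain ⟨m00, m01, m10, m11⟩ := key x c h00 h01 h10 h11
    exact ⟨c, hc, m00, m01, m10, m11⟩
  · rintro _ ⟨x, ⟨h00, h01, h10, h11⟩, rfl⟩
    have := key x 1 (by rwa [one_mul]) (by rwa [one_mul]) (by rwa [one_mul]) (by rwa [one_mul])
    simp only [one_mul] at this
    exact this

/-- subgroups with relative traces in a subfield are conjugated into `Pk` -/
theorem map_le_Pk_of_frame (κ : Subfield F) (φ : SL(2, F) ≃* SL(2, F))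
    (htr : ∀ x, tr (φ x) = tr x) (A B : SL(2, F))
    (hfr : Frame (φ A) (φ B)) (hA' : φ A ∈ Sk κ) (hB' : φ B ∈ Sk κ) (Y : Subgroup SL(2, F))
    (h : ∀ x ∈ Y, ∃ ρ : F, ρ ≠ 0 ∧ ρ * tr x ∈ κ ∧ ρ * tr (A * x) ∈ κ ∧ ρ * tr (B * x) ∈ κ ∧
      ρ * tr (A * B * x) ∈ κ) : Y.map φ.toMonoidHom ≤ Pk κ := by
  rintro _ ⟨x, hx, rfl⟩
  obtain ⟨ρ, hρ, h1, h2, h3, h4⟩ := h x hx
  have := hfr κ hA' hB' ρ (φ x) (by rw [htr]; exact h1) (by rw [← map_mul, htr]; exact h2)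
    (by rw [← map_mul, htr]; exact h3) (by rw [← map_mul, ← map_mul, htr]; exact h4)
  exact ⟨ρ, hρ, this.1, this.2.1, this.2.2.1, this.2.2.2⟩

/-! ### Maximal subgroups of `Pk k` not containing `Sk k` -/

structure MaxIn (k : Subfield F) (Y : Subgroup SL(2, F)) : Prop where
  le : Y ≤ Pk k
  neg : negOne ∈ Y
  not_le : ¬ Y ≤ Sk k
  not_ge : ¬ Sk k ≤ Y
  max : ∀ Z : Subgroup SL(2, F), Y ≤ Z → Z ≤ Pk k → Z = Y ∨ Z = Pk k

theorem MaxIn.map [Finite F] {k : Subfield F} {Y : Subgroup SL(2, F)} (h : MaxIn k Y)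
    (h2 : (2 : F) ≠ 0) (φ : SL(2, F) ≃* SL(2, F))
    (hP : (Pk k).map φ.toMonoidHom ≤ Pk k) (hS : (Sk k).map φ.toMonoidHom ≤ Sk k) :
    MaxIn k (Y.map φ.toMonoidHom) := by
  haveI : Finite SL(2, F) := finite_SL
  have hP' : (Pk k).map φ.toMonoidHom = Pk k :=
    Subgroup.eq_of_le_of_card_ge hP (by rw [card_map_equiv])
  have hS' : (Sk k).map φ.toMonoidHom = Sk k :=
    Subgroup.eq_of_le_of_card_ge hS (by rw [card_map_equiv])
  refine ⟨?_, ⟨negOne, h.neg, map_negOne h2 φ⟩, ?_, ?_, ?_⟩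
  · rw [← hP']; exact Subgroup.map_mono h.le
  · intro hle
    rw [← hS'] at hle
    exact h.not_le ((Subgroup.map_le_map_iff_of_injective φ.injective).1 hle)
  · intro hle
    rw [← hS'] at hle
    exact h.not_ge ((Subgroup.map_le_map_iff_of_injective φ.injective).1 hle)
  · intro Z hYZ hZP
    have h1 : Y ≤ Z.comap φ.toMonoidHom := Subgroup.map_le_iff_le_comap.1 hYZ
    have h2' : Z.comap φ.toMonoidHom ≤ Pk k := by
      intro z hz
      have hz' : φ z ∈ Pk k := hZP hz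
      rw [← hP'] at hz'
      obtain ⟨w, hw, hwz⟩ := hz'
      have : w = z := φ.injective hwz
      rw [← this]; exact hw
    have e : (Z.comap φ.toMonoidHom).map φ.toMonoidHom = Z :=
      Subgroup.map_comap_eq_self_of_surjective φ.surjective Z
    rcases h.max _ h1 h2' with h3 | h3
    · left; rw [← e, h3]
    · right; rw [← e, h3, hP']

theorem MaxIn.conj [Finite F] {k : Subfield F} {Y : Subgroup SL(2, F)} (h : MaxIn k Y)
    (h2 : (2 : F) ≠ 0) (s : SL(2, F)) (hs : s ∈ Sk k) :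
    MaxIn k (Y.map (MulAut.conj s).toMonoidHom) := by
  apply h.map h2
  · rintro _ ⟨x, hx, rfl⟩
    exact (Pk k).mul_mem ((Pk k).mul_mem (Sk_le_Pk k hs) hx) ((Pk k).inv_mem (Sk_le_Pk k hs))
  · rintro _ ⟨x, hx, rfl⟩
    exact (Sk k).mul_mem ((Sk k).mul_mem hs hx) ((Sk k).inv_mem hs)

/-! ### Traces of Frobenius powers -/

theorem tr_pow_char (p : ℕ) [Fact p.Prime] [CharP F p] (h2 : (2 : F) ≠ 0) (x : SL(2, F)) :
    tr (x ^ p) = tr x ^ p := by
  have hp : p.Prime := Fact.out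
  have hsum : (x.1 : Matrix (Fin 2) (Fin 2) F) + (x⁻¹).1 = tr x • (1 : Matrix (Fin 2) (Fin 2) F) := by
    ext i j
    fin_cases i <;> fin_cases j
    · show x.1 0 0 + (x⁻¹).1 0 0 = _
      rw [inv00, tr_def]; simp
    · show x.1 0 1 + (x⁻¹).1 0 1 = _
      rw [inv01]; simp
    · show x.1 1 0 + (x⁻¹).1 1 0 = _
      rw [inv10]; simp
    · show x.1 1 1 + (x⁻¹).1 1 1 = _
      rw [inv11, tr_def]; simp [add_comm]
  have hcomm : Commute (x.1 : Matrix (Fin 2) (Fin 2) F) (x⁻¹).1 := by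
    show x.1 * (x⁻¹).1 = (x⁻¹).1 * x.1
    rw [← Matrix.SpecialLinearGroup.coe_mul, ← Matrix.SpecialLinearGroup.coe_mul,
      mul_inv_cancel, inv_mul_cancel]
  have h1 := add_pow_char_of_commute p hcomm
  rw [hsum, smul_pow, one_pow] at h1
  have e1 : (x.1 : Matrix (Fin 2) (Fin 2) F) ^ p = (x ^ p).1 :=
    (Matrix.SpecialLinearGroup.coe_pow x p).symm
  have e2 : ((x⁻¹).1 : Matrix (Fin 2) (Fin 2) F) ^ p = ((x ^ p)⁻¹).1 := by
    rw [← Matrix.SpecialLinearGroup.coe_pow, inv_pow]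
  rw [e1, e2] at h1
  have h00 := congrFun (congrFun h1 0) 0
  have h11 := congrFun (congrFun h1 1) 1
  simp only [Matrix.smul_apply, Matrix.one_apply_eq, Matrix.add_apply, smul_eq_mul, mul_one]
    at h00 h11
  rw [inv00] at h00
  rw [inv11] at h11
  have h3 : 2 * tr (x ^ p) = 2 * tr x ^ p := by
    rw [tr_def (x ^ p)]
    linear_combination -h00 - h11
  exact mul_left_cancel₀ h2 h3

theorem tr_pow_char_pow (p : ℕ) [Fact p.Prime] [CharP F p] (h2 : (2 : F) ≠ 0) (x : SL(2, F))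
    (j : ℕ) : tr (x ^ p ^ j) = tr x ^ p ^ j := by
  induction j with
  | zero => simp
  | succ j ih => rw [pow_succ, pow_mul, tr_pow_char p h2, ih, ← pow_mul]

end Cfsg.Agent.Lib.Helper6.Pg1
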