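import Mathlib
import Cfsg.Agent.Lib.Helper6.Pg1

/-!
# Maximal subgroups of `PGL(2, q)`, `q` odd: rational points and the Borel case (helper6)

* `emb k : SL(2, k) →* SL(2, F)` with range `Sk k`;
* `ord_cases`: orders of elements of `Sk k`;
* `case_borel`: a triangularisable maximal subgroup of `Pk k` of order divisible by `p` has
  order `2 q (q - 1)`.
-/

set_option autoImplicit false
set_option linter.unusedSimpArgs false
set_option linter.unusedVariables false
set_option linter.unusedSectionVars false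
set_option linter.style.haveILetI false
set_option linter.unnecessarySeqFocus false
set_option linter.unreachableTactic false
set_option linter.unusedTactic false

namespace Cfsg.Agent.Lib.Helper6.Pg2

open Matrix MatrixGroups
open Cfsg.Agent.Lib.Helper53.SL2Inv Cfsg.Agent.Lib.Helper53.SL2Unip
open Cfsg.Agent.Lib.Helper98.SL2Sub Cfsg.Agent.Lib.Helper98.SL2Core
open Cfsg.Agent.Lib.Helper98.SL2Tor Cfsg.Agent.Lib.Helper98.PSL2Max
open Cfsg.Agent.Lib.Helper98.DicksonB Cfsg.Agent.Lib.Helper98.DicksonOdd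
open Cfsg.Agent.Lib.Helper98.SL2Field Cfsg.Agent.Lib.Helper98.SL2Quad
open Cfsg.Agent.S5941 (Pk Sk_le_Pk Pk_ne_top d_mem_Pk)
open Cfsg.Agent.Lib.Helper6.Sb2 Cfsg.Agent.Lib.Helper6.Dk2 Cfsg.Agent.Lib.Helper6.Dk3
  Cfsg.Agent.Lib.Helper6.Dk4
  Cfsg.Agent.Lib.Helper6.Dk5 Cfsg.Agent.Lib.Helper6.Mx1 Cfsg.Agent.Lib.Helper6.Mx2
  Cfsg.Agent.Lib.Helper6.Mx3 Cfsg.Agent.Lib.Helper6.Mx4 Cfsg.Agent.Lib.Helper6.Mx5
  Cfsg.Agent.Lib.Helper6.Mx6 Cfsg.Agent.Lib.Helper6.Pg1

variable {F : Type*} [Field F]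

/-- the embedding `SL(2, k) → SL(2, F)` -/
noncomputable def emb (k : Subfield F) : SL(2, k) →* SL(2, F) :=
  Matrix.SpecialLinearGroup.map (n := Fin 2) k.subtype

lemma emb_entry (k : Subfield F) (A : SL(2, k)) (i j : Fin 2) :
    (emb k A).1 i j = ((A.1 i j : k) : F) := rfl

lemma emb_injective (k : Subfield F) : Function.Injective (emb k) := by
  intro A B h
  apply sl2_ext <;> apply Subtype.ext
  · have := congrArg (fun M : SL(2, F) => M.1 0 0) h; exact this
  · have := congrArg (fun M : SL(2, F) => M.1 0 1) h; exact this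
  · have := congrArg (fun M : SL(2, F) => M.1 1 0) h; exact this
  · have := congrArg (fun M : SL(2, F) => M.1 1 1) h; exact this

lemma range_emb (k : Subfield F) : (emb k).range = Sk k := by
  rw [emb, range_map, Subfield.fieldRange_subtype]

lemma emb_mem (k : Subfield F) (A : SL(2, k)) : emb k A ∈ Sk k := by
  rw [← range_emb]; exact ⟨A, rfl⟩

lemma exists_emb (k : Subfield F) (g : SL(2, F)) (h : g ∈ Sk k) : ∃ A : SL(2, k), emb k A = g := by
  rw [← range_emb] at h; exact h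

lemma emb_u (k : Subfield F) (a : k) : emb k (u a) = u (a : F) := by
  apply sl2_ext
  · rw [emb_entry, u00, u00]; rfl
  · rw [emb_entry, u01, u01]
  · rw [emb_entry, u10, u10]; rfl
  · rw [emb_entry, u11, u11]; rfl

lemma tr_emb (k : Subfield F) (A : SL(2, k)) : tr (emb k A) = ((A.1 0 0 + A.1 1 1 : k) : F) := by
  rw [tr_def, emb_entry, emb_entry]; rfl

lemma negOne_pow_odd (n : ℕ) (hn : Odd n) : (negOne : SL(2, F)) ^ n = negOne := by
  obtain ⟨j, rfl⟩ := hn
  rw [pow_succ, pow_mul, pow_two, negOne_mul_negOne, one_pow, one_mul]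

/-- the orders of the elements of `Sk k` -/
theorem ord_cases [Fintype F] (p : ℕ) [Fact p.Prime] [CharP F p] (h2 : (2 : F) ≠ 0)
    (k : Subfield F) (y : SL(2, F)) (hy : y ∈ Sk k) :
    y ^ (Nat.card k - 1) = 1 ∨ y ^ (Nat.card k + 1) = 1 ∨ y ^ p = 1 ∨ y ^ p = negOne := by
  classical
  haveI : Fintype k := Fintype.ofFinite k
  have hpp : p.Prime := Fact.out
  have hp2 : p ≠ 2 := by
    rintro rfl
    apply h2
    have := CharP.cast_eq_zero F 2
    exact_mod_cast this
  have hpodd : Odd p := hpp.odd_of_ne_two hp2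
  by_cases htr : tr y ^ 2 = 4
  · have h4 : (tr y - 2) * (tr y + 2) = 0 := by linear_combination htr
    rcases mul_eq_zero.1 h4 with h | h
    · right; right; left
      exact pow_char_eq_one p y (sub_eq_zero.1 h)
    · right; right; right
      have h' : tr (negOne * y) = 2 := by
        rw [tr_negOne_mul]; linear_combination -h
      have h5 := pow_char_eq_one p (negOne * y) h'
      rw [Commute.mul_pow (show Commute negOne y from negOne_comm y) p,
        negOne_pow_odd p hpodd] at h5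
      have h6 : negOne * (negOne * y ^ p) = negOne * 1 := by rw [h5]
      rw [← mul_assoc, negOne_mul_negOne, one_mul, mul_one] at h6
      exact h6
  · obtain ⟨y', rfl⟩ := exists_emb k y hy
    have h2k : (2 : k) ≠ 0 := by
      intro h
      apply h2
      have := congrArg (Subtype.val : k → F) h
      exact this
    have htr' : (y'.1 0 0 + y'.1 1 1) ^ 2 ≠ 4 := by
      intro h
      apply htr
      rw [tr_emb]
      have := congrArg (Subtype.val : k → F) h
      exact this
    have hmem : y' ∈ Subgroup.centralizer ({y'} : Set SL(2, k)) :=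
      Subgroup.mem_centralizer_singleton_iff.2 rfl
    have hpow : y' ^ Nat.card (Subgroup.centralizer ({y'} : Set SL(2, k))) = 1 := by
      have := pow_card_eq_one' (G := Subgroup.centralizer ({y'} : Set SL(2, k))) (x := ⟨y', hmem⟩)
      have h' := congrArg Subtype.val this
      exact h'
    rcases card_centralizer_cases h2k y' htr' with h | h
    · left
      rw [h, ← Nat.card_eq_fintype_card] at hpow
      rw [← map_pow, hpow, map_one]
    · right; left
      rw [h, ← Nat.card_eq_fintype_card] at hpow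
      rw [← map_pow, hpow, map_one]

/-- **The Borel case.** -/
theorem case_borel [Fintype F] (p : ℕ) [Fact p.Prime] [CharP F p] (h2 : (2 : F) ≠ 0)
    (k : Subfield F) (Y : Subgroup SL(2, F)) (hY : MaxIn k Y) (hp : p ∣ Nat.card Y)
    (hB : ∃ g : SL(2, F), ∀ y ∈ Y, (g * y * g⁻¹).1 1 0 = 0) :
    Nat.card Y = 2 * (Nat.card k * (Nat.card k - 1)) := by
  classical
  haveI : Finite SL(2, F) := finite_SL
  haveI : Fintype k := Fintype.ofFinite k
  have hpp : p.Prime := Fact.out
  have hp2 : p ≠ 2 := by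
    rintro rfl
    apply h2
    have := CharP.cast_eq_zero F 2
    exact_mod_cast this
  have hpodd : Odd p := hpp.odd_of_ne_two hp2
  obtain ⟨g, hg⟩ := hB
  obtain ⟨x, hx⟩ := exists_prime_orderOf_dvd_card' p hp
  have hxp : x.1 ^ p = 1 := by
    rw [← Subgroup.coe_pow, ← hx, pow_orderOf_eq_one]; rfl
  have hx1 : x.1 ≠ 1 := by
    intro h
    have : x = 1 := Subtype.ext h
    rw [this, orderOf_one] at hx
    exact hpp.one_lt.ne hx
  have hxS : x.1 ∈ Sk k := odd_mem_Sk k x.1 (hY.le x.2) p hpodd hxp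
  obtain ⟨x', hx'⟩ := exists_emb k x.1 hxS
  have htr : tr x.1 = 2 := tr_eq_two_of_pow p x.1 1 (by rw [pow_one]; exact hxp)
  have htr' : x'.1 0 0 + x'.1 1 1 = 2 := by
    apply Subtype.ext
    have h1 := tr_emb k x'
    rw [hx', htr] at h1
    rw [← h1]; rfl
  have hx'1 : x' ≠ 1 := by
    rintro rfl
    apply hx1
    rw [← hx', map_one]
  obtain ⟨g', a, ha, hga⟩ := exists_conj_u x' htr' hx'1
  obtain ⟨s, hs⟩ : ∃ s, s = emb k g' := ⟨_, rfl⟩
  have hsS : s ∈ Sk k := by rw [hs]; exact emb_mem k g'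
  have hsx : s * x.1 * s⁻¹ = u (a : F) := by
    rw [hs, ← hx', ← map_inv, ← map_mul, ← map_mul, hga, emb_u]
  obtain ⟨Y', hY'⟩ : ∃ Y', Y' = Y.map (MulAut.conj s).toMonoidHom := ⟨_, rfl⟩
  have hM' : MaxIn k Y' := by rw [hY']; exact hY.conj h2 s hsS
  have hcard : Nat.card Y' = Nat.card Y := by rw [hY']; exact card_map_equiv Y _
  have huY' : u (a : F) ∈ Y' := by
    rw [hY', ← hsx]; exact ⟨x.1, x.2, rfl⟩
  have ha' : (a : F) ≠ 0 := fun h => ha (Subtype.ext h)
  obtain ⟨g₂, hg₂⟩ : ∃ g₂, g₂ = g * s⁻¹ := ⟨_, rfl⟩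
  have htri : ∀ y ∈ Y', (g₂ * y * g₂⁻¹).1 1 0 = 0 := by
    intro y hy
    rw [hY'] at hy
    obtain ⟨y₀, hy₀, rfl⟩ := hy
    have e : g₂ * (MulAut.conj s).toMonoidHom y₀ * g₂⁻¹ = g * y₀ * g⁻¹ := by
      rw [hg₂]
      show g * s⁻¹ * (s * y₀ * s⁻¹) * (g * s⁻¹)⁻¹ = _
      group
    rw [e]; exact hg y₀ hy₀
  have hg10 : g₂.1 1 0 = 0 := by
    have h1 := htri _ huY'
    have e : (g₂ * u (a : F) * g₂⁻¹).1 1 0 = -(a : F) * g₂.1 1 0 ^ 2 := by
      simp only [mul10, mul11, mul00, mul01, inv00, inv01, inv10, inv11, u00, u01, u10, u11]; ring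
    rw [e] at h1
    rcases mul_eq_zero.1 h1 with h | h
    · exact absurd (neg_eq_zero.1 h) ha'
    · exact pow_eq_zero_iff (by norm_num) |>.1 h
  have hg11 : g₂.1 1 1 ≠ 0 := by
    intro h
    have hd := det_eq g₂
    rw [hg10, h] at hd
    simp at hd
  have hYB : Y' ≤ Bo F := by
    intro y hy
    rw [mem_Bo]
    have h1 := htri y hy
    have e : (g₂ * y * g₂⁻¹).1 1 0 = g₂.1 1 1 ^ 2 * y.1 1 0 := by
      simp only [mul10, mul11, mul00, mul01, inv00, inv01, inv10, inv11, hg10]; ring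
    rw [e] at h1
    rcases mul_eq_zero.1 h1 with h | h
    · exact absurd (pow_eq_zero_iff (by norm_num) |>.1 h) hg11
    · exact h
  have hYB' : Y' = Pk k ⊓ Bo F := by
    rcases hM'.max (Pk k ⊓ Bo F) (le_inf hM'.le hYB) inf_le_left with h | h
    · exact h.symm
    · exfalso
      have h3 : l (1 : F) ∈ Pk k ⊓ Bo F := by rw [h]; exact Sk_le_Pk k (l_mem_Sk k.one_mem)
      have h4 : l (1 : F) ∈ Bo F := h3.2
      rw [mem_Bo, l10] at h4
      exact one_ne_zero h4
  have h1 := card_inf_Sk h2 k Y' hM'.le hM'.not_le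
  have h3 : (Y' ⊓ Sk k : Subgroup SL(2, F)) = (Bo k).map (emb k) := by
    rw [hYB']
    ext z
    constructor
    · rintro ⟨⟨-, hzB⟩, hzS⟩
      obtain ⟨z', rfl⟩ := exists_emb k z hzS
      refine ⟨z', ?_, rfl⟩
      have hzB' : emb k z' ∈ Bo F := hzB
      rw [mem_Bo] at hzB'
      rw [emb_entry] at hzB'
      show z' ∈ Bo k
      rw [mem_Bo]
      exact Subtype.ext hzB'
    · rintro ⟨z', hz', rfl⟩
      have hS : emb k z' ∈ Sk k := emb_mem k z'
      have hz'' : z' ∈ Bo k := hz'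
      rw [mem_Bo] at hz''
      refine ⟨⟨Sk_le_Pk k hS, ?_⟩, hS⟩
      show emb k z' ∈ Bo F
      rw [mem_Bo, emb_entry, hz'']; rfl
  rw [h3, Subgroup.card_map_of_injective (emb_injective k), card_Bo,
    ← Nat.card_eq_fintype_card] at h1
  rw [← hcard, h1]

end Cfsg.Agent.Lib.Helper6.Pg2
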