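import Mathlib
import Cfsg.Agent.Lib.Helper98.SL2Sub
import Cfsg.Agent.Lib.Helper98.ClassEq
import Cfsg.Agent.Lib.Helper42.SL2Even

/-!
# `SL(2, F)` in characteristic two: elements (helper6)

Basic facts on the elements of `SL(2, F)` for a field `F` of characteristic two: involutions are
the elements of trace zero, every non-identity element is conjugate to a companion matrix
`cm t`, and the centraliser of `cm t` (`t ≠ 0`) is a cyclic group inverted by `l t`.
-/

set_option autoImplicit false
set_option linter.unusedSimpArgs false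
set_option linter.unusedVariables false
set_option linter.unusedSectionVars false

namespace Cfsg.Agent.Lib.Helper6.DE1

open Matrix MatrixGroups Cfsg.Agent.Lib.Helper98.SL2Sub

variable {F : Type*} [Field F] [CharP F 2]

theorem two0 : (2 : F) = 0 := CharTwo.two_eq_zero

theorem negE (x : F) : -x = x := CharTwo.neg_eq x

theorem addS (x : F) : x + x = 0 := CharTwo.add_self_eq_zero x

theorem detC (g : SL(2, F)) : g.1 0 0 * g.1 1 1 + g.1 0 1 * g.1 1 0 = 1 := by
  linear_combination det_eq g + (g.1 0 1 * g.1 1 0) * (two0 (F := F))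

theorem eq_of_sq_eq {x y : F} (h : x * x = y * y) : x = y := by
  have h1 : (x + y) * (x + y) = 0 := by
    linear_combination h + (x * y) * (two0 (F := F)) + (y * y) * (two0 (F := F))
  have h2 := mul_self_eq_zero.1 h1
  linear_combination h2 - y * (two0 (F := F))

theorem eq_one_of_sq {x : F} (h : x * x = 1) : x = 1 :=
  eq_of_sq_eq (by rw [h, one_mul])

/-- a matrix of determinant one given by its entries -/
def mk4 (a b c e : F) (h : a * e + b * c = 1) : SL(2, F) :=
  ⟨!![a, b; c, e], by
    rw [Matrix.det_fin_two_of]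
    linear_combination h - (b * c) * (two0 (F := F))⟩

@[simp] theorem mk4_00 (a b c e : F) (h : a * e + b * c = 1) : (mk4 a b c e h).1 0 0 = a := rfl
@[simp] theorem mk4_01 (a b c e : F) (h : a * e + b * c = 1) : (mk4 a b c e h).1 0 1 = b := rfl
@[simp] theorem mk4_10 (a b c e : F) (h : a * e + b * c = 1) : (mk4 a b c e h).1 1 0 = c := rfl
@[simp] theorem mk4_11 (a b c e : F) (h : a * e + b * c = 1) : (mk4 a b c e h).1 1 1 = e := rfl

/-- the trace is invariant under conjugation -/
theorem trace_conj (h z : SL(2, F)) :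
    (h * z * h⁻¹).1 0 0 + (h * z * h⁻¹).1 1 1 = z.1 0 0 + z.1 1 1 := by
  simp only [mul00, mul01, mul10, mul11, inv00, inv01, inv10, inv11]
  linear_combination (z.1 0 0 + z.1 1 1) * det_eq h

/-- `g * g = 1` iff the trace vanishes -/
theorem mul_self_eq_one_iff (g : SL(2, F)) : g * g = 1 ↔ g.1 0 0 = g.1 1 1 := by
  constructor
  · intro h
    have h01 : (g * g).1 0 1 = 0 := by rw [h]; exact one01
    have h10 : (g * g).1 1 0 = 0 := by rw [h]; exact one10
    have h00 : (g * g).1 0 0 = 1 := by rw [h]; exact one00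
    rw [mul01] at h01
    rw [mul10] at h10
    rw [mul00] at h00
    by_contra hne
    have hne' : g.1 0 0 + g.1 1 1 ≠ 0 := fun h0 =>
      hne (by linear_combination h0 - g.1 1 1 * (two0 (F := F)))
    have hb : g.1 0 1 = 0 := by
      have : g.1 0 1 * (g.1 0 0 + g.1 1 1) = 0 := by linear_combination h01
      exact (mul_eq_zero.1 this).resolve_right hne'
    have hc : g.1 1 0 = 0 := by
      have : g.1 1 0 * (g.1 0 0 + g.1 1 1) = 0 := by linear_combination h10
      exact (mul_eq_zero.1 this).resolve_right hne'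
    have hd := detC g
    rw [hb, zero_mul, add_zero] at hd
    rw [hb, zero_mul, add_zero] at h00
    apply hne
    have ha : g.1 0 0 ≠ 0 := by
      intro h0
      rw [h0, zero_mul] at hd
      exact zero_ne_one hd
    exact mul_left_cancel₀ ha (h00.trans hd.symm)
  · intro h
    have hd := detC g
    apply sl2_ext
    · rw [mul00, one00]; linear_combination hd + g.1 0 0 * h
    · rw [mul01, one01]
      linear_combination g.1 0 1 * h + (g.1 0 1 * g.1 1 1) * (two0 (F := F))
    · rw [mul10, one10]
      linear_combination g.1 1 0 * h + (g.1 1 0 * g.1 1 1) * (two0 (F := F))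
    · rw [mul11, one11]; linear_combination hd - g.1 1 1 * h

theorem mul_self_of_four (g : SL(2, F)) (h : (g * g) * (g * g) = 1) : g * g = 1 := by
  rw [mul_self_eq_one_iff] at h ⊢
  rw [mul00, mul11] at h
  apply eq_of_sq_eq
  linear_combination h

/-- elements of two-power order are involutions -/
theorem mul_self_of_pow (g : SL(2, F)) (k : ℕ) (h : g ^ (2 ^ k) = 1) : g * g = 1 := by
  induction k generalizing g with
  | zero =>
    rw [pow_zero, pow_one] at h
    rw [h, one_mul]
  | succ k ih =>
    have h1 : (g * g) ^ (2 ^ k) = 1 := by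
      rw [← pow_two, ← pow_mul, ← pow_succ']
      exact h
    exact mul_self_of_four g (ih (g * g) h1)

theorem u_mul_self (b : F) : u b * u b = 1 := by
  rw [u_mul, addS, u_zero]

theorem u_inv' (b : F) : (u b)⁻¹ = u b := by
  rw [u_inv, negE]

theorem l_mul_self (b : F) : l b * l b = 1 := by
  rw [l_mul, addS, l_zero]

theorem l_inv' (b : F) : (l b)⁻¹ = l b := by
  rw [l_inv, negE]

theorem u_ne_one {b : F} (hb : b ≠ 0) : u b ≠ 1 := by
  intro h
  apply hb
  have := congrArg (fun g : SL(2, F) => g.1 0 1) h
  simpa using this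

/-- the centraliser of a non-trivial upper unitriangular matrix -/
theorem cent_u {b : F} (hb : b ≠ 0) {g : SL(2, F)} (h : g * u b = u b * g) :
    g = u (g.1 0 1) := by
  have h00 : (g * u b).1 0 0 = (u b * g).1 0 0 := by rw [h]
  have h01 : (g * u b).1 0 1 = (u b * g).1 0 1 := by rw [h]
  rw [mul00, mul00] at h00
  rw [mul01, mul01] at h01
  simp only [u00, u01, u10, u11] at h00 h01
  have hc : g.1 1 0 = 0 := by
    have : b * g.1 1 0 = 0 := by linear_combination -h00
    exact (mul_eq_zero.1 this).resolve_left hb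
  have hae : g.1 0 0 = g.1 1 1 := by
    have : b * (g.1 0 0 - g.1 1 1) = 0 := by linear_combination h01
    exact sub_eq_zero.1 ((mul_eq_zero.1 this).resolve_left hb)
  have hd := detC g
  rw [hc, mul_zero, add_zero, ← hae] at hd
  have ha : g.1 0 0 = 1 := eq_one_of_sq hd
  apply sl2_ext
  · rw [u00, ha]
  · rw [u01]
  · rw [u10, hc]
  · rw [u11, ← hae, ha]

/-- an element conjugating a non-trivial upper unitriangular matrix to another one is upper
triangular -/
theorem lower_zero_of_conj {b b' : F} (hb : b ≠ 0) {g : SL(2, F)}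
    (h : g * u b * g⁻¹ = u b') : g.1 1 0 = 0 := by
  have h' : g * u b = u b' * g := by rw [← h]; group
  have h11 : (g * u b).1 1 1 = (u b' * g).1 1 1 := by rw [h']
  rw [mul11, mul11] at h11
  simp only [u00, u01, u10, u11] at h11
  have : g.1 1 0 * b = 0 := by linear_combination h11
  exact (mul_eq_zero.1 this).resolve_right hb

/-- conjugating by an upper triangular matrix -/
theorem conj_u_of_upper {g : SL(2, F)} (hc : g.1 1 0 = 0) (b : F) :
    g * u b * g⁻¹ = u (g.1 0 0 * g.1 0 0 * b) := by
  have hd := detC g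
  rw [hc, mul_zero, add_zero] at hd
  apply sl2_ext <;>
    simp only [mul00, mul01, mul10, mul11, inv00, inv01, inv10, inv11, u00, u01, u10, u11, hc]
  · linear_combination hd
  · ring
  · ring
  · linear_combination hd

/-! ### involutions whose product has odd order -/

/-- two involutions whose product has odd order are conjugate by an involution -/
theorem swap_invol {G : Type*} [Group G] (t t' : G) (ht : t * t = 1) (ht' : t' * t' = 1) (k : ℕ)
    (hk : (t * t') ^ (2 * k + 1) = 1) :
    (t * (t * t') ^ (k + 1)) * (t * (t * t') ^ (k + 1)) = 1 ∧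
      (t * (t * t') ^ (k + 1)) * t * (t * (t * t') ^ (k + 1))⁻¹ = t' := by
  have hti : t⁻¹ = t := inv_eq_of_mul_eq_one_right ht
  have hti' : t'⁻¹ = t' := inv_eq_of_mul_eq_one_right ht'
  have e1 : t * (t * t') * t⁻¹ = (t * t')⁻¹ := by
    rw [_root_.mul_inv_rev, hti, hti', ← mul_assoc, ht, one_mul]
  have e2 : ∀ j : ℕ, t * (t * t') ^ j * t = ((t * t') ^ j)⁻¹ := by
    intro j
    have := conj_pow (a := t) (b := t * t') (i := j)
    rw [e1, hti] at this
    rw [← this, inv_pow]
  have huu : (t * (t * t') ^ (k + 1)) * (t * (t * t') ^ (k + 1)) = 1 := by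
    calc (t * (t * t') ^ (k + 1)) * (t * (t * t') ^ (k + 1))
        = (t * (t * t') ^ (k + 1) * t) * (t * t') ^ (k + 1) := by group
      _ = 1 := by rw [e2, inv_mul_cancel]
  refine ⟨huu, ?_⟩
  rw [inv_eq_of_mul_eq_one_right huu]
  calc t * (t * t') ^ (k + 1) * t * (t * (t * t') ^ (k + 1))
      = t * (t * t') ^ (k + 1) * (t * t) * (t * t') ^ (k + 1) := by group
    _ = t * ((t * t') ^ (k + 1) * (t * t') ^ (k + 1)) := by rw [ht]; group
    _ = t * ((t * t') ^ (2 * k + 1) * (t * t')) := by
        rw [← pow_add, ← pow_succ]; congr 2; ring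
    _ = t' := by rw [hk, one_mul, ← mul_assoc, ht, one_mul]

/-- in a finite group, the product of two involutions has odd order unless some involution
commutes with both -/
theorem odd_or_central {G : Type*} [Group G] [Finite G] (t t' : G) (ht : t * t = 1)
    (ht' : t' * t' = 1) :
    (∃ k : ℕ, (t * t') ^ (2 * k + 1) = 1) ∨
      ∃ z : G, z ≠ 1 ∧ z * z = 1 ∧ z * t = t * z ∧ z * t' = t' * z := by
  have hti : t⁻¹ = t := inv_eq_of_mul_eq_one_right ht
  have hti' : t'⁻¹ = t' := inv_eq_of_mul_eq_one_right ht'
  have hpos : 0 < orderOf (t * t') := orderOf_pos _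
  rcases Nat.even_or_odd (orderOf (t * t')) with ⟨m, hm⟩ | ⟨k, hk⟩
  · right
    have hm0 : 0 < m := by omega
    have e1 : t * (t * t') * t⁻¹ = (t * t')⁻¹ := by
      rw [_root_.mul_inv_rev, hti, hti', ← mul_assoc, ht, one_mul]
    have e1' : t' * (t * t') * t'⁻¹ = (t * t')⁻¹ := by
      rw [_root_.mul_inv_rev, hti, hti', mul_assoc, mul_assoc, ht', mul_one]
    have hzz : (t * t') ^ m * (t * t') ^ m = 1 := by
      rw [← pow_add, ← hm]
      exact pow_orderOf_eq_one _
    have hzi : ((t * t') ^ m)⁻¹ = (t * t') ^ m := inv_eq_of_mul_eq_one_right hzz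
    refine ⟨(t * t') ^ m, ?_, hzz, ?_, ?_⟩
    · intro h
      have := orderOf_dvd_of_pow_eq_one h
      rw [hm] at this
      have := Nat.le_of_dvd hm0 this
      omega
    · have h1 := conj_pow (a := t) (b := t * t') (i := m)
      rw [e1, inv_pow, hzi, hti] at h1
      calc (t * t') ^ m * t = t * (t * (t * t') ^ m * t) := by
            rw [← mul_assoc, ← mul_assoc, ht, one_mul]
        _ = t * (t * t') ^ m := by rw [← h1]
    · have h1 := conj_pow (a := t') (b := t * t') (i := m)
      rw [e1', inv_pow, hzi, hti'] at h1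
      calc (t * t') ^ m * t' = t' * (t' * (t * t') ^ m * t') := by
            rw [← mul_assoc, ← mul_assoc, ht', one_mul]
        _ = t' * (t * t') ^ m := by rw [← h1]
  · left
    exact ⟨k, by rw [← hk]; exact pow_orderOf_eq_one _⟩

/-- the product of `u b` with an involution that is not upper triangular has odd order -/
theorem odd_mul_invol [Finite F] {b : F} (hb : b ≠ 0) {t' : SL(2, F)} (ht' : t' * t' = 1)
    (hc : t'.1 1 0 ≠ 0) : ∃ k : ℕ, (u b * t') ^ (2 * k + 1) = 1 := by
  rcases odd_or_central (u b) t' (u_mul_self b) ht' with h | ⟨z, hz1, hzz, hzt, hzt'⟩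
  · exact h
  · exfalso
    have h1 := cent_u hb hzt
    have hz01 : z.1 0 1 ≠ 0 := by
      intro h0
      rw [h0, u_zero] at h1
      exact hz1 h1
    rw [h1] at hzt'
    have h2 := cent_u hz01 hzt'.symm
    apply hc
    rw [h2, u10]

end Cfsg.Agent.Lib.Helper6.DE1
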