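import Mathlib
import Cfsg.Agent.Lib.Helper6.DE1

/-!
# `SL(2, F)` in characteristic two: companion matrices and tori (helper6)
-/

set_option autoImplicit false
set_option linter.unusedSimpArgs false
set_option linter.unusedVariables false
set_option linter.unusedSectionVars false

namespace Cfsg.Agent.Lib.Helper6.DE2

open Matrix MatrixGroups Cfsg.Agent.Lib.Helper98.SL2Sub Cfsg.Agent.Lib.Helper98.ClassEq
  Cfsg.Agent.Lib.Helper6.DE1

variable {F : Type*} [Field F] [CharP F 2]

/-- the companion matrix of `X ^ 2 + t X + 1` -/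
def cm (t : F) : SL(2, F) := mk4 0 1 1 t (by ring)

@[simp] theorem cm00 (t : F) : (cm t).1 0 0 = 0 := rfl
@[simp] theorem cm01 (t : F) : (cm t).1 0 1 = 1 := rfl
@[simp] theorem cm10 (t : F) : (cm t).1 1 0 = 1 := rfl
@[simp] theorem cm11 (t : F) : (cm t).1 1 1 = t := rfl

theorem cm_ne_one (t : F) : cm t ≠ 1 := by
  intro h
  have := congrArg (fun g : SL(2, F) => g.1 0 0) h
  simp only [cm00, one00] at this
  exact zero_ne_one this

theorem conj_cm_of_ne [Fintype F] (z : SL(2, F)) (hb : z.1 0 1 ≠ 0) :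
    ∃ h : SL(2, F), h * z * h⁻¹ = cm (z.1 0 0 + z.1 1 1) := by
  obtain ⟨lam, hlam⟩ := Cfsg.Agent.Lib.Helper42.SL2Even.exists_sqrt (z.1 0 1)⁻¹
  have hl : z.1 0 1 * lam * lam = 1 := by
    rw [mul_assoc, ← pow_two, hlam, mul_inv_cancel₀ hb]
  have hd := detC z
  have hP : z * mk4 0 (z.1 0 1 * lam) lam (z.1 1 1 * lam)
        (by linear_combination hl) =
      mk4 0 (z.1 0 1 * lam) lam (z.1 1 1 * lam) (by linear_combination hl) *
        cm (z.1 0 0 + z.1 1 1) := by
    apply sl2_ext <;> simp only [mul00, mul01, mul10, mul11, mk4_00, mk4_01, mk4_10, mk4_11,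
      cm00, cm01, cm10, cm11]
    · ring
    · ring
    · ring
    · linear_combination (-lam) * hd + (lam * z.1 0 1 * z.1 1 0 - lam) * (two0 (F := F))
  refine ⟨(mk4 0 (z.1 0 1 * lam) lam (z.1 1 1 * lam) (by linear_combination hl))⁻¹, ?_⟩
  rw [inv_inv, mul_assoc, hP, ← mul_assoc, inv_mul_cancel, one_mul]

/-- every non-identity element is conjugate to the companion matrix of its trace -/
theorem exists_conj_cm [Fintype F] (z : SL(2, F)) (hz : z ≠ 1) :
    ∃ h : SL(2, F), h * z * h⁻¹ = cm (z.1 0 0 + z.1 1 1) := by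
  by_cases hb : z.1 0 1 = 0
  · by_cases hc : z.1 1 0 = 0
    · have hd := detC z
      rw [hb, zero_mul, add_zero] at hd
      have hne : z.1 0 0 ≠ z.1 1 1 := by
        intro h
        apply hz
        rw [← h] at hd
        have ha : z.1 0 0 = 1 := eq_one_of_sq hd
        apply sl2_ext
        · rw [one00, ha]
        · rw [one01, hb]
        · rw [one10, hc]
        · rw [one11, ← h, ha]
      have h01 : (u 1 * z * (u 1)⁻¹).1 0 1 ≠ 0 := by
        simp only [mul00, mul01, mul10, mul11, inv00, inv01, inv10, inv11, u00, u01, u10, u11,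
          hb, hc]
        intro h
        apply hne
        linear_combination (-1 : F) * h
      obtain ⟨h, hh⟩ := conj_cm_of_ne (u 1 * z * (u 1)⁻¹) h01
      rw [DE1.trace_conj] at hh
      refine ⟨h * u 1, ?_⟩
      rw [← hh]
      group
    · have h01 : (w * z * w⁻¹).1 0 1 ≠ 0 := by
        simp only [mul00, mul01, mul10, mul11, inv00, inv01, inv10, inv11, w00, w01, w10, w11,
          hb]
        intro h
        apply hc
        linear_combination (-1 : F) * h
      obtain ⟨h, hh⟩ := conj_cm_of_ne (w * z * w⁻¹) h01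
      rw [DE1.trace_conj] at hh
      refine ⟨h * w, ?_⟩
      rw [← hh]
      group
  · exact conj_cm_of_ne z hb

theorem cm_one_conj : cm (1 : F) * cm 0 * (cm 1)⁻¹ = u 1 := by
  apply sl2_ext <;> simp only [mul00, mul01, mul10, mul11, inv00, inv01, inv10, inv11,
    cm00, cm01, cm10, cm11, u00, u01, u10, u11]
  · ring
  · linear_combination (-1 : F) * (two0 (F := F))
  · ring
  · linear_combination (-1 : F) * (two0 (F := F))

/-- every involution is conjugate to `u 1` -/
theorem exists_conj_u_one [Fintype F] (z : SL(2, F)) (hz : z ≠ 1) (hzz : z * z = 1) :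
    ∃ h : SL(2, F), h * z * h⁻¹ = u 1 := by
  obtain ⟨h, hh⟩ := exists_conj_cm z hz
  have htr : z.1 0 0 + z.1 1 1 = 0 := by
    rw [(mul_self_eq_one_iff z).1 hzz]
    exact addS _
  rw [htr] at hh
  refine ⟨cm 1 * h, ?_⟩
  rw [← cm_one_conj, ← hh]
  group

/-! ### the centraliser of a companion matrix -/

theorem comm_cm_iff (t : F) (x : SL(2, F)) :
    x * cm t = cm t * x ↔ x.1 0 1 = x.1 1 0 ∧ x.1 1 1 = x.1 0 0 + t * x.1 1 0 := by
  constructor
  · intro h
    have h00 : (x * cm t).1 0 0 = (cm t * x).1 0 0 := by rw [h]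
    have h10 : (x * cm t).1 1 0 = (cm t * x).1 1 0 := by rw [h]
    rw [mul00, mul00] at h00
    rw [mul10, mul10] at h10
    simp only [cm00, cm01, cm10, cm11] at h00 h10
    exact ⟨by linear_combination h00, by linear_combination h10⟩
  · rintro ⟨h1, h2⟩
    apply sl2_ext <;> simp only [mul00, mul01, mul10, mul11, cm00, cm01, cm10, cm11]
    · linear_combination h1
    · linear_combination t * h1 - h2
    · linear_combination h2
    · linear_combination (-1 : F) * h1

theorem cent_cm_comm {t : F} {x y : SL(2, F)} (hx : x * cm t = cm t * x)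
    (hy : y * cm t = cm t * y) : x * y = y * x := by
  obtain ⟨h1, h2⟩ := (comm_cm_iff t x).1 hx
  obtain ⟨h3, h4⟩ := (comm_cm_iff t y).1 hy
  apply sl2_ext <;> simp only [mul00, mul01, mul10, mul11, h1, h2, h3, h4] <;> ring

theorem lower_ne_zero_of_cent {t : F} {x : SL(2, F)} (hx : x * cm t = cm t * x) (hx1 : x ≠ 1) :
    x.1 1 0 ≠ 0 := by
  obtain ⟨h1, h2⟩ := (comm_cm_iff t x).1 hx
  intro h0
  apply hx1
  have hd := detC x
  rw [h1, h0, mul_zero, add_zero] at hd
  rw [h0, mul_zero, add_zero] at h2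
  rw [h2] at hd
  have ha : x.1 0 0 = 1 := eq_one_of_sq hd
  apply sl2_ext
  · rw [one00, ha]
  · rw [one01, h1, h0]
  · rw [one10, h0]
  · rw [one11, h2, ha]

/-- the centraliser of a non-identity element of the centraliser of `cm t` is the same
centraliser -/
theorem cent_of_mem {t : F} {x y : SL(2, F)} (hx : x * cm t = cm t * x) (hx1 : x ≠ 1)
    (hxy : y * x = x * y) : y * cm t = cm t * y := by
  obtain ⟨h1, h2⟩ := (comm_cm_iff t x).1 hx
  have hβ := lower_ne_zero_of_cent hx hx1
  have h00 : (y * x).1 0 0 = (x * y).1 0 0 := by rw [hxy]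
  have h01 : (y * x).1 0 1 = (x * y).1 0 1 := by rw [hxy]
  rw [mul00, mul00, h1] at h00
  rw [mul01, mul01, h1, h2] at h01
  rw [comm_cm_iff]
  have e1 : y.1 0 1 = y.1 1 0 := by
    have : x.1 1 0 * (y.1 0 1 - y.1 1 0) = 0 := by linear_combination h00
    exact sub_eq_zero.1 ((mul_eq_zero.1 this).resolve_left hβ)
  refine ⟨e1, ?_⟩
  have : x.1 1 0 * (y.1 1 1 - (y.1 0 0 + t * y.1 1 0)) = 0 := by
    linear_combination (-1 : F) * h01 + (x.1 1 0 * t) * e1
  exact sub_eq_zero.1 ((mul_eq_zero.1 this).resolve_left hβ)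

/-- an element of the centraliser of `cm t` with trace `t` is `cm t` or its inverse -/
theorem eq_cm_or_inv {t : F} (ht : t ≠ 0) {x : SL(2, F)} (hx : x * cm t = cm t * x)
    (htr : x.1 0 0 + x.1 1 1 = t) : x = cm t ∨ x = (cm t)⁻¹ := by
  obtain ⟨h1, h2⟩ := (comm_cm_iff t x).1 hx
  have hβ : x.1 1 0 = 1 := by
    have : t * (x.1 1 0 - 1) = 0 := by
      linear_combination htr - h2 - x.1 0 0 * (two0 (F := F))
    exact sub_eq_zero.1 ((mul_eq_zero.1 this).resolve_left ht)
  have hd := detC x
  rw [h1, hβ, h2, hβ, mul_one] at hd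
  have h3 : x.1 0 0 * (x.1 0 0 + t) = 0 := by linear_combination hd
  rcases mul_eq_zero.1 h3 with h4 | h4
  · left
    apply sl2_ext
    · rw [cm00, h4]
    · rw [cm01, h1, hβ]
    · rw [cm10, hβ]
    · rw [cm11, h2, h4, hβ]; ring
  · right
    apply sl2_ext
    · rw [inv00, cm11]; linear_combination h4 - t * (two0 (F := F))
    · rw [inv01, cm01, h1, hβ, negE]
    · rw [inv10, cm10, hβ, negE]
    · rw [inv11, cm00, h2, hβ]; linear_combination h4

/-- `l t` inverts the centraliser of `cm t` -/
theorem l_conj_cent {t : F} {x : SL(2, F)} (hx : x * cm t = cm t * x) :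
    l t * x * (l t)⁻¹ = x⁻¹ := by
  obtain ⟨h1, h2⟩ := (comm_cm_iff t x).1 hx
  apply sl2_ext <;> simp only [mul00, mul01, mul10, mul11, inv00, inv01, inv10, inv11,
    l00, l01, l10, l11, h1, h2]
  · linear_combination (-(x.1 1 0 * t)) * (two0 (F := F))
  · linear_combination x.1 1 0 * (two0 (F := F))
  · linear_combination (x.1 1 0 - t * t * x.1 1 0) * (two0 (F := F))
  · linear_combination (t * x.1 1 0) * (two0 (F := F))

theorem l_not_cent {t : F} (ht : t ≠ 0) : ¬ (l t * cm t = cm t * l t) := by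
  intro h
  obtain ⟨h1, -⟩ := (comm_cm_iff t (l t)).1 h
  rw [l01, l10] at h1
  exact ht h1.symm

theorem l_mem_Ng (t : F) : l t ∈ Ng (cm t) := by
  right
  exact l_conj_cent rfl

/-- the centraliser of `cm t` is cyclic -/
theorem isCyclic_cent_cm [Finite F] {t : F} (ht : t ≠ 0) :
    IsCyclic (Subgroup.centralizer ({cm t} : Set SL(2, F))) := by
  let E := AlgebraicClosure F
  have h2E : (2 : E) = 0 := by
    rw [← map_ofNat (algebraMap F E) 2, two0, map_zero]
  let p : Polynomial F := Polynomial.X ^ 2 + Polynomial.C t * Polynomial.X + 1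
  have hp : p.degree ≠ 0 := by
    have : p.degree = 2 := by
      simp only [p]
      compute_degree!
    rw [this]
    norm_num
  obtain ⟨ρ, hρ'⟩ := IsAlgClosed.exists_aeval_eq_zero E p hp
  have hρ : ρ ^ 2 + algebraMap F E t * ρ + 1 = 0 := by
    simpa [p] using hρ'
  have hinjA : Function.Injective (algebraMap F E) := (algebraMap F E).injective
  have hnorm : ∀ x : SL(2, F), x * cm t = cm t * x →
      (algebraMap F E (x.1 0 0) + algebraMap F E (x.1 1 0) * ρ) *
        (algebraMap F E (x.1 0 0) + algebraMap F E (x.1 1 0) * (ρ + algebraMap F E t)) = 1 := by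
    intro x hx
    obtain ⟨h1, h2⟩ := (comm_cm_iff t x).1 hx
    have hd := detC x
    rw [h1, h2] at hd
    have hdE := congrArg (algebraMap F E) hd
    simp only [map_add, map_mul, map_one] at hdE
    linear_combination hdE +
      (algebraMap F E (x.1 0 0) * algebraMap F E (x.1 1 0) * ρ -
        algebraMap F E (x.1 1 0) * algebraMap F E (x.1 1 0)) * h2E +
      (algebraMap F E (x.1 1 0) * algebraMap F E (x.1 1 0)) * hρ
  let χ : Subgroup.centralizer ({cm t} : Set SL(2, F)) →* E :=
    { toFun := fun x => algebraMap F E (x.1.1 0 0) + algebraMap F E (x.1.1 1 0) * ρ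
      map_one' := by
        show algebraMap F E ((1 : SL(2, F)).1 0 0) + algebraMap F E ((1 : SL(2, F)).1 1 0) * ρ = 1
        rw [one00, one10, map_one, map_zero, zero_mul, add_zero]
      map_mul' := by
        rintro ⟨x, hx⟩ ⟨y, hy⟩
        obtain ⟨hx1, hx2⟩ := (comm_cm_iff t x).1 (Subgroup.mem_centralizer_singleton_iff.1 hx)
        show algebraMap F E ((x * y).1 0 0) + algebraMap F E ((x * y).1 1 0) * ρ =
          (algebraMap F E (x.1 0 0) + algebraMap F E (x.1 1 0) * ρ) *
            (algebraMap F E (y.1 0 0) + algebraMap F E (y.1 1 0) * ρ)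
        rw [mul00, mul10, hx1, hx2]
        simp only [map_add, map_mul]
        linear_combination (-(algebraMap F E (x.1 1 0) * algebraMap F E (y.1 1 0))) * hρ +
          (algebraMap F E (x.1 1 0) * algebraMap F E (y.1 1 0) * (algebraMap F E t * ρ + 1)) * h2E }
  have hχ : Function.Injective χ := by
    rintro ⟨x, hx⟩ ⟨y, hy⟩ hxy
    have hx' := Subgroup.mem_centralizer_singleton_iff.1 hx
    have hy' := Subgroup.mem_centralizer_singleton_iff.1 hy
    obtain ⟨hx1, hx2⟩ := (comm_cm_iff t x).1 hx'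
    obtain ⟨hy1, hy2⟩ := (comm_cm_iff t y).1 hy'
    have hxy' : algebraMap F E (x.1 0 0) + algebraMap F E (x.1 1 0) * ρ =
        algebraMap F E (y.1 0 0) + algebraMap F E (y.1 1 0) * ρ := hxy
    have nx := hnorm x hx'
    have ny := hnorm y hy'
    rw [hxy'] at nx
    have hne : algebraMap F E (y.1 0 0) + algebraMap F E (y.1 1 0) * ρ ≠ 0 := by
      intro h0
      rw [h0, zero_mul] at ny
      exact zero_ne_one ny
    have h3 := mul_left_cancel₀ hne (nx.trans ny.symm)
    have htE : algebraMap F E t ≠ 0 := by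
      intro h0
      exact ht (hinjA (by rw [h0, map_zero]))
    have h10 : x.1 1 0 = y.1 1 0 := by
      apply hinjA
      have : algebraMap F E t * (algebraMap F E (x.1 1 0) - algebraMap F E (y.1 1 0)) = 0 := by
        linear_combination h3 - hxy'
      exact sub_eq_zero.1 ((mul_eq_zero.1 this).resolve_left htE)
    have h00 : x.1 0 0 = y.1 0 0 := by
      apply hinjA
      rw [h10] at hxy'
      exact add_right_cancel hxy'
    apply Subtype.ext
    show x = y
    apply sl2_ext _ _ h00
    · rw [hx1, hy1, h10]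
    · exact h10
    · rw [hx2, hy2, h00, h10]
  exact isCyclic_of_injective_ringHom χ hχ

end Cfsg.Agent.Lib.Helper6.DE2
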