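import Mathlib
import Cfsg.Agent.Lib.Helper6.DE2
import Cfsg.Agent.Lib.Helper98.SL2Field

/-!
# `SL(2, F)` in characteristic two: subgroups with two Sylow 2-subgroups of order at least 4
(helper6)

A subgroup in normal form (`NF`) is the group `Sk k` of matrices over a subfield `k`.
-/

set_option autoImplicit false
set_option linter.unusedSimpArgs false
set_option linter.unusedVariables false
set_option linter.unusedSectionVars false

namespace Cfsg.Agent.Lib.Helper6.DE3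

open Matrix MatrixGroups Cfsg.Agent.Lib.Helper98.SL2Sub Cfsg.Agent.Lib.Helper98.ClassEq
  Cfsg.Agent.Lib.Helper6.DE1 Cfsg.Agent.Lib.Helper6.DE2

variable {F : Type*} [Field F] [Fintype F] [CharP F 2]

theorem mem_conj {G : Type*} [Group G] (M : Subgroup G) (g x : G) :
    x ∈ M.map (MulAut.conj g).toMonoidHom ↔ g⁻¹ * x * g ∈ M := by
  rw [Subgroup.mem_map_equiv, MulAut.conj_symm_apply]

theorem map_conj_map {G : Type*} [Group G] (M : Subgroup G) (g h : G) :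
    (M.map (MulAut.conj g).toMonoidHom).map (MulAut.conj h).toMonoidHom =
      M.map (MulAut.conj (h * g)).toMonoidHom := by
  ext x
  rw [mem_conj, mem_conj, mem_conj]
  have e : g⁻¹ * (h⁻¹ * x * h) * g = (h * g)⁻¹ * x * (h * g) := by group
  rw [e]

theorem conj_mem_conj {G : Type*} [Group G] (M : Subgroup G) (g x : G) (hx : x ∈ M) :
    g * x * g⁻¹ ∈ M.map (MulAut.conj g).toMonoidHom := by
  rw [mem_conj]
  have e : g⁻¹ * (g * x * g⁻¹) * g = x := by group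
  rw [e]
  exact hx

/-- an involution of `M` exchanging the two fixed points and conjugating `u c` to a given
involution -/
theorem exists_swap (M : Subgroup SL(2, F)) {b₀ : F} (hb₀ : b₀ ≠ 0) (h₀ : u b₀ ∈ M)
    {g₀ : SL(2, F)} (hg₀ : g₀ ∈ M) (hg00 : g₀.1 0 0 = 0) {c : F} (hc : c ≠ 0) (hcM : u c ∈ M) :
    ∃ v ∈ M, v * v = 1 ∧ v * u c * v⁻¹ = g₀ * u b₀ * g₀⁻¹ ∧ v.1 0 0 = 0 := by
  have hd := detC g₀
  rw [hg00, zero_mul, zero_add] at hd
  have hr : g₀.1 1 0 ≠ 0 := by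
    intro h0
    rw [h0, mul_zero] at hd
    exact zero_ne_one hd
  have ht' : (g₀ * u b₀ * g₀⁻¹) * (g₀ * u b₀ * g₀⁻¹) = 1 := by
    calc (g₀ * u b₀ * g₀⁻¹) * (g₀ * u b₀ * g₀⁻¹) = g₀ * (u b₀ * u b₀) * g₀⁻¹ := by group
      _ = 1 := by rw [u_mul_self]; group
  have ht'M : g₀ * u b₀ * g₀⁻¹ ∈ M := M.mul_mem (M.mul_mem hg₀ h₀) (M.inv_mem hg₀)
  have ht'10 : (g₀ * u b₀ * g₀⁻¹).1 1 0 ≠ 0 := by
    simp only [mul00, mul01, mul10, mul11, inv00, inv01, inv10, inv11, u00, u01, u10, u11]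
    intro h
    have h1 : g₀.1 1 0 * g₀.1 1 0 * b₀ = 0 := by linear_combination (-1 : F) * h
    rcases mul_eq_zero.1 h1 with h2 | h2
    · rcases mul_eq_zero.1 h2 with h3 | h3 <;> exact hr h3
    · exact hb₀ h2
  obtain ⟨k, hk⟩ := odd_mul_invol hc ht' ht'10
  obtain ⟨hvv, hconj⟩ := swap_invol (u c) (g₀ * u b₀ * g₀⁻¹) (u_mul_self c) ht' k hk
  have hvM : u c * (u c * (g₀ * u b₀ * g₀⁻¹)) ^ (k + 1) ∈ M :=
    M.mul_mem hcM (M.pow_mem (M.mul_mem hcM ht'M) _)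
  generalize u c * (u c * (g₀ * u b₀ * g₀⁻¹)) ^ (k + 1) = v at hvv hconj hvM
  refine ⟨v, hvM, hvv, hconj, ?_⟩
  have h1 : (g₀⁻¹ * v) * u c * (g₀⁻¹ * v)⁻¹ = u b₀ := by
    calc (g₀⁻¹ * v) * u c * (g₀⁻¹ * v)⁻¹ = g₀⁻¹ * (v * u c * v⁻¹) * g₀ := by group
      _ = u b₀ := by rw [hconj]; group
  have h2 := lower_zero_of_conj hc h1
  have h3 : v = g₀ * (g₀⁻¹ * v) := by group
  rw [h3, mul00, hg00, h2, zero_mul, mul_zero, add_zero]

/-- the two-point stabiliser of `M` is transitive on the involutions fixing the first point -/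
theorem torus_of_invol (M : Subgroup SL(2, F)) {b₀ : F} (hb₀ : b₀ ≠ 0) (h₀ : u b₀ ∈ M)
    {g₀ : SL(2, F)} (hg₀ : g₀ ∈ M) (hg00 : g₀.1 0 0 = 0) {b : F} (hb : b ≠ 0) (hbM : u b ∈ M) :
    ∃ (k : F) (hk : k ≠ 0), d k hk ∈ M ∧ b = k * k * b₀ := by
  obtain ⟨v₀, hv₀M, hv₀v₀, hc₀, hv₀00⟩ := exists_swap M hb₀ h₀ hg₀ hg00 hb₀ h₀
  obtain ⟨v, hvM, hvv, hc, hv00⟩ := exists_swap M hb₀ h₀ hg₀ hg00 hb hbM
  have hv₀11 : v₀.1 1 1 = 0 := by rw [← (mul_self_eq_one_iff v₀).1 hv₀v₀, hv₀00]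
  have hv11 : v.1 1 1 = 0 := by rw [← (mul_self_eq_one_iff v).1 hvv, hv00]
  have hv₀i : v₀⁻¹ = v₀ := inv_eq_of_mul_eq_one_right hv₀v₀
  have hvi : v⁻¹ = v := inv_eq_of_mul_eq_one_right hvv
  have hDM : v * v₀ ∈ M := M.mul_mem hvM hv₀M
  have hD10 : (v * v₀).1 1 0 = 0 := by rw [mul10, hv₀00, hv11, mul_zero, zero_mul, add_zero]
  have hD01 : (v * v₀).1 0 1 = 0 := by rw [mul01, hv00, hv₀11, mul_zero, zero_mul, add_zero]
  have hdet := detC (v * v₀)
  rw [hD01, zero_mul, add_zero] at hdet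
  have hk0 : (v * v₀).1 0 0 ≠ 0 := by
    intro h0
    rw [h0, zero_mul] at hdet
    exact zero_ne_one hdet
  have hconj : (v * v₀) * u b₀ * (v * v₀)⁻¹ = u b := by
    have e1 : v₀ * u b₀ * v₀⁻¹ = g₀ * u b₀ * g₀⁻¹ := hc₀
    have e2 : v * (g₀ * u b₀ * g₀⁻¹) * v⁻¹ = u b := by
      rw [← hc, hvi]
      calc v * (v * u b * v) * v = (v * v) * u b * (v * v) := by group
        _ = u b := by rw [hvv, one_mul, mul_one]
    calc (v * v₀) * u b₀ * (v * v₀)⁻¹ = v * (v₀ * u b₀ * v₀⁻¹) * v⁻¹ := by group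
      _ = u b := by rw [e1, e2]
  rw [conj_u_of_upper hD10] at hconj
  have hb' := u_injective hconj
  refine ⟨(v * v₀).1 0 0, hk0, ?_, hb'.symm⟩
  have e : d ((v * v₀).1 0 0) hk0 = v * v₀ := by
    apply sl2_ext
    · rw [d00]
    · rw [d01, hD01]
    · rw [d10, hD10]
    · rw [d11]
      exact (eq_inv_of_mul_eq_one_right hdet).symm
  rw [e]
  exact hDM

/-! ### the normalised configuration -/

/-- the normalised configuration: `M` contains `u 1`, an element moving the first point to the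
second one, and a further involution `u b` -/
structure NF (M : Subgroup SL(2, F)) : Prop where
  one : u 1 ∈ M
  zero : ∃ g ∈ M, g.1 0 0 = 0
  two : ∃ b : F, b ≠ 0 ∧ b ≠ 1 ∧ u b ∈ M

variable {M : Subgroup SL(2, F)}

theorem NF.exists_d (h : NF M) {b : F} (hb : b ≠ 0) (hbM : u b ∈ M) :
    ∃ (k : F) (hk : k ≠ 0), d k hk ∈ M ∧ b = k * k := by
  obtain ⟨g₀, hg₀, hg00⟩ := h.zero
  obtain ⟨k, hk, hkM, hkb⟩ := torus_of_invol M one_ne_zero h.one hg₀ hg00 hb hbM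
  exact ⟨k, hk, hkM, by rw [hkb, mul_one]⟩

theorem NF.u_mul_mem (h : NF M) {b b' : F} (hbM : u b ∈ M) (hb'M : u b' ∈ M) :
    u (b * b') ∈ M := by
  by_cases hb : b = 0
  · rw [hb, zero_mul, u_zero]
    exact M.one_mem
  · obtain ⟨k, hk, hkM, hkb⟩ := h.exists_d hb hbM
    have := M.mul_mem (M.mul_mem hkM hb'M) (M.inv_mem hkM)
    rw [d_u_d] at this
    rw [hkb, ← pow_two]
    exact this

theorem NF.u_inv_mem (h : NF M) {b : F} (hbM : u b ∈ M) : u b⁻¹ ∈ M := by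
  by_cases hb : b = 0
  · rw [hb, _root_.inv_zero, u_zero]
    exact M.one_mem
  · obtain ⟨k, hk, hkM, hkb⟩ := h.exists_d hb hbM
    have h1 := M.inv_mem hkM
    rw [d_inv] at h1
    have := M.mul_mem (M.mul_mem h1 h.one) (M.inv_mem h1)
    rw [d_u_d] at this
    have e : b⁻¹ = k⁻¹ ^ 2 * 1 := by
      rw [hkb]
      field_simp
    rw [e]
    exact this

/-- the field of the normalised configuration -/
def NF.F0 (h : NF M) : Subfield F where
  carrier := {b | u b ∈ M}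
  mul_mem' := fun {a b} ha hb => h.u_mul_mem ha hb
  one_mem' := h.one
  add_mem' := fun {a b} ha hb => by
    show u (a + b) ∈ M
    rw [← u_mul]
    exact M.mul_mem ha hb
  zero_mem' := by
    show u 0 ∈ M
    rw [u_zero]
    exact M.one_mem
  neg_mem' := fun {a} ha => by
    show u (-a) ∈ M
    rw [negE]
    exact ha
  inv_mem' := fun a ha => h.u_inv_mem ha

theorem NF.mem_F0 (h : NF M) (x : F) : x ∈ h.F0 ↔ u x ∈ M := Iff.rfl

theorem NF.sqrt_mem (h : NF M) {x : F} (hx : u (x * x) ∈ M) : u x ∈ M := by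
  apply Cfsg.Agent.Lib.Helper98.SL2Field.hsq_of_two h.F0 two0 x
  show u (x ^ 2) ∈ M
  rw [pow_two]
  exact hx

theorem NF.d_mem_iff (h : NF M) (k : F) (hk : k ≠ 0) : d k hk ∈ M ↔ u k ∈ M := by
  constructor
  · intro hd
    have h1 := M.mul_mem (M.mul_mem hd h.one) (M.inv_mem hd)
    rw [d_u_d, mul_one, pow_two] at h1
    exact h.sqrt_mem h1
  · intro hu
    have h1 := h.u_mul_mem hu hu
    obtain ⟨k', hk', hk'M, hkk⟩ := h.exists_d (mul_ne_zero hk hk) h1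
    have : k = k' := eq_of_sq_eq hkk
    subst this
    exact hk'M

theorem conj_key (p k : F) (hk : k ≠ 0) :
    (d k hk)⁻¹ * ((u p)⁻¹ * d k hk * u p) = u (p * (1 + (k⁻¹) ^ 2)) := by
  apply sl2_ext <;> simp only [mul00, mul01, mul10, mul11, inv00, inv01, inv10, inv11,
    u00, u01, u10, u11, d00, d01, d10, d11]
  · field_simp
    ring
  · field_simp
    linear_combination (-p) * (two0 (F := F))
  · ring
  · field_simp
    ring

/-- the image of the first point under an element of `M` is a translate of the second point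
by an element of `M` -/
theorem NF.pt_mem (h : NF M) {g : SL(2, F)} (hg : g ∈ M) (hc : g.1 1 0 ≠ 0) :
    u (g.1 0 0 / g.1 1 0) ∈ M := by
  obtain ⟨b₁, hb0, hb1, hb₁M⟩ := h.two
  have hu : ∀ b, u b ∈ M →
      u b ∈ M.map (MulAut.conj (u (g.1 0 0 / g.1 1 0))).toMonoidHom := by
    intro b hb
    rw [mem_conj]
    have e : (u (g.1 0 0 / g.1 1 0))⁻¹ * u b * u (g.1 0 0 / g.1 1 0) = u b := by
      rw [u_inv', u_mul, u_mul]
      congr 1
      linear_combination (g.1 0 0 / g.1 1 0) * (two0 (F := F))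
    rw [e]
    exact hb
  have hg' : u (g.1 0 0 / g.1 1 0) * g * (u (g.1 0 0 / g.1 1 0))⁻¹ ∈
      M.map (MulAut.conj (u (g.1 0 0 / g.1 1 0))).toMonoidHom := conj_mem_conj M _ _ hg
  have hg'00 : (u (g.1 0 0 / g.1 1 0) * g * (u (g.1 0 0 / g.1 1 0))⁻¹).1 0 0 = 0 := by
    simp only [mul00, mul01, mul10, mul11, inv00, inv01, inv10, inv11, u00, u01, u10, u11]
    field_simp
    linear_combination (g.1 0 0 * g.1 1 0) * (two0 (F := F))
  obtain ⟨k, hk, hkM', hkb⟩ :=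
    torus_of_invol _ one_ne_zero (hu 1 h.one) hg' hg'00 hb0 (hu b₁ hb₁M)
  rw [mul_one] at hkb
  have hk1 : k ≠ 1 := by
    rintro rfl
    exact hb1 (by rw [hkb, mul_one])
  have hkF : u k ∈ M := by
    apply h.sqrt_mem
    rw [← hkb]
    exact hb₁M
  have hkM : d k hk ∈ M := (h.d_mem_iff k hk).2 hkF
  rw [mem_conj] at hkM'
  have h1 := M.mul_mem (M.inv_mem hkM) hkM'
  rw [conj_key] at h1
  have h2 : (1 + (k⁻¹) ^ 2) ∈ h.F0 :=
    h.F0.add_mem h.F0.one_mem (h.F0.pow_mem (h.F0.inv_mem hkF) 2)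
  have h3 : (1 + (k⁻¹) ^ 2) ≠ 0 := by
    intro h0
    apply hk1
    have h4 : k⁻¹ * k⁻¹ = 1 := by linear_combination h0 - (two0 (F := F))
    exact inv_eq_one.1 (eq_one_of_sq h4)
  have h5 : g.1 0 0 / g.1 1 0 =
      (g.1 0 0 / g.1 1 0 * (1 + (k⁻¹) ^ 2)) * (1 + (k⁻¹) ^ 2)⁻¹ := by
    rw [mul_assoc, mul_inv_cancel₀ h3, mul_one]
  show g.1 0 0 / g.1 1 0 ∈ h.F0
  rw [h5]
  exact h.F0.mul_mem h1 (h.F0.inv_mem h2)

theorem NF.w_mem (h : NF M) : (w : SL(2, F)) ∈ M := by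
  obtain ⟨g, hg, hg00⟩ := h.zero
  have hd := detC g
  rw [hg00, zero_mul, zero_add] at hd
  have hr : g.1 1 0 ≠ 0 := by
    intro h0
    rw [h0, mul_zero] at hd
    exact zero_ne_one hd
  have h1 : u (g.1 1 1 / g.1 1 0) ∈ M := by
    have := h.pt_mem (M.inv_mem hg) (by rw [inv10, negE]; exact hr)
    rw [inv00, inv10, negE] at this
    exact this
  have h2 : u (g.1 1 0) ∈ M := by
    have hx : g * u 1 * g⁻¹ ∈ M := M.mul_mem (M.mul_mem hg h.one) (M.inv_mem hg)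
    have hx10 : (g * u 1 * g⁻¹).1 1 0 = g.1 1 0 * g.1 1 0 := by
      simp only [mul00, mul01, mul10, mul11, inv00, inv01, inv10, inv11, u00, u01, u10, u11]
      linear_combination (-(g.1 1 0 * g.1 1 0)) * (two0 (F := F))
    have hx00 : (g * u 1 * g⁻¹).1 0 0 = 1 := by
      simp only [mul00, mul01, mul10, mul11, inv00, inv01, inv10, inv11, u00, u01, u10, u11,
        hg00]
      linear_combination (-1 : F) * hd - (two0 (F := F))
    have := h.pt_mem hx (by rw [hx10]; exact mul_ne_zero hr hr)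
    rw [hx00, hx10] at this
    apply h.sqrt_mem
    have h3 := h.u_inv_mem this
    rw [one_div, inv_inv] at h3
    exact h3
  have h3 : d (g.1 1 0) hr ∈ M := (h.d_mem_iff _ hr).2 h2
  have e : (w : SL(2, F)) = d (g.1 1 0) hr * g * u (g.1 1 1 / g.1 1 0) := by
    apply sl2_ext <;> simp only [mul00, mul01, mul10, mul11, u00, u01, u10, u11, d00, d01,
      d10, d11, w00, w01, w10, w11, hg00]
    · ring
    · linear_combination (-1 : F) * hd
    · field_simp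
      linear_combination (-(g.1 1 0)) * (two0 (F := F))
    · field_simp
      linear_combination (-(g.1 1 1)) * (two0 (F := F))
  rw [e]
  exact M.mul_mem (M.mul_mem h3 hg) h1

theorem NF.upper_mem_Sk (h : NF M) {g : SL(2, F)} (hg : g ∈ M) (hc : g.1 1 0 = 0) :
    g ∈ Sk h.F0 := by
  have hd := detC g
  rw [hc, mul_zero, add_zero] at hd
  have ha : g.1 0 0 ≠ 0 := by
    intro h0
    rw [h0, zero_mul] at hd
    exact zero_ne_one hd
  have he : g.1 1 1 ≠ 0 := by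
    intro h0
    rw [h0, mul_zero] at hd
    exact zero_ne_one hd
  have hgw : g * w ∈ M := M.mul_mem hg h.w_mem
  have e10 : (g * w).1 1 0 = g.1 1 1 := by
    rw [mul10, w00, w10, hc, zero_mul, zero_add, mul_neg, mul_one, negE]
  have e00 : (g * w).1 0 0 = g.1 0 1 := by
    rw [mul00, w00, w10, mul_zero, zero_add, mul_neg, mul_one, negE]
  have h1 := h.pt_mem hgw (by rw [e10]; exact he)
  rw [e00, e10] at h1
  have e1 : g.1 0 1 / g.1 1 1 = g.1 0 1 * g.1 0 0 := by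
    field_simp
    linear_combination (-(g.1 0 1)) * hd
  rw [e1] at h1
  have h2 : d (g.1 0 0) ha = u (g.1 0 1 * g.1 0 0) * g := by
    apply sl2_ext <;> simp only [mul00, mul01, mul10, mul11, u00, u01, u10, u11, d00, d01,
      d10, d11, hc]
    · ring
    · linear_combination (-(g.1 0 1)) * hd - g.1 0 1 * (two0 (F := F))
    · ring
    · rw [zero_mul, zero_add, one_mul]
      exact (eq_inv_of_mul_eq_one_right hd).symm
  have h3 : d (g.1 0 0) ha ∈ M := by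
    rw [h2]
    exact M.mul_mem h1 hg
  have h4 : g.1 0 0 ∈ h.F0 := (h.d_mem_iff _ ha).1 h3
  have h5 : g.1 0 1 ∈ h.F0 := by
    have := h.F0.mul_mem h1 (h.F0.inv_mem h4)
    rwa [mul_inv_cancel_right₀ ha] at this
  have h6 : g.1 1 1 ∈ h.F0 := by
    have : g.1 1 1 = (g.1 0 0)⁻¹ := eq_inv_of_mul_eq_one_right hd
    rw [this]
    exact h.F0.inv_mem h4
  exact ⟨h4, h5, by rw [hc]; exact h.F0.zero_mem, h6⟩

theorem lower_zero_aux (g : SL(2, F)) (hc : g.1 1 0 ≠ 0) :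
    (w * (u (g.1 0 0 / g.1 1 0) * g)).1 1 0 = 0 := by
  rw [mul10, mul00, mul10, w10, w11, u00, u01, u10, u11]
  field_simp
  linear_combination (-(g.1 0 0)) * (two0 (F := F))

theorem NF.le_Sk (h : NF M) : M ≤ Sk h.F0 := by
  intro g hg
  by_cases hc : g.1 1 0 = 0
  · exact h.upper_mem_Sk hg hc
  · have hp := h.pt_mem hg hc
    have h1 : w * (u (g.1 0 0 / g.1 1 0) * g) ∈ M := M.mul_mem h.w_mem (M.mul_mem hp hg)
    have h2 := h.upper_mem_Sk h1 (lower_zero_aux g hc)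
    have e : g = (u (g.1 0 0 / g.1 1 0))⁻¹ * (w⁻¹ * (w * (u (g.1 0 0 / g.1 1 0) * g))) := by
      group
    rw [e]
    exact (Sk h.F0).mul_mem ((Sk h.F0).inv_mem (u_mem_Sk hp))
      ((Sk h.F0).mul_mem ((Sk h.F0).inv_mem w_mem_Sk) h2)

theorem NF.upper_mem (h : NF M) {g : SL(2, F)} (hg : g ∈ Sk h.F0) (hc : g.1 1 0 = 0) :
    g ∈ M := by
  obtain ⟨h00, h01, h10, h11⟩ := hg
  have hd := detC g
  rw [hc, mul_zero, add_zero] at hd
  have ha : g.1 0 0 ≠ 0 := by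
    intro h0
    rw [h0, zero_mul] at hd
    exact zero_ne_one hd
  have e : g = u (g.1 0 1 * g.1 0 0) * d (g.1 0 0) ha := by
    apply sl2_ext <;> simp only [mul00, mul01, mul10, mul11, u00, u01, u10, u11, d00, d01,
      d10, d11]
    · ring
    · field_simp
      ring
    · rw [hc]; ring
    · rw [zero_mul, zero_add, one_mul]
      exact eq_inv_of_mul_eq_one_right hd
  rw [e]
  exact M.mul_mem (h.F0.mul_mem h01 h00) ((h.d_mem_iff _ ha).2 h00)

theorem NF.Sk_le (h : NF M) : Sk h.F0 ≤ M := by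
  intro g hg
  by_cases hc : g.1 1 0 = 0
  · exact h.upper_mem hg hc
  · have hp : g.1 0 0 / g.1 1 0 ∈ h.F0 := h.F0.div_mem hg.1 hg.2.2.1
    have hg' : w * (u (g.1 0 0 / g.1 1 0) * g) ∈ Sk h.F0 :=
      (Sk _).mul_mem w_mem_Sk ((Sk _).mul_mem (u_mem_Sk hp) hg)
    have h2 := h.upper_mem hg' (lower_zero_aux g hc)
    have e : g = (u (g.1 0 0 / g.1 1 0))⁻¹ * (w⁻¹ * (w * (u (g.1 0 0 / g.1 1 0) * g))) := by
      group
    rw [e]
    exact M.mul_mem (M.inv_mem hp) (M.mul_mem (M.inv_mem h.w_mem) h2)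

/-- a subgroup in normal form consists of the matrices over a subfield -/
theorem NF.eq_Sk (h : NF M) : M = Sk h.F0 := le_antisymm h.le_Sk h.Sk_le

theorem NF.F0_two (h : NF M) : ∃ b ∈ h.F0, b ≠ 0 ∧ b ≠ 1 := by
  obtain ⟨b, hb0, hb1, hbM⟩ := h.two
  exact ⟨b, hbM, hb0, hb1⟩

end Cfsg.Agent.Lib.Helper6.DE3
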