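import Mathlib
import Cfsg.Agent.Lib.Helper6.DE3

/-!
# The subgroups of `SL(2, F)` in characteristic two (helper6)

`subgroups`: every subgroup of `SL(2, F)`, `F` a finite field of characteristic two, is conjugate
to a subgroup of the upper triangular group, or to a subgroup of the normaliser `Ng (cm t)` of a
torus, or to the group `Sk k` of matrices over a subfield `k` with at least four elements.
-/

set_option autoImplicit false
set_option linter.unusedSimpArgs false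
set_option linter.unusedVariables false
set_option linter.unusedSectionVars false

namespace Cfsg.Agent.Lib.Helper6.DE4

open Matrix MatrixGroups Cfsg.Agent.Lib.Helper98.SL2Sub Cfsg.Agent.Lib.Helper98.ClassEq
  Cfsg.Agent.Lib.Helper6.DE1 Cfsg.Agent.Lib.Helper6.DE2 Cfsg.Agent.Lib.Helper6.DE3
open scoped commutatorElement

variable {F : Type*} [Field F] [Fintype F] [CharP F 2]

/-- the upper triangular subgroup -/
def Bor (F : Type*) [Field F] : Subgroup SL(2, F) where
  carrier := {g | g.1 1 0 = 0}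
  mul_mem' := by
    intro a b ha hb
    have ha' : a.1 1 0 = 0 := ha
    have hb' : b.1 1 0 = 0 := hb
    show (a * b).1 1 0 = 0
    rw [mul10, ha', hb']
    ring
  one_mem' := one10
  inv_mem' := by
    intro a ha
    have ha' : a.1 1 0 = 0 := ha
    show (a⁻¹).1 1 0 = 0
    rw [inv10, ha', neg_zero]

omit [Fintype F] [CharP F 2] in
theorem mem_Bor (g : SL(2, F)) : g ∈ Bor F ↔ g.1 1 0 = 0 := Iff.rfl

/-- the conclusion of the subgroup theorem -/
def Concl (M : Subgroup SL(2, F)) : Prop :=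
  ∃ g : SL(2, F), M.map (MulAut.conj g).toMonoidHom ≤ Bor F ∨
    (∃ t : F, t ≠ 0 ∧ M.map (MulAut.conj g).toMonoidHom ≤ Ng (cm t)) ∨
    (∃ k : Subfield F, (∃ b ∈ k, b ≠ 0 ∧ b ≠ 1) ∧ M.map (MulAut.conj g).toMonoidHom = Sk k)

theorem map_conj_one {G : Type*} [Group G] (M : Subgroup G) :
    M.map (MulAut.conj (1 : G)).toMonoidHom = M := by
  ext x
  rw [mem_conj, inv_one, one_mul, mul_one]

theorem concl_conj {M : Subgroup SL(2, F)} (g : SL(2, F))
    (h : Concl (M.map (MulAut.conj g).toMonoidHom)) : Concl M := by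
  obtain ⟨g', hg'⟩ := h
  refine ⟨g' * g, ?_⟩
  rw [← map_conj_map]
  exact hg'

theorem comm_of_cyclic {A : Type*} [Group A] [IsCyclic A] (a b : A) : a * b = b * a := by
  obtain ⟨g, hg⟩ := IsCyclic.exists_generator (α := A)
  obtain ⟨i, rfl⟩ := Subgroup.mem_zpowers_iff.1 (hg a)
  obtain ⟨i', rfl⟩ := Subgroup.mem_zpowers_iff.1 (hg b)
  rw [← _root_.zpow_add, ← _root_.zpow_add, add_comm]

/-- subgroups of odd prime power order are cyclic -/
theorem isCyclic_of_odd (Q : Subgroup SL(2, F)) {p : ℕ} [Fact p.Prime] (hp : p ≠ 2)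
    (hQ : IsPGroup p Q) : IsCyclic Q := by
  by_cases hQ1 : Q = ⊥
  · subst hQ1
    exact isCyclic_of_subsingleton
  · have hnt : Nontrivial Q := (Subgroup.nontrivial_iff_ne_bot Q).2 hQ1
    have hcn := hQ.center_nontrivial
    obtain ⟨⟨z, hzc⟩, hz1⟩ := exists_ne (1 : Subgroup.center Q)
    have hz1' : (z : SL(2, F)) ≠ 1 := fun h => hz1 (Subtype.ext (Subtype.ext h))
    have hzz : (z : SL(2, F)) * z ≠ 1 := by
      intro h
      obtain ⟨k, hk⟩ := hQ z
      have h1 : orderOf (z : SL(2, F)) ∣ 2 :=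
        orderOf_dvd_of_pow_eq_one (by rw [pow_two]; exact h)
      have h2 : orderOf (z : SL(2, F)) ∣ p ^ k := by
        apply orderOf_dvd_of_pow_eq_one
        have := congrArg Subtype.val hk
        simpa using this
      have hcop : Nat.Coprime 2 (p ^ k) :=
        Nat.Coprime.pow_right k ((Nat.coprime_primes Nat.prime_two Fact.out).2 (Ne.symm hp))
      have h3 : orderOf (z : SL(2, F)) = 1 := Nat.eq_one_of_dvd_coprimes hcop h1 h2
      exact hz1' (orderOf_eq_one_iff.1 h3)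
    have htr : (z : SL(2, F)).1 0 0 + (z : SL(2, F)).1 1 1 ≠ 0 := by
      intro h0
      apply hzz
      rw [DE1.mul_self_eq_one_iff]
      linear_combination h0 - (z : SL(2, F)).1 1 1 * (two0 (F := F))
    obtain ⟨h, hh⟩ := exists_conj_cm (z : SL(2, F)) hz1'
    have hcyc := isCyclic_cent_cm (F := F) htr
    let ψ : Q →* Subgroup.centralizer
        ({cm ((z : SL(2, F)).1 0 0 + (z : SL(2, F)).1 1 1)} : Set SL(2, F)) :=
      { toFun := fun y => ⟨h * y * h⁻¹, by
          rw [Subgroup.mem_centralizer_singleton_iff, ← hh]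
          have hc : (y : SL(2, F)) * z = z * y := by
            have := Subgroup.mem_center_iff.1 hzc y
            exact congrArg Subtype.val this
          calc h * y * h⁻¹ * (h * z * h⁻¹) = h * (y * z) * h⁻¹ := by group
            _ = h * (z * y) * h⁻¹ := by rw [hc]
            _ = h * z * h⁻¹ * (h * y * h⁻¹) := by group⟩
        map_one' := Subtype.ext (by simp)
        map_mul' := fun y y' => Subtype.ext (by simp [mul_assoc]) }
    have hψ : Function.Injective ψ := by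
      intro y y' hyy
      have h1 : h * (y : SL(2, F)) * h⁻¹ = h * y' * h⁻¹ := congrArg Subtype.val hyy
      exact Subtype.ext (mul_left_cancel (mul_right_cancel h1))
    exact isCyclic_of_injective ψ hψ

/-- if the Sylow 2-subgroups are cyclic, all Sylow subgroups are cyclic -/
theorem isZGroup_of_two (M : Subgroup SL(2, F)) (h2 : ∀ P : Sylow 2 M, IsCyclic P) :
    IsZGroup M := by
  refine ⟨fun p hp P => ?_⟩
  have : Fact p.Prime := ⟨hp⟩
  by_cases hp2 : p = 2
  · subst hp2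
    exact h2 P
  · have hP : IsPGroup p ((P : Subgroup M).map M.subtype) := P.isPGroup'.map _
    have hc2 : IsCyclic ((P : Subgroup M).map M.subtype) := isCyclic_of_odd _ hp2 hP
    exact isCyclic_of_surjective
      ((P : Subgroup M).equivMapOfInjective M.subtype M.subtype_injective).symm.toMonoidHom
      ((P : Subgroup M).equivMapOfInjective M.subtype M.subtype_injective).symm.surjective

/-- a subgroup normalising an abelian subgroup `N ≠ 1` lies in a Borel subgroup or in the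
normaliser of a torus -/
theorem normal_abelian_case (M N : Subgroup SL(2, F))
    (hNc : ∀ a ∈ N, ∀ b ∈ N, a * b = b * a) (hNn : ∀ g ∈ M, ∀ a ∈ N, g * a * g⁻¹ ∈ N)
    {z : SL(2, F)} (hzN : z ∈ N) (hz : z ≠ 1) : Concl M := by
  obtain ⟨h, hh⟩ := exists_conj_cm z hz
  by_cases ht : z.1 0 0 + z.1 1 1 = 0
  · rw [ht] at hh
    have hzu : (cm 1 * h) * z * (cm 1 * h)⁻¹ = u 1 := by
      rw [← cm_one_conj, ← hh]
      group
    refine ⟨cm 1 * h, Or.inl ?_⟩
    intro y hy
    rw [mem_conj] at hy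
    have h2 := hNc _ (hNn _ hy z hzN) _ hzN
    have h3 : (y * u 1 * y⁻¹) * u 1 = u 1 * (y * u 1 * y⁻¹) := by
      rw [← hzu]
      calc y * ((cm 1 * h) * z * (cm 1 * h)⁻¹) * y⁻¹ * ((cm 1 * h) * z * (cm 1 * h)⁻¹)
          = (cm 1 * h) * (((cm 1 * h)⁻¹ * y * (cm 1 * h)) * z *
              ((cm 1 * h)⁻¹ * y * (cm 1 * h))⁻¹ * z) * (cm 1 * h)⁻¹ := by group
        _ = (cm 1 * h) * (z * (((cm 1 * h)⁻¹ * y * (cm 1 * h)) * z *
              ((cm 1 * h)⁻¹ * y * (cm 1 * h))⁻¹)) * (cm 1 * h)⁻¹ := by rw [h2]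
        _ = _ := by group
    have h4 := cent_u one_ne_zero h3
    exact lower_zero_of_conj one_ne_zero h4
  · refine ⟨h, Or.inr (Or.inl ⟨_, ht, ?_⟩)⟩
    intro y hy
    rw [mem_conj] at hy
    have h2 := hNc _ (hNn _ hy z hzN) _ hzN
    have h3 : (y * cm (z.1 0 0 + z.1 1 1) * y⁻¹) * cm (z.1 0 0 + z.1 1 1) =
        cm (z.1 0 0 + z.1 1 1) * (y * cm (z.1 0 0 + z.1 1 1) * y⁻¹) := by
      rw [← hh]
      calc y * (h * z * h⁻¹) * y⁻¹ * (h * z * h⁻¹)
          = h * ((h⁻¹ * y * h) * z * (h⁻¹ * y * h)⁻¹ * z) * h⁻¹ := by group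
        _ = h * (z * ((h⁻¹ * y * h) * z * (h⁻¹ * y * h)⁻¹)) * h⁻¹ := by rw [h2]
        _ = _ := by group
    have h4 : (y * cm (z.1 0 0 + z.1 1 1) * y⁻¹).1 0 0 +
        (y * cm (z.1 0 0 + z.1 1 1) * y⁻¹).1 1 1 = z.1 0 0 + z.1 1 1 := by
      rw [DE1.trace_conj, cm00, cm11, zero_add]
    exact eq_cm_or_inv ht h3 h4

/-- a non-trivial subgroup all of whose Sylow subgroups are cyclic -/
theorem zgroup_case (M : Subgroup SL(2, F)) (hM1 : M ≠ ⊥) (hZ : IsZGroup M) : Concl M := by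
  have hcyc : IsCyclic (commutator M) := IsZGroup.isCyclic_commutator M
  by_cases hc : commutator M = ⊥
  · obtain ⟨z, hzM, hz1⟩ : ∃ z : SL(2, F), z ∈ M ∧ z ≠ 1 := by
      obtain ⟨z, hz⟩ := (Subgroup.ne_bot_iff_exists_ne_one (H := M)).1 hM1
      exact ⟨z.1, z.2, fun h => hz (Subtype.ext h)⟩
    refine normal_abelian_case M M ?_ ?_ hzM hz1
    · intro a ha b hb
      have h1 : ⁅(⟨a, ha⟩ : M), ⟨b, hb⟩⁆ ∈ commutator M :=
        Subgroup.commutator_mem_commutator (Subgroup.mem_top _) (Subgroup.mem_top _)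
      rw [hc, Subgroup.mem_bot, commutatorElement_eq_one_iff_mul_comm] at h1
      exact congrArg Subtype.val h1
    · intro g hg a ha
      exact M.mul_mem (M.mul_mem hg ha) (M.inv_mem hg)
  · obtain ⟨⟨z, hzM⟩, hzc, hz1⟩ : ∃ z : M, z ∈ commutator M ∧ z ≠ 1 := by
      obtain ⟨z, hz⟩ := (Subgroup.ne_bot_iff_exists_ne_one (H := commutator M)).1 hc
      exact ⟨z.1, z.2, fun h => hz (Subtype.ext h)⟩
    refine normal_abelian_case M ((commutator M).map M.subtype) ?_ ?_
      (Subgroup.mem_map_of_mem _ hzc) (fun h => hz1 (Subtype.ext h))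
    · rintro _ ⟨a, ha, rfl⟩ _ ⟨b, hb, rfl⟩
      have h1 := comm_of_cyclic (⟨a, ha⟩ : commutator M) ⟨b, hb⟩
      have h2 : a * b = b * a := congrArg Subtype.val h1
      exact congrArg Subtype.val h2
    · rintro g hg _ ⟨a, ha, rfl⟩
      have hn : (commutator M).Normal := inferInstance
      have h1 := hn.conj_mem a ha ⟨g, hg⟩
      exact ⟨_, h1, rfl⟩

/-- a Sylow 2-subgroup with a non-identity element contains an involution -/
theorem exists_invol_of_sylow {G : Type*} [Group G] (P : Sylow 2 G) (hP : ∃ x : P, x ≠ 1) :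
    ∃ t : G, t ∈ (P : Subgroup G) ∧ t ≠ 1 ∧ t * t = 1 := by
  have : Fact (Nat.Prime 2) := ⟨Nat.prime_two⟩
  obtain ⟨x, hx⟩ := hP
  obtain ⟨k, hk⟩ := (IsPGroup.iff_orderOf.1 P.isPGroup') x
  have hk0 : k ≠ 0 := by
    rintro rfl
    rw [pow_zero, orderOf_eq_one_iff] at hk
    exact hx hk
  obtain ⟨k', rfl⟩ : ∃ k', k = k' + 1 := ⟨k - 1, by omega⟩
  have ht1 : x ^ (2 ^ k') ≠ 1 := by
    apply pow_ne_one_of_lt_orderOf (by positivity)
    rw [hk]
    exact Nat.pow_lt_pow_right (by norm_num) (by omega)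
  have ht2 : x ^ (2 ^ k') * x ^ (2 ^ k') = 1 := by
    rw [← pow_add, ← two_mul, ← pow_succ', ← hk, pow_orderOf_eq_one]
  refine ⟨((x ^ (2 ^ k') : (P : Subgroup G)) : G), (x ^ (2 ^ k')).2, ?_, ?_⟩
  · intro h
    exact ht1 (Subtype.ext h)
  · have := congrArg (fun y : (P : Subgroup G) => (y : G)) ht2
    simpa using this

theorem cyclic_sylow_of_no_invol (M : Subgroup SL(2, F))
    (hno : ¬ ∃ t ∈ M, t ≠ 1 ∧ t * t = 1) (P : Sylow 2 M) : IsCyclic P := by
  by_cases hP : ∃ x : (P : Subgroup M), x ≠ 1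
  · exfalso
    obtain ⟨t, htP, ht1, htt⟩ := exists_invol_of_sylow P hP
    exact hno ⟨(t : SL(2, F)), t.2, fun h => ht1 (Subtype.ext h), congrArg Subtype.val htt⟩
  · push Not at hP
    have : Subsingleton (P : Subgroup M) := ⟨fun a b => (hP a).trans (hP b).symm⟩
    exact isCyclic_of_subsingleton

/-- if `u 1` is the only involution of `M` in the upper unitriangular group, the Sylow
2-subgroups of `M` have order two -/
theorem cyclic_sylow_of_unique (M : Subgroup SL(2, F)) (h1 : u 1 ∈ M)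
    (huniq : ∀ b, b ≠ 0 → u b ∈ M → b = 1) (P : Sylow 2 M) : IsCyclic P := by
  have : Fact (Nat.Prime 2) := ⟨Nat.prime_two⟩
  have htt : (⟨u 1, h1⟩ : M) * ⟨u 1, h1⟩ = 1 := Subtype.ext (u_mul_self 1)
  have hQ : IsPGroup 2 (Subgroup.zpowers (⟨u 1, h1⟩ : M)) := by
    rintro ⟨g, hg⟩
    refine ⟨1, ?_⟩
    obtain ⟨i, rfl⟩ := Subgroup.mem_zpowers_iff.1 hg
    apply Subtype.ext
    show ((⟨u 1, h1⟩ : M) ^ i) ^ 2 ^ 1 = 1
    rw [pow_one, ← zpow_natCast, ← _root_.zpow_mul, mul_comm, _root_.zpow_mul, zpow_natCast, pow_two, htt,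
      _root_.one_zpow]
  obtain ⟨P₀, hP₀⟩ := hQ.exists_le_sylow
  have htP₀ : (⟨u 1, h1⟩ : M) ∈ (P₀ : Subgroup M) := hP₀ (Subgroup.mem_zpowers _)
  have hall : ∀ y : M, y ∈ (P₀ : Subgroup M) → y = 1 ∨ y = ⟨u 1, h1⟩ := by
    intro y hy
    obtain ⟨j, hj⟩ := P₀.isPGroup' ⟨y, hy⟩
    have hj' : (y : SL(2, F)) ^ (2 ^ j) = 1 := by
      have := congrArg (fun z : (P₀ : Subgroup M) => ((z : M) : SL(2, F))) hj
      simpa using this
    have hyy : (y : SL(2, F)) * y = 1 := mul_self_of_pow _ j hj'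
    obtain ⟨j2, hj2⟩ := P₀.isPGroup' ⟨y * ⟨u 1, h1⟩, (P₀ : Subgroup M).mul_mem hy htP₀⟩
    have hj2' : ((y : SL(2, F)) * u 1) ^ (2 ^ j2) = 1 := by
      have := congrArg (fun z : (P₀ : Subgroup M) => ((z : M) : SL(2, F))) hj2
      simpa using this
    have hyt : ((y : SL(2, F)) * u 1) * ((y : SL(2, F)) * u 1) = 1 := mul_self_of_pow _ j2 hj2'
    have hcomm : (y : SL(2, F)) * u 1 = u 1 * (y : SL(2, F)) := by
      have h3 : (y : SL(2, F)) * u 1 = ((y : SL(2, F)) * u 1)⁻¹ :=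
        (inv_eq_of_mul_eq_one_right hyt).symm
      rw [h3, _root_.mul_inv_rev, u_inv', inv_eq_of_mul_eq_one_right hyy]
    have h4 := cent_u one_ne_zero hcomm
    by_cases h0 : (y : SL(2, F)).1 0 1 = 0
    · left
      apply Subtype.ext
      rw [h4, h0, u_zero]
      rfl
    · right
      apply Subtype.ext
      have hyM : u ((y : SL(2, F)).1 0 1) ∈ M := by
        rw [← h4]
        exact y.2
      rw [h4, huniq _ h0 hyM]
  have hc : IsCyclic (P₀ : Subgroup M) := by
    refine ⟨⟨⟨⟨u 1, h1⟩, htP₀⟩, ?_⟩⟩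
    rintro ⟨y, hy⟩
    rcases hall y hy with rfl | rfl
    · exact ⟨0, Subtype.ext (by simp)⟩
    · exact ⟨1, Subtype.ext (by simp)⟩
  exact isCyclic_of_surjective (Sylow.equiv P₀ P).toMonoidHom (Sylow.equiv P₀ P).surjective

theorem conj_u_00 (x : SL(2, F)) (hc : x.1 1 0 ≠ 0) :
    (u (x.1 0 0 / x.1 1 0) * x * (u (x.1 0 0 / x.1 1 0))⁻¹).1 0 0 = 0 := by
  simp only [mul00, mul01, mul10, mul11, inv00, inv01, inv10, inv11, u00, u01, u10, u11]
  field_simp
  linear_combination (x.1 0 0 * x.1 1 0) * (two0 (F := F))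

theorem conj_u_u (p b : F) : (u p)⁻¹ * u b * u p = u b := by
  rw [u_inv', u_mul, u_mul]
  congr 1
  linear_combination p * (two0 (F := F))

/-- **Dickson's theorem in characteristic two**: the subgroups of `SL(2, F)` -/
theorem subgroups (M : Subgroup SL(2, F)) : Concl M := by
  by_cases hbot : M = ⊥
  · refine ⟨1, Or.inl ?_⟩
    rw [hbot, Subgroup.map_bot]
    exact bot_le
  by_cases heven : ∃ t ∈ M, t ≠ 1 ∧ t * t = 1
  · obtain ⟨t, htM, ht1, htt⟩ := heven
    obtain ⟨h, hh⟩ := exists_conj_u_one t ht1 htt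
    apply concl_conj h
    have h1 : u 1 ∈ M.map (MulAut.conj h).toMonoidHom := by
      rw [← hh]
      exact conj_mem_conj M h t htM
    have hbot1 : M.map (MulAut.conj h).toMonoidHom ≠ ⊥ := by
      intro hb
      rw [hb, Subgroup.mem_bot] at h1
      exact u_ne_one one_ne_zero h1
    generalize M.map (MulAut.conj h).toMonoidHom = M₁ at h1 hbot1
    by_cases hB : ∀ x ∈ M₁, x.1 1 0 = 0
    · refine ⟨1, Or.inl ?_⟩
      rw [map_conj_one]
      exact hB
    · push Not at hB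
      obtain ⟨x, hx, hx10⟩ := hB
      apply concl_conj (u (x.1 0 0 / x.1 1 0))
      have h1' : u 1 ∈ M₁.map (MulAut.conj (u (x.1 0 0 / x.1 1 0))).toMonoidHom := by
        rw [mem_conj, conj_u_u]
        exact h1
      have hg' := conj_mem_conj M₁ (u (x.1 0 0 / x.1 1 0)) x hx
      have hg'00 := conj_u_00 x hx10
      have hbot2 : M₁.map (MulAut.conj (u (x.1 0 0 / x.1 1 0))).toMonoidHom ≠ ⊥ := by
        intro hb
        rw [hb, Subgroup.mem_bot] at h1'
        exact u_ne_one one_ne_zero h1'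
      generalize M₁.map (MulAut.conj (u (x.1 0 0 / x.1 1 0))).toMonoidHom = M₂ at h1' hg' hbot2
      by_cases h2 : ∃ b : F, b ≠ 0 ∧ b ≠ 1 ∧ u b ∈ M₂
      · have hNF : NF M₂ := ⟨h1', ⟨_, hg', hg'00⟩, h2⟩
        refine ⟨1, Or.inr (Or.inr ⟨hNF.F0, hNF.F0_two, ?_⟩)⟩
        rw [map_conj_one]
        exact hNF.eq_Sk
      · push Not at h2
        have huniq : ∀ b, b ≠ 0 → u b ∈ M₂ → b = 1 := fun b hb hbM =>
          by_contra fun hb1 => h2 b hb hb1 hbM
        exact zgroup_case M₂ hbot2 (isZGroup_of_two M₂ (cyclic_sylow_of_unique M₂ h1' huniq))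
  · exact zgroup_case M hbot (isZGroup_of_two M (cyclic_sylow_of_no_invol M heven))

end Cfsg.Agent.Lib.Helper6.DE4
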