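import Mathlib
import Cfsg.Agent.Lib.Helper6.DE4
import Cfsg.Agent.Lib.Helper20.DihQuat

/-!
# Structure of the three families of subgroups of `SL(2, F)`, characteristic two (helper6)

* `card_Bor`: the upper triangular group has order `q (q - 1)`;
* `card_cent_cm`: the centraliser of `cm t` has order `q - 1` or `q + 1`;
* `dihedral_Ng`: `Ng (cm t)` is dihedral of order twice the order of the centraliser.
-/

set_option autoImplicit false
set_option linter.unusedSimpArgs false
set_option linter.unusedVariables false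
set_option linter.unusedSectionVars false

namespace Cfsg.Agent.Lib.Helper6.DE5

open Matrix MatrixGroups Cfsg.Agent.Lib.Helper98.SL2Sub Cfsg.Agent.Lib.Helper98.ClassEq
  Cfsg.Agent.Lib.Helper6.DE1 Cfsg.Agent.Lib.Helper6.DE2 Cfsg.Agent.Lib.Helper6.DE3
  Cfsg.Agent.Lib.Helper6.DE4

variable {F : Type*} [Field F] [Fintype F] [CharP F 2]

theorem card_Bor : Nat.card (Bor F) = Fintype.card F * (Fintype.card F - 1) := by
  classical
  have hinj : ∀ g : Bor F, g.1.1 0 0 ≠ 0 := by
    intro g h0
    have hd := detC g.1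
    have hc : g.1.1 1 0 = 0 := g.2
    rw [h0, hc] at hd
    simp at hd
  let e : Bor F ≃ F × Fˣ :=
    { toFun := fun g => (g.1.1 0 1, Units.mk0 (g.1.1 0 0) (hinj g))
      invFun := fun p => ⟨mk4 (p.2 : F) p.1 0 ((p.2 : F)⁻¹)
        (by rw [mul_zero, add_zero, mul_inv_cancel₀ p.2.ne_zero]), rfl⟩
      left_inv := by
        rintro ⟨g, hg⟩
        have hg' : g.1 1 0 = 0 := hg
        apply Subtype.ext
        apply sl2_ext
        · rfl
        · rfl
        · exact hg'.symm
        · have hd := detC g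
          rw [hg', mul_zero, add_zero] at hd
          show (g.1 0 0)⁻¹ = g.1 1 1
          exact inv_eq_of_mul_eq_one_right hd
      right_inv := by
        rintro ⟨b, a⟩
        apply Prod.ext
        · rfl
        · apply Units.ext
          rfl }
  rw [Nat.card_congr e, Nat.card_prod, Nat.card_units, Nat.card_eq_fintype_card]

theorem card_cent_cm (t : F) :
    Nat.card (Subgroup.centralizer ({cm t} : Set SL(2, F))) = Fintype.card F - 1 ∨
    Nat.card (Subgroup.centralizer ({cm t} : Set SL(2, F))) = Fintype.card F + 1 ∨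
    (t = 0 ∧ Nat.card (Subgroup.centralizer ({cm t} : Set SL(2, F))) = Fintype.card F) := by
  have h := Cfsg.Agent.Lib.Helper42.SL2Even.card_centralizer (cm t) (cm_ne_one t)
  have h00 : (cm t) 0 0 + (cm t) 1 1 = t := by
    show (cm t).1 0 0 + (cm t).1 1 1 = t
    rw [cm00, cm11, zero_add]
  rw [h00] at h
  by_cases ht : t = 0
  · right; right
    refine ⟨ht, ?_⟩
    rw [h, ht]
    exact Cfsg.Agent.Lib.Helper42.SL2Even.card_sol_zero
  · by_cases hr : ∃ r : F, r ^ 2 + t * r + 1 = 0
    · obtain ⟨r, hr⟩ := hr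
      left
      rw [h]
      exact Cfsg.Agent.Lib.Helper42.SL2Even.card_sol_split t ht r hr
    · right; left
      rw [h]
      exact Cfsg.Agent.Lib.Helper42.SL2Even.card_sol_nonsplit t (fun r hr' => hr ⟨r, hr'⟩)

theorem card_cent_cm' {t : F} (ht : t ≠ 0) :
    Nat.card (Subgroup.centralizer ({cm t} : Set SL(2, F))) = Fintype.card F - 1 ∨
    Nat.card (Subgroup.centralizer ({cm t} : Set SL(2, F))) = Fintype.card F + 1 := by
  rcases card_cent_cm t with h | h | h
  · exact Or.inl h
  · exact Or.inr h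
  · exact absurd h.1 ht

theorem card_Ng_cm {t : F} (ht : t ≠ 0) :
    Nat.card (Ng (cm t)) = 2 * Nat.card (Subgroup.centralizer ({cm t} : Set SL(2, F))) := by
  rcases card_Ng (cm t) with h | h
  · exfalso
    have hle := centralizer_le_Ng (cm t)
    have heq : Subgroup.centralizer ({cm t} : Set SL(2, F)) = Ng (cm t) :=
      Subgroup.eq_of_le_of_card_ge hle h.le
    have hl := l_mem_Ng t
    rw [← heq, Subgroup.mem_centralizer_singleton_iff] at hl
    exact l_not_cent ht hl
  · exact h

/-- `Ng (cm t)` is a dihedral group -/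
theorem dihedral_Ng {t : F} (ht : t ≠ 0) (n : ℕ)
    (hn : Nat.card (Subgroup.centralizer ({cm t} : Set SL(2, F))) = n) :
    Nonempty (Ng (cm t) ≃* DihedralGroup n) := by
  haveI hcyc := isCyclic_cent_cm (F := F) ht
  obtain ⟨⟨τ, hτ⟩, hgen⟩ := IsCyclic.exists_generator
    (α := Subgroup.centralizer ({cm t} : Set SL(2, F)))
  have hord : orderOf (⟨τ, hτ⟩ : Subgroup.centralizer ({cm t} : Set SL(2, F))) = n := by
    rw [orderOf_eq_card_of_forall_mem_zpowers hgen, hn]
  rw [Subgroup.orderOf_mk] at hord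
  have hn0 : n ≠ 0 := by
    rw [← hn]
    exact Nat.card_pos.ne'
  haveI : NeZero n := ⟨hn0⟩
  have hτc : τ * cm t = cm t * τ := Subgroup.mem_centralizer_singleton_iff.1 hτ
  let a : Ng (cm t) := ⟨τ, centralizer_le_Ng _ hτ⟩
  let b : Ng (cm t) := ⟨l t, l_mem_Ng t⟩
  have ha : orderOf a = n := by
    rw [Subgroup.orderOf_mk]
    exact hord
  have hb : b * b = 1 := Subtype.ext (l_mul_self t)
  have hab : b * a * b⁻¹ = a⁻¹ := Subtype.ext (l_conj_cent hτc)
  have hba : ∀ i : ZMod n, b ≠ Cfsg.Agent.Lib.Helper20.ZP.zp a n i := by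
    intro i hbi
    have h1 : l t = τ ^ i.val := by
      have := congrArg Subtype.val hbi
      exact this
    have h2 : l t ∈ Subgroup.centralizer ({cm t} : Set SL(2, F)) := by
      rw [h1]
      exact Subgroup.pow_mem _ hτ _
    exact l_not_cent ht (Subgroup.mem_centralizer_singleton_iff.1 h2)
  have hinj := Cfsg.Agent.Lib.Helper20.DihQuat.dihHom_injective ha hb hab hba
  have hcard : Nat.card (DihedralGroup n) = Nat.card (Ng (cm t)) := by
    rw [DihedralGroup.nat_card, card_Ng_cm ht, hn]
  have hbij : Function.Bijective (Cfsg.Agent.Lib.Helper20.DihQuat.dihHom ha hb hab) :=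
    (Nat.bijective_iff_injective_and_card _).2 ⟨hinj, hcard⟩
  exact ⟨(MulEquiv.ofBijective _ hbij).symm⟩

omit [CharP F 2] in
/-- a non-prime degree gives a proper intermediate field -/
theorem exists_intermediate_gen (k : Subfield F) (hd : ¬ (Module.finrank k F).Prime)
    (hd1 : Module.finrank k F ≠ 1) :
    ∃ E : Subfield F, k ≤ E ∧ (∃ x ∈ E, x ∉ k) ∧ (∃ x, x ∉ E) := by
  set d := Module.finrank k F with hdd
  have hd0 : 0 < d := Module.finrank_pos
  have hpp : d.minFac.Prime := Nat.minFac_prime hd1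
  haveI : Fact d.minFac.Prime := ⟨hpp⟩
  have hpd : d.minFac ∣ d := Nat.minFac_dvd d
  have hcard : Nat.card (F ≃ₐ[k] F) = d := IsGalois.card_aut_eq_finrank k F
  obtain ⟨σ, hσ⟩ := exists_prime_orderOf_dvd_card' (G := F ≃ₐ[k] F) d.minFac (by rw [hcard]; exact hpd)
  let H : Subgroup (F ≃ₐ[k] F) := Subgroup.zpowers σ
  have hH : Nat.card H = d.minFac := by
    rw [Nat.card_zpowers, hσ]
  let E : IntermediateField k F := IntermediateField.fixedField H
  have h1 : Module.finrank E F = d.minFac := by
    rw [IntermediateField.finrank_fixedField_eq_card, hH]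
  have h2 : Module.finrank k E * Module.finrank E F = d := Module.finrank_mul_finrank k E F
  refine ⟨E.toSubfield, ?_, ?_, ?_⟩
  · intro x hx
    exact E.algebraMap_mem ⟨x, hx⟩
  · by_contra hcon
    push_neg at hcon
    have hE : E = ⊥ := by
      rw [eq_bot_iff]
      intro x hx
      rw [IntermediateField.mem_bot]
      exact ⟨⟨x, hcon x hx⟩, rfl⟩
    have h3 : Module.finrank k E = 1 := IntermediateField.finrank_eq_one_iff.2 hE
    rw [h3, one_mul, h1] at h2
    rw [← h2] at hd
    exact hd hpp
  · by_contra hcon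
    push_neg at hcon
    have hE : E = ⊤ := by
      rw [eq_top_iff]
      intro x _
      exact hcon x
    have h3 : Module.finrank E F = 1 := IntermediateField.finrank_eq_one_iff_eq_top.2 hE
    rw [h3] at h1
    exact hpp.one_lt.ne' h1.symm

omit [CharP F 2] in
/-- if `Sk k` is a maximal subgroup then `F` has prime degree over `k` -/
theorem prime_of_coatom (k : Subfield F) (hk : IsCoatom (Sk k)) :
    ∃ r : ℕ, r.Prime ∧ Fintype.card F = Nat.card k ^ r := by
  have hc : Nat.card F = Nat.card k ^ Module.finrank k F := Module.natCard_eq_pow_finrank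
  rw [Nat.card_eq_fintype_card] at hc
  refine ⟨Module.finrank k F, ?_, hc⟩
  by_contra hd
  by_cases hd1 : Module.finrank k F = 1
  · rw [hd1, pow_one] at hc
    have hbij : Function.Bijective (k.subtype : k → F) :=
      Function.Injective.bijective_of_nat_card_le Subtype.val_injective
        (by rw [Nat.card_eq_fintype_card, hc])
    apply hk.1
    rw [eq_top_iff]
    intro g _
    have hmem : ∀ x : F, x ∈ k := by
      intro x
      obtain ⟨y, rfl⟩ := hbij.2 x
      exact y.2
    exact ⟨hmem _, hmem _, hmem _, hmem _⟩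
  · obtain ⟨E, hkE, ⟨x, hxE, hxk⟩, ⟨y, hy⟩⟩ := exists_intermediate_gen k hd hd1
    have hlt : Sk k < Sk E := by
      refine lt_of_le_of_ne ?_ ?_
      · rintro g ⟨h1, h2, h3, h4⟩
        exact ⟨hkE h1, hkE h2, hkE h3, hkE h4⟩
      · intro heq
        have : u x ∈ Sk k := by
          rw [heq]
          exact u_mem_Sk hxE
        exact hxk this.2.1
    exact Sk_ne_top E y hy (hk.2 _ hlt)

end Cfsg.Agent.Lib.Helper6.DE5
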