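import Mathlib
import Cfsg.Agent.Lib.Helper6.DE5
import Cfsg.Agent.Lib.Helper98.SL2Field
import Cfsg.Agent.Lib.Helper99.PSLCongr

/-!
# Maximal subgroups of `PSL(2, F)`, `F` of even order (helper6)

`psl_max`: a maximal subgroup of `PSL(2, F)` (`|F| = q ≥ 4` even) has order `q (q - 1)`, or is
dihedral of order `2 (q - 1)` or `2 (q + 1)`, or is `PSL(2, F₀)` for a subfield `F₀ ≠ 𝔽₂` of
prime index.
-/

set_option autoImplicit false
set_option linter.unusedSimpArgs false
set_option linter.unusedVariables false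
set_option linter.unusedSectionVars false

namespace Cfsg.Agent.Lib.Helper6.DE6

open Matrix MatrixGroups Cfsg.Agent.Lib.Helper98.SL2Sub Cfsg.Agent.Lib.Helper98.ClassEq
  Cfsg.Agent.Lib.Helper6.DE1 Cfsg.Agent.Lib.Helper6.DE2 Cfsg.Agent.Lib.Helper6.DE3
  Cfsg.Agent.Lib.Helper6.DE4 Cfsg.Agent.Lib.Helper6.DE5

variable {F : Type*} [Field F] [Fintype F]

theorem Bor_ne_top : Bor F ≠ ⊤ := by
  intro h
  have h1 : l (1 : F) ∈ Bor F := by rw [h]; trivial
  rw [mem_Bor, l10] at h1
  exact one_ne_zero h1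

theorem Ng_ne_top [CharP F 2] (h4 : 4 ≤ Fintype.card F) {t : F} (ht : t ≠ 0) :
    Ng (cm t) ≠ ⊤ := by
  intro h
  have h1 := card_Ng_cm ht
  rw [h, Subgroup.card_top, Cfsg.Agent.Lib.Helper42.SL2Even.card_SL2F] at h1
  have h2 : Nat.card (Subgroup.centralizer ({cm t} : Set SL(2, F))) ≤ Fintype.card F + 1 := by
    rcases card_cent_cm' ht with h | h <;> rw [h] <;> omega
  have h3 : Fintype.card F * (Fintype.card F ^ 2 - 1) ≤ 2 * (Fintype.card F + 1) := by
    rw [h1]
    omega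
  obtain ⟨m, hm⟩ : ∃ m, Fintype.card F = m + 4 := ⟨Fintype.card F - 4, by omega⟩
  rw [hm] at h3
  have h5 : (m + 4) ^ 2 - 1 = (m + 4) * (m + 4) - 1 := by rw [pow_two]
  have h6 : 15 ≤ (m + 4) ^ 2 - 1 := by
    rw [h5]
    have : 16 ≤ (m + 4) * (m + 4) := by nlinarith
    omega
  have h7 : (m + 4) * 15 ≤ (m + 4) * ((m + 4) ^ 2 - 1) := Nat.mul_le_mul_left _ h6
  omega

theorem psl_max (heven : Even (Fintype.card F)) (h4 : 4 ≤ Fintype.card F)
    (M : Subgroup (Matrix.ProjectiveSpecialLinearGroup (Fin 2) F)) (hM : IsCoatom M) :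
    Nat.card M = Fintype.card F * (Fintype.card F - 1) ∨
    Nonempty (M ≃* DihedralGroup (Fintype.card F - 1)) ∨
    Nonempty (M ≃* DihedralGroup (Fintype.card F + 1)) ∨
    (∃ (F₀ : Type) (_ : Field F₀) (_ : Fintype F₀) (r : ℕ), r.Prime ∧ Fintype.card F₀ ≠ 2 ∧
        Fintype.card F = Fintype.card F₀ ^ r ∧
        Nonempty (M ≃* Matrix.ProjectiveSpecialLinearGroup (Fin 2) F₀)) := by
  classical
  haveI : CharP F 2 :=
    Cfsg.Agent.Lib.Helper42.SL2Even.charP_two_of_even (even_iff_two_dvd.1 heven)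
  let e : SL(2, F) ≃* Matrix.ProjectiveSpecialLinearGroup (Fin 2) F :=
    Cfsg.Agent.Lib.Helper42.SL2Even.slEquivPSL (F := F)
  obtain ⟨M', hM'⟩ : ∃ M' : Subgroup SL(2, F), M' = M.map e.symm.toMonoidHom := ⟨_, rfl⟩
  have hM'co : IsCoatom M' := by
    rw [hM']
    exact (OrderIso.isCoatom_iff e.symm.mapSubgroup M).2 hM
  have iso1 : M ≃* M' := by
    rw [hM']
    exact Subgroup.equivMapOfInjective M e.symm.toMonoidHom e.symm.injective
  obtain ⟨g, hg⟩ := subgroups M'
  obtain ⟨M'', hM''⟩ : ∃ M'' : Subgroup SL(2, F), M'' = M'.map (MulAut.conj g).toMonoidHom :=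
    ⟨_, rfl⟩
  rw [← hM''] at hg
  have hM''co : IsCoatom M'' := by
    rw [hM'']
    exact (OrderIso.isCoatom_iff (MulAut.conj g).mapSubgroup M').2 hM'co
  have iso2 : M' ≃* M'' := by
    rw [hM'']
    exact Subgroup.equivMapOfInjective M' _ (MulAut.conj g).injective
  have iso : M ≃* M'' := iso1.trans iso2
  rcases hg with hB | ⟨t, ht, hN⟩ | ⟨k, ⟨b, hbk, hb0, hb1⟩, hk⟩
  · left
    have hMB : M'' = Bor F := by
      by_contra hne
      exact Bor_ne_top (hM''co.2 _ (lt_of_le_of_ne hB hne))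
    rw [Nat.card_congr iso.toEquiv, hMB, card_Bor]
  · right
    have hMN : M'' = Ng (cm t) := by
      by_contra hne
      exact Ng_ne_top h4 ht (hM''co.2 _ (lt_of_le_of_ne hN hne))
    rcases card_cent_cm' ht with hc | hc
    · left
      obtain ⟨φ⟩ := dihedral_Ng ht _ hc
      exact ⟨iso.trans ((MulEquiv.subgroupCongr hMN).trans φ)⟩
    · right; left
      obtain ⟨φ⟩ := dihedral_Ng ht _ hc
      exact ⟨iso.trans ((MulEquiv.subgroupCongr hMN).trans φ)⟩
  · right; right; right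
    rw [hk] at hM''co
    obtain ⟨r, hr, hcard⟩ := prime_of_coatom k hM''co
    obtain ⟨N, -, hN⟩ := FiniteField.card F 2
    have hdvd : Nat.card k ∣ 2 ^ (N : ℕ) := by
      rw [← hN, hcard]
      exact dvd_pow_self _ hr.ne_zero
    obtain ⟨n, -, hn⟩ := (Nat.dvd_prime_pow Nat.prime_two).1 hdvd
    have hk2 : Nat.card k ≠ 2 := by
      intro h2
      obtain ⟨y, -, hy⟩ := (Nat.card_eq_two_iff' (0 : k)).1 h2
      have e1 : (⟨b, hbk⟩ : k) = y := hy _ (fun h => hb0 (congrArg Subtype.val h))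
      have e2 : (1 : k) = y := hy _ one_ne_zero
      exact hb1 (congrArg Subtype.val (e1.trans e2.symm))
    have hn0 : n ≠ 0 := by
      rintro rfl
      rw [pow_zero] at hn
      have : Nontrivial k := inferInstance
      have := Finite.one_lt_card (α := k)
      omega
    haveI : Fintype k := Fintype.ofFinite k
    letI : Fintype (GaloisField 2 n) := Fintype.ofFinite _
    have hc0 : Fintype.card (GaloisField 2 n) = Nat.card k := by
      rw [← Nat.card_eq_fintype_card, GaloisField.card 2 n hn0, hn]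
    refine ⟨GaloisField 2 n, inferInstance, inferInstance, r, hr, ?_, ?_, ?_⟩
    · rw [hc0]
      exact hk2
    · rw [hc0]
      exact hcard
    · have iso3 : (Sk k) ≃* (Sk k).map (QuotientGroup.mk' (Subgroup.center SL(2, F))) :=
        Subgroup.equivMapOfInjective _ _ e.injective
      have iso4 := Cfsg.Agent.Lib.Helper98.SL2Field.pslIso (k.subtype)
      rw [Subfield.fieldRange_subtype] at iso4
      obtain ⟨iso5⟩ := Cfsg.Agent.Lib.Helper99.PSLCongr.nonempty_pslCongr_of_card_eq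
        (n := Fin 2) (K := k) (K' := GaloisField 2 n)
        (by rw [hc0, Nat.card_eq_fintype_card])
      exact ⟨((iso.trans (MulEquiv.subgroupCongr hk)).trans iso3).trans (iso4.trans iso5)⟩

end Cfsg.Agent.Lib.Helper6.DE6
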