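import Mathlib
import Cfsg.Prelude.Def_LieExceptional
import Cfsg.Agent.Lib.Helper6.InvLen
import Cfsg.Agent.Lib.Helper6.BN
import Cfsg.Agent.Lib.Helper6.BN2

set_option autoImplicit false

namespace Cfsg.Agent.Lib.Helper6.BN3

open Cfsg.Agent.Lib.Helper6.InvLen Cfsg.Agent.Lib.Helper6.BN Cfsg.Agent.Lib.Helper6.BN2

theorem exists_word_of_mem_closure {W : Type*} [Group W] {S : Set W} (hS : ∀ s ∈ S, s * s = 1)
    {w : W} (hw : w ∈ Subgroup.closure S) : ∃ l : List W, (∀ x ∈ l, x ∈ S) ∧ l.prod = w := by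
  induction hw using Subgroup.closure_induction with
  | mem x hx => exact ⟨[x], by simpa using hx, by simp⟩
  | one => exact ⟨[], by simp, by simp⟩
  | mul x y _ _ ihx ihy =>
    obtain ⟨l1, h1, rfl⟩ := ihx
    obtain ⟨l2, h2, rfl⟩ := ihy
    refine ⟨l1 ++ l2, ?_, by simp⟩
    intro x hx
    rcases List.mem_append.1 hx with h | h
    · exact h1 x h
    · exact h2 x h
  | inv x _ ih =>
    obtain ⟨l, h1, rfl⟩ := ih
    refine ⟨l.reverse, fun x hx => h1 x (List.mem_reverse.1 hx), ?_⟩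
    rw [List.prod_inv_reverse]
    congr 1
    have : l.map (fun x => x⁻¹) = l := by
      conv_rhs => rw [← List.map_id l]
      apply List.map_congr_left
      intro a ha
      have := hS a (h1 a ha)
      simp only [id]
      exact inv_eq_of_mul_eq_one_left this
    rw [this]

variable {G : Type*} [Group G] (P : Cfsg.BNPair G)

/-- image in the Weyl group of a set of elements -/
def img (J : Set G) : Set (Wg P) := {w | ∃ s : P.N, (s : G) ∈ J ∧ proj P s = w}

theorem img_S : img P P.S = SW P := rfl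

theorem img_mono {J K : Set G} (h : J ⊆ K) : img P J ⊆ img P K := by
  rintro w ⟨s, hs, rfl⟩
  exact ⟨s, h hs, rfl⟩

theorem parabolic_eq_closure (J : Set G) :
    P.parabolic J = Subgroup.closure ((P.B : Set G) ∪ J) := by
  unfold Cfsg.BNPair.parabolic
  rw [Subgroup.closure_union, Subgroup.closure_eq]

theorem dc_mul_right {n y b : G} (hb : b ∈ P.B)
    (hy : y ∈ DoubleCoset.doubleCoset n (P.B : Set G) P.B) :
    y * b ∈ DoubleCoset.doubleCoset n (P.B : Set G) P.B := by
  rw [DoubleCoset.mem_doubleCoset] at hy ⊢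
  obtain ⟨c, hc, c', hc', rfl⟩ := hy
  exact ⟨c, hc, c' * b, P.B.mul_mem hc' hb, by simp [mul_assoc]⟩

theorem dc_mul_left {n y b : G} (hb : b ∈ P.B)
    (hy : y ∈ DoubleCoset.doubleCoset n (P.B : Set G) P.B) :
    b * y ∈ DoubleCoset.doubleCoset n (P.B : Set G) P.B := by
  rw [DoubleCoset.mem_doubleCoset] at hy ⊢
  obtain ⟨c, hc, c', hc', rfl⟩ := hy
  exact ⟨b * c, P.B.mul_mem hb hc, c', hc', by simp [mul_assoc]⟩

theorem closure_le_N {J : Set G} (hJ : J ⊆ P.S) : Subgroup.closure J ≤ P.N :=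
  (Subgroup.closure_le _).2 (hJ.trans P.subset)

/-- the standard parabolic is the union of double cosets -/
theorem mem_parabolic_iff {J : Set G} (hJ : J ⊆ P.S) (g : G) :
    g ∈ P.parabolic J ↔
      ∃ n ∈ Subgroup.closure J, g ∈ DoubleCoset.doubleCoset n (P.B : Set G) P.B := by
  constructor
  · intro hg
    rw [parabolic_eq_closure] at hg
    have key : ∀ h : G, (∃ n ∈ Subgroup.closure J, h ∈ DoubleCoset.doubleCoset n (P.B : Set G) P.B) →
        (∃ n ∈ Subgroup.closure J, g * h ∈ DoubleCoset.doubleCoset n (P.B : Set G) P.B) ∧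
        (∃ n ∈ Subgroup.closure J, g⁻¹ * h ∈ DoubleCoset.doubleCoset n (P.B : Set G) P.B) := by
      induction hg using Subgroup.closure_induction with
      | mem x hx =>
        rintro h ⟨n, hn, hh⟩
        rcases hx with hx | hx
        · exact ⟨⟨n, hn, dc_mul_left P hx hh⟩, ⟨n, hn, dc_mul_left P (P.B.inv_mem hx) hh⟩⟩
        · have hxS : x ∈ P.S := hJ hx
          have hnN : n ∈ P.N := closure_le_N P hJ hn
          have hxc : x ∈ Subgroup.closure J := Subgroup.subset_closure hx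
          rw [DoubleCoset.mem_doubleCoset] at hh
          obtain ⟨b1, hb1, b2, hb2, rfl⟩ := hh
          constructor
          · have e : x * (b1 * n * b2) = (x * b1 * n) * b2 := by group
            rw [e]
            rcases P.mul_mem_union x hxS n hnN b1 hb1 with h1 | h1
            · exact ⟨x * n, Subgroup.mul_mem _ hxc hn, dc_mul_right P hb2 h1⟩
            · exact ⟨n, hn, dc_mul_right P hb2 h1⟩
          · have hb : (x * x)⁻¹ * b1 ∈ P.B := P.B.mul_mem (P.B.inv_mem (P.sq_mem x hxS)) hb1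
            have e : x⁻¹ * (b1 * n * b2) = (x * ((x * x)⁻¹ * b1) * n) * b2 := by group
            rw [e]
            rcases P.mul_mem_union x hxS n hnN _ hb with h1 | h1
            · exact ⟨x * n, Subgroup.mul_mem _ hxc hn, dc_mul_right P hb2 h1⟩
            · exact ⟨n, hn, dc_mul_right P hb2 h1⟩
      | one => intro h hh; simpa using hh
      | mul x y _ _ ihx ihy =>
        intro h hh
        constructor
        · rw [mul_assoc]; exact (ihx _ (ihy h hh).1).1
        · rw [mul_inv_rev, mul_assoc]; exact (ihy _ (ihx h hh).2).2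
      | inv x _ ih =>
        intro h hh
        rw [inv_inv]
        exact ⟨(ih h hh).2, (ih h hh).1⟩
    have := (key 1 ⟨1, Subgroup.one_mem _, by
      rw [DoubleCoset.mem_doubleCoset]; exact ⟨1, P.B.one_mem, 1, P.B.one_mem, by simp⟩⟩).1
    simpa using this
  · rintro ⟨n, hn, hg⟩
    rw [DoubleCoset.mem_doubleCoset] at hg
    obtain ⟨b1, hb1, b2, hb2, rfl⟩ := hg
    unfold Cfsg.BNPair.parabolic
    have hB : P.B ≤ P.B ⊔ Subgroup.closure J := le_sup_left
    have hJ' : Subgroup.closure J ≤ P.B ⊔ Subgroup.closure J := le_sup_right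
    exact Subgroup.mul_mem _ (Subgroup.mul_mem _ (hB hb1) (hJ' hn)) (hB hb2)

theorem proj_mem_closure_img {J : Set G} (hJ : J ⊆ P.S) {n : G} (hn : n ∈ Subgroup.closure J) :
    ∃ h : n ∈ P.N, proj P ⟨n, h⟩ ∈ Subgroup.closure (img P J) := by
  induction hn using Subgroup.closure_induction with
  | mem x hx =>
    exact ⟨P.subset (hJ hx), Subgroup.subset_closure ⟨⟨x, P.subset (hJ hx)⟩, hx, rfl⟩⟩
  | one =>
    refine ⟨P.N.one_mem, ?_⟩
    have : (⟨1, P.N.one_mem⟩ : P.N) = 1 := rfl
    rw [this, map_one]; exact Subgroup.one_mem _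
  | mul x y _ _ ihx ihy =>
    obtain ⟨hx, hx'⟩ := ihx
    obtain ⟨hy, hy'⟩ := ihy
    refine ⟨P.N.mul_mem hx hy, ?_⟩
    have : (⟨x * y, P.N.mul_mem hx hy⟩ : P.N) = ⟨x, hx⟩ * ⟨y, hy⟩ := rfl
    rw [this, map_mul]; exact Subgroup.mul_mem _ hx' hy'
  | inv x _ ih =>
    obtain ⟨hx, hx'⟩ := ih
    refine ⟨P.N.inv_mem hx, ?_⟩
    have : (⟨x⁻¹, P.N.inv_mem hx⟩ : P.N) = (⟨x, hx⟩ : P.N)⁻¹ := rfl
    rw [this, map_inv]; exact Subgroup.inv_mem _ hx'

theorem exists_rep_closure {J : Set G} {w : Wg P} (hw : w ∈ Subgroup.closure (img P J)) :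
    ∃ n : P.N, (n : G) ∈ Subgroup.closure J ∧ proj P n = w := by
  induction hw using Subgroup.closure_induction with
  | mem x hx =>
    obtain ⟨s, hs, rfl⟩ := hx
    exact ⟨s, Subgroup.subset_closure hs, rfl⟩
  | one => exact ⟨1, Subgroup.one_mem _, map_one _⟩
  | mul x y _ _ ihx ihy =>
    obtain ⟨n1, h1, rfl⟩ := ihx
    obtain ⟨n2, h2, rfl⟩ := ihy
    exact ⟨n1 * n2, Subgroup.mul_mem _ h1 h2, map_mul _ _ _⟩
  | inv x _ ih =>
    obtain ⟨n1, h1, rfl⟩ := ih
    exact ⟨n1⁻¹, Subgroup.inv_mem _ h1, map_inv _ _⟩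

theorem mem_parabolic_iff_W {J : Set G} (hJ : J ⊆ P.S) (g : G) :
    g ∈ P.parabolic J ↔ ∃ w ∈ Subgroup.closure (img P J), g ∈ C P w := by
  rw [mem_parabolic_iff P hJ]
  constructor
  · rintro ⟨n, hn, hg⟩
    obtain ⟨hN, hcl⟩ := proj_mem_closure_img P hJ hn
    exact ⟨_, hcl, (mem_C_iff_doubleCoset P ⟨n, hN⟩ g).2 hg⟩
  · rintro ⟨w, hw, hg⟩
    obtain ⟨n, hn, rfl⟩ := exists_rep_closure P hw
    exact ⟨n, hn, (mem_C_iff_doubleCoset P n g).1 hg⟩

theorem B_le_parabolic (J : Set G) : P.B ≤ P.parabolic J := le_sup_left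

theorem closure_le_parabolic (J : Set G) : Subgroup.closure J ≤ P.parabolic J := le_sup_right

theorem parabolic_mono {J K : Set G} (h : J ⊆ K) : P.parabolic J ≤ P.parabolic K :=
  sup_le_sup_left (Subgroup.closure_mono h) _

theorem C_subset_subgroup {M : Subgroup G} (hM : P.B ≤ M) {w : Wg P} {g : G} (hg : g ∈ C P w)
    (hgM : g ∈ M) {x : G} (hx : x ∈ C P w) : x ∈ M := by
  obtain ⟨n, rfl⟩ := proj_surj P w
  obtain ⟨b, hb, b', hb', rfl⟩ := (mem_C_of_rep P n).1 hg
  obtain ⟨d, hd, d', hd', rfl⟩ := (mem_C_of_rep P n).1 hx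
  have e : d * ↑n * d' = (d * b⁻¹) * (b * ↑n * b') * (b'⁻¹ * d') := by group
  rw [e]
  exact M.mul_mem (M.mul_mem (M.mul_mem (hM hd) (M.inv_mem (hM hb))) hgM)
    (M.mul_mem (M.inv_mem (hM hb')) (hM hd'))

/-- a subgroup containing `B` and meeting `C(w)` contains the double cosets of the letters of
any reduced word of `w` -/
theorem letters_mem {M : Subgroup G} (hM : P.B ≤ M) (l : List (Wg P)) :
    (∀ a ∈ l, a ∈ SW P) → len (SW P) l.prod = l.length → ∀ g : G, g ∈ C P l.prod → g ∈ M →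
      ∀ a ∈ l, ∀ x ∈ C P a, x ∈ M := by
  induction l with
  | nil => intro _ _ _ _ _ a ha; simp at ha
  | cons a l' ih =>
    intro hl hred g hg hgM
    have ha : a ∈ SW P := hl a (by simp)
    have hl' : ∀ b ∈ l', b ∈ SW P := fun b hb => hl b (by simp [hb])
    rw [List.prod_cons, List.length_cons] at hred
    rw [List.prod_cons] at hg
    have h1 := len_le (S := SW P) hl'
    have h2 := len_mul_le (hS P) (hgen P) ha l'.prod
    have hred' : len (SW P) l'.prod = l'.length := by omega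
    have h3 : len (SW P) (a * (a * l'.prod)) ≤ len (SW P) (a * l'.prod) := by
      rw [← mul_assoc, SW_sq P ha, one_mul]; omega
    obtain ⟨x, hx, g0, hg0, hxg0⟩ := exists_C_mul_mem P ha h3
    have hg0M : g0 ∈ M := C_subset_subgroup P hM hg hgM hg0
    have hxg0M : x * g0 ∈ M := C_subset_subgroup P hM hg hgM hxg0
    have hxM : x ∈ M := by
      have := M.mul_mem hxg0M (M.inv_mem hg0M)
      simpa using this
    obtain ⟨y, hy, g', hg', rfl⟩ := C_mul_decomp P hg
    have hyM : y ∈ M := C_subset_subgroup P hM hx hxM hy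
    have hg'M : g' ∈ M := by
      have := M.mul_mem (M.inv_mem hyM) hgM
      simpa using this
    intro b hb z hz
    rcases List.mem_cons.1 hb with rfl | hb
    · exact C_subset_subgroup P hM hx hxM hz
    · exact ih hl' hred' g' hg' hg'M b hb z hz

/-- every subgroup containing `B` is a standard parabolic subgroup -/
theorem subgroup_eq_parabolic {M : Subgroup G} (hM : P.B ≤ M) :
    M = P.parabolic {s | s ∈ P.S ∧ s ∈ M} := by
  have hJ : {s | s ∈ P.S ∧ s ∈ M} ⊆ P.S := fun s hs => hs.1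
  apply le_antisymm
  · intro g hg
    obtain ⟨w, hw⟩ := exists_C P g
    obtain ⟨l, hl, hlen, hp⟩ := len_spec (hS P) (hgen P) w
    rw [mem_parabolic_iff_W P hJ]
    refine ⟨w, ?_, hw⟩
    rw [← hp]
    apply Subgroup.list_prod_mem
    intro a ha
    apply Subgroup.subset_closure
    have haS := hl a ha
    obtain ⟨s0, hs0, rfl⟩ := haS
    refine ⟨s0, ⟨hs0, ?_⟩, rfl⟩
    exact letters_mem P hM l hl (by rw [hp, hlen]) g (by rw [hp]; exact hw) hg _ ha _
      (mem_C_self P s0)
  · unfold Cfsg.BNPair.parabolic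
    apply sup_le hM
    rw [Subgroup.closure_le]
    intro s hs
    exact hs.2

/-- a distinguished generator lying in a standard parabolic belongs to its index set -/
theorem mem_of_mem_parabolic {J : Set G} (hJ : J ⊆ P.S) {s : G} (hs : s ∈ P.S)
    (h : s ∈ P.parabolic J) : s ∈ J := by
  rw [mem_parabolic_iff_W P hJ] at h
  obtain ⟨w, hw, hsw⟩ := h
  have hsN : s ∈ P.N := P.subset hs
  have h1 : s ∈ C P (proj P ⟨s, hsN⟩) := mem_C_self P ⟨s, hsN⟩
  have hw' : w = proj P ⟨s, hsN⟩ := C_unique P hsw h1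
  have hsSW : proj P ⟨s, hsN⟩ ∈ SW P := ⟨⟨s, hsN⟩, hs, rfl⟩
  have hJS : img P J ⊆ SW P := img_mono P hJ
  obtain ⟨l, hl, hp⟩ := exists_word_of_mem_closure (fun a ha => SW_sq P (hJS ha)) hw
  have key : ∀ k : ℕ, ∀ l : List (Wg P), l.length = k → (∀ a ∈ l, a ∈ img P J) →
      l.prod = proj P ⟨s, hsN⟩ → s ∈ J := by
    intro k
    induction k using Nat.strong_induction_on with
    | _ k ih =>
      intro l hk hl hp
      by_cases hred : len (SW P) l.prod < l.length
      · obtain ⟨l1, a, l2, b, l3, e, hab⟩ := deletion P (fun a ha => hJS (hl a ha)) hred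
        have hb : b ∈ SW P := hJS (hl b (by rw [e]; simp))
        have hp' := deletion_prod (l1 := l1) (l3 := l3) (SW_sq P hb) hab
        rw [← e, hp] at hp'
        apply ih (l1 ++ l2 ++ l3).length (by rw [← hk, e]; simp) (l1 ++ l2 ++ l3) rfl
        · intro c hc
          apply hl c
          rw [e]
          simp only [List.mem_append, List.mem_cons] at hc ⊢
          tauto
        · exact hp'.symm
      · have h1' := len_le (S := SW P) (fun a ha => hJS (hl a ha))
        have h2 : len (SW P) l.prod = 1 := by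
          rw [hp]
          exact len_of_mem (hS P) (hgen P) hsSW (SW_ne_one P hsSW)
        have h3 : l.length = 1 := by omega
        obtain ⟨a, rfl⟩ := List.length_eq_one_iff.1 h3
        have ha : a ∈ img P J := hl a (by simp)
        obtain ⟨s', hs', hs'a⟩ := ha
        rw [List.prod_singleton] at hp
        rw [← hs'a] at hp
        have h4 := (proj_eq_iff P).1 hp
        have h5 := P.inj s' (hJ hs') s hs h4
        rw [← h5]; exact hs'
  exact key l.length l rfl hl (hp.trans hw')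

theorem parabolic_le_iff {J K : Set G} (hJ : J ⊆ P.S) (hK : K ⊆ P.S) :
    P.parabolic J ≤ P.parabolic K ↔ J ⊆ K := by
  constructor
  · intro h s hs
    exact mem_of_mem_parabolic P hK (hJ hs)
      (h (closure_le_parabolic P J (Subgroup.subset_closure hs)))
  · exact parabolic_mono P

theorem parabolic_injective {J K : Set G} (hJ : J ⊆ P.S) (hK : K ⊆ P.S)
    (h : P.parabolic J = P.parabolic K) : J = K :=
  Set.Subset.antisymm ((parabolic_le_iff P hJ hK).1 h.le) ((parabolic_le_iff P hK hJ).1 h.ge)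

theorem parabolic_inf {J K : Set G} (hJ : J ⊆ P.S) (hK : K ⊆ P.S) :
    P.parabolic J ⊓ P.parabolic K = P.parabolic (J ∩ K) := by
  have hM : P.B ≤ P.parabolic J ⊓ P.parabolic K :=
    le_inf (B_le_parabolic P J) (B_le_parabolic P K)
  rw [subgroup_eq_parabolic P hM]
  congr 1
  ext s
  constructor
  · rintro ⟨hs, h1, h2⟩
    exact ⟨mem_of_mem_parabolic P hJ hs h1, mem_of_mem_parabolic P hK hs h2⟩
  · rintro ⟨h1, h2⟩
    exact ⟨hJ h1, closure_le_parabolic P J (Subgroup.subset_closure h1),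
      closure_le_parabolic P K (Subgroup.subset_closure h2)⟩

end Cfsg.Agent.Lib.Helper6.BN3
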