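import Mathlib
import Cfsg.Prelude.Def_LieExceptional
import Cfsg.Agent.Lib.Helper6.InvLen
import Cfsg.Agent.Lib.Helper6.BN
import Cfsg.Agent.Lib.Helper6.BN2
import Cfsg.Agent.Lib.Helper6.BN3

set_option autoImplicit false

namespace Cfsg.Agent.Lib.Helper6.BN4

open Cfsg.Agent.Lib.Helper6.InvLen Cfsg.Agent.Lib.Helper6.BN Cfsg.Agent.Lib.Helper6.BN2
  Cfsg.Agent.Lib.Helper6.BN3

variable {G : Type*} [Group G] (P : Cfsg.BNPair G)

theorem conj_mem_map {n b : G} {B : Subgroup G} (hb : b ∈ B) :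
    n * b * n⁻¹ ∈ B.map (MulAut.conj n).toMonoidHom :=
  ⟨b, hb, by simp [MulAut.conj_apply]⟩

/-- for `n ∈ N`, the subgroup generated by `B` and `n B n⁻¹` contains `n` -/
theorem mem_sup_conj {n : G} (hn : n ∈ P.N) : n ∈ P.B ⊔ P.B.map (MulAut.conj n).toMonoidHom := by
  have key : ∀ k : ℕ, ∀ n : P.N, len (SW P) (proj P n) = k →
      (n : G) ∈ P.B ⊔ P.B.map (MulAut.conj (n : G)).toMonoidHom := by
    intro k
    induction k with
    | zero =>
      intro n hk
      have h1 : proj P n = 1 := eq_one_of_len_eq_zero (hS P) (hgen P) hk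
      rw [proj_eq_one_iff] at h1
      exact (le_sup_left : P.B ≤ _) h1
    | succ k ih =>
      intro n hk
      set H := P.B ⊔ P.B.map (MulAut.conj (n : G)).toMonoidHom with hH
      have hBH : P.B ≤ H := le_sup_left
      have hcH : ∀ b ∈ P.B, (n : G) * b * (n : G)⁻¹ ∈ H := fun b hb =>
        (le_sup_right : P.B.map (MulAut.conj (n : G)).toMonoidHom ≤ H) (conj_mem_map hb)
      obtain ⟨s, hs, hsk⟩ := exists_len_pred (hS P) (hgen P) hk
      have e : (proj P n)⁻¹ * s = (s * proj P n)⁻¹ := by rw [mul_inv_rev, SW_inv P hs]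
      have hle : len (SW P) ((proj P n)⁻¹ * s) ≤ len (SW P) (proj P n)⁻¹ := by
        rw [e, len_inv (hS P) (hgen P), len_inv (hS P) (hgen P)]; omega
      obtain ⟨g, hg, x, hx, hgx⟩ := exists_C_mul_mem_right P hs hle
      rw [← map_inv] at hg hgx
      obtain ⟨b1, hb1, b2, hb2, rfl⟩ := (mem_C_of_rep P n⁻¹).1 hg
      obtain ⟨b5, hb5, b6, hb6, e2⟩ := (mem_C_of_rep P n⁻¹).1 hgx
      have hxH : x ∈ H := by
        have e3 : x = b2⁻¹ * ((n : G) * (b1⁻¹ * b5) * (n : G)⁻¹) * b6 := by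
          have : x = (b1 * ((n⁻¹ : P.N) : G) * b2)⁻¹ * (b5 * ((n⁻¹ : P.N) : G) * b6) := by
            rw [← e2]; group
          rw [this]
          simp only [InvMemClass.coe_inv]
          group
        rw [e3]
        exact H.mul_mem (H.mul_mem (H.inv_mem (hBH hb2))
          (hcH _ (P.B.mul_mem (P.B.inv_mem hb1) hb5))) (hBH hb6)
      obtain ⟨s0, hs0, rfl⟩ := hs
      have hs0H : (s0 : G) ∈ H := C_subset_subgroup P hBH hx hxH (mem_C_self P s0)
      have hk' : len (SW P) (proj P (s0⁻¹ * n)) = k := by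
        rw [map_mul, map_inv, SW_inv P ⟨s0, hs0, rfl⟩]; exact hsk
      have h3 := ih (s0⁻¹ * n) hk'
      have h4 : P.B ⊔ P.B.map (MulAut.conj ((s0⁻¹ * n : P.N) : G)).toMonoidHom ≤ H := by
        apply sup_le hBH
        rintro _ ⟨b, hb, rfl⟩
        have e4 : (MulAut.conj ((s0⁻¹ * n : P.N) : G)).toMonoidHom b =
            (s0 : G)⁻¹ * ((n : G) * b * (n : G)⁻¹) * (s0 : G) := by
          simp [MulAut.conj_apply, mul_assoc]
        rw [e4]
        exact H.mul_mem (H.mul_mem (H.inv_mem hs0H) (hcH b hb)) hs0H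
      have h5 := H.mul_mem hs0H (h4 h3)
      have e5 : (s0 : G) * ((s0⁻¹ * n : P.N) : G) = n := by simp
      rwa [e5] at h5
  exact key _ ⟨n, hn⟩ rfl

theorem sup_closure_eq {n : G} (hn : n ∈ P.N) :
    P.B ⊔ Subgroup.closure {n} = P.B ⊔ P.B.map (MulAut.conj n).toMonoidHom := by
  apply le_antisymm
  · apply sup_le le_sup_left
    rw [Subgroup.closure_le]
    intro x hx
    rw [Set.mem_singleton_iff] at hx
    rw [hx]
    exact mem_sup_conj P hn
  · apply sup_le le_sup_left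
    rintro _ ⟨b, hb, rfl⟩
    have h1 : n ∈ P.B ⊔ Subgroup.closure {n} :=
      (le_sup_right : Subgroup.closure {n} ≤ _) (Subgroup.subset_closure rfl)
    have h2 : b ∈ P.B ⊔ Subgroup.closure {n} := (le_sup_left : P.B ≤ _) hb
    simp only [MulEquiv.toMonoidHom_eq_coe, MonoidHom.coe_coe, MulAut.conj_apply]
    exact Subgroup.mul_mem _ (Subgroup.mul_mem _ h1 h2) (Subgroup.inv_mem _ h1)

/-- if `g B g⁻¹ ⊆ M` and `B ≤ M` then `g ∈ M` -/
theorem mem_of_conj_le {M : Subgroup G} (hM : P.B ≤ M) {g : G}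
    (h : ∀ b ∈ P.B, g * b * g⁻¹ ∈ M) : g ∈ M := by
  obtain ⟨w, hw⟩ := exists_C P g
  obtain ⟨n, rfl⟩ := proj_surj P w
  obtain ⟨b, hb, b', hb', rfl⟩ := (mem_C_of_rep P n).1 hw
  have h1 : P.B ⊔ P.B.map (MulAut.conj (n : G)).toMonoidHom ≤ M := by
    apply sup_le hM
    rintro _ ⟨c, hc, rfl⟩
    have h2 := h (b'⁻¹ * c * b') (P.B.mul_mem (P.B.mul_mem (P.B.inv_mem hb') hc) hb')
    have e : (MulAut.conj (n : G)).toMonoidHom c =
        b⁻¹ * (b * ↑n * b' * (b'⁻¹ * c * b') * (b * ↑n * b')⁻¹) * b := by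
      simp only [MulEquiv.toMonoidHom_eq_coe, MonoidHom.coe_coe, MulAut.conj_apply]
      group
    rw [e]
    exact M.mul_mem (M.mul_mem (M.inv_mem (hM hb)) h2) (hM hb)
  have h3 : (n : G) ∈ M := h1 (mem_sup_conj P n.2)
  exact M.mul_mem (M.mul_mem (hM hb) h3) (hM hb')

theorem closure_singleton_invol {W : Type*} [Group W] {σ : W} (h : σ * σ = 1) {w : W}
    (hw : w ∈ Subgroup.closure {σ}) : w = 1 ∨ w = σ := by
  induction hw using Subgroup.closure_induction with
  | mem x hx => right; exact hx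
  | one => left; rfl
  | mul x y _ _ ihx ihy =>
    rcases ihx with rfl | rfl <;> rcases ihy with rfl | rfl
    · left; simp
    · right; simp
    · right; simp
    · left; exact h
  | inv x _ ih =>
    rcases ih with rfl | rfl
    · left; simp
    · right; exact inv_eq_of_mul_eq_one_left h

end Cfsg.Agent.Lib.Helper6.BN4
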