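import Mathlib
import Cfsg.Agent.Lib.Helper25.AICSpec

/-!
# S2202, piece PL3

Every coset `H g ≠ H` of `H = N_G(S)` contains exactly `qm1 S` involutions (double count).
-/

set_option autoImplicit false

namespace Cfsg.Agent.Lib.Helper6.AICPL3

universe u

open Subgroup Cfsg.Agent.Lib.Helper25.AICSpec

theorem orderOf_conj' {G : Type u} [Group G] (g x : G) : orderOf (g⁻¹ * x * g) = orderOf x := by
  have h := (MulAut.conj g⁻¹).orderOf_eq x
  rw [MulAut.conj_apply, inv_inv] at h
  exact h

theorem card_sub {X : Type u} [Fintype X] (P : X → Prop) [DecidablePred P] :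
    Nat.card {x : X // P x} = (Finset.univ.filter P).card := by
  rw [Nat.card_eq_fintype_card, Fintype.card_subtype]

theorem sq_of_order_two {G : Type u} [Group G] (t : G) (ht : orderOf t = 2) : t * t = 1 := by
  have := pow_orderOf_eq_one t
  rw [ht, pow_two] at this
  exact this

theorem ne_one_of_order_two {G : Type u} [Group G] (t : G) (ht : orderOf t = 2) : t ≠ 1 := by
  intro h
  rw [h, orderOf_one] at ht
  omega

theorem order_two_of_sq {G : Type u} [Group G] (t : G) (h1 : t * t = 1) (h2 : t ≠ 1) :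
    orderOf t = 2 := by
  apply orderOf_eq_prime
  · rw [pow_two]; exact h1
  · exact h2

/-- dihedral computation -/
theorem dih {G : Type u} [Group G] (t t' : G) (ht : t * t = 1) (ht' : t' * t' = 1) (k : ℕ)
    (hk : (t * t') ^ (2 * k + 1) = 1) :
    (t * (t * t') ^ (k + 1)) * (t * (t * t') ^ (k + 1)) = 1 ∧
      (t * (t * t') ^ (k + 1)) * t * (t * (t * t') ^ (k + 1)) = t' := by
  obtain ⟨r, hr⟩ : ∃ r, r = t * t' := ⟨_, rfl⟩
  rw [← hr] at hk ⊢
  have htr : t * r = t' := by rw [hr, ← mul_assoc, ht, one_mul]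
  have hrr : r ^ (k + 1) * r ^ (k + 1) = r := by
    rw [← pow_add]
    have : k + 1 + (k + 1) = 2 * k + 1 + 1 := by ring
    rw [this, pow_succ, hk, one_mul]
  have h2 : (t * r ^ (k + 1)) * t * (t * r ^ (k + 1)) = t' := by
    calc (t * r ^ (k + 1)) * t * (t * r ^ (k + 1))
        = t * r ^ (k + 1) * (t * t) * r ^ (k + 1) := by group
      _ = t * (r ^ (k + 1) * r ^ (k + 1)) := by rw [ht]; group
      _ = t' := by rw [hrr, htr]
  refine ⟨?_, h2⟩
  have hti : t⁻¹ = t := inv_eq_of_mul_eq_one_left ht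
  have ht'i : t'⁻¹ = t' := inv_eq_of_mul_eq_one_left ht'
  have h1 : t * r * t = r⁻¹ := by
    rw [hr, mul_inv_rev, hti, ht'i]
    calc t * (t * t') * t = (t * t) * t' * t := by group
      _ = t' * t := by rw [ht, one_mul]
  have hv : ∀ n : ℕ, t * r ^ n * t = (r⁻¹) ^ n := by
    intro n
    induction n with
    | zero => rw [pow_zero, pow_zero, mul_one, ht]
    | succ n ih =>
      calc t * r ^ (n + 1) * t = t * r ^ n * (t * t) * r * t := by rw [ht, pow_succ]; group
        _ = (t * r ^ n * t) * (t * r * t) := by group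
        _ = (r⁻¹) ^ (n + 1) := by rw [ih, h1, pow_succ]
  calc (t * r ^ (k + 1)) * (t * r ^ (k + 1)) = (t * r ^ (k + 1) * t) * r ^ (k + 1) := by group
    _ = 1 := by rw [hv, inv_pow, inv_mul_cancel]

/-- the lower bound -/
theorem lower {G : Type u} [Group G] [Finite G] (S : Sylow 2 G) (l1 : Loc1 G S) (l2 : Loc2 G S)
    (t : G) (htS : t ∈ S) (ht : orderOf t = 2) (g : G) (hg : g ∉ NS S) :
    qm1 S ≤ Nat.card {h : G // h ∈ NS S ∧ orderOf (h * g) = 2} := by
  have htt := sq_of_order_two t ht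
  -- facts about one involution `s` of `S`
  have facts : ∀ s : G, s ∈ S → orderOf s = 2 →
      let v := t * (t * (g⁻¹ * s * g)) ^ (orderOf (t * (g⁻¹ * s * g)) / 2 + 1)
      v * v = 1 ∧ v * t * v = g⁻¹ * s * g ∧ v * g⁻¹ ∈ NS S ∧ v ≠ 1 := by
    intro s hsS hs v
    have hss := sq_of_order_two s hs
    have ht'2 : (g⁻¹ * s * g) * (g⁻¹ * s * g) = 1 := by
      calc (g⁻¹ * s * g) * (g⁻¹ * s * g) = g⁻¹ * (s * s) * g := by group
        _ = 1 := by rw [hss]; group
    have ht'o : orderOf (g⁻¹ * s * g) = 2 := by rw [orderOf_conj', hs]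
    have ht'H : g⁻¹ * s * g ∉ NS S := by
      intro hmem
      have h1 : g⁻¹ * s * g ∈ S := l1.inv_mem _ hmem ht'o
      exact hg (l1.ti g s hsS (ne_one_of_order_two s hs) h1)
    have hodd := l2.odd t (g⁻¹ * s * g) htS ht ht'o ht'H
    have hk : (t * (g⁻¹ * s * g)) ^ (2 * (orderOf (t * (g⁻¹ * s * g)) / 2) + 1) = 1 := by
      have h2 : 2 * (orderOf (t * (g⁻¹ * s * g)) / 2) + 1 = orderOf (t * (g⁻¹ * s * g)) := by
        have := Nat.odd_iff.1 hodd
        omega
      rw [h2, pow_orderOf_eq_one]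
    obtain ⟨hv1, hv2⟩ := dih t (g⁻¹ * s * g) htt ht'2 _ hk
    have hvne : v ≠ 1 := by
      intro h
      have h3 : v * t * v = g⁻¹ * s * g := hv2
      rw [h, one_mul, mul_one] at h3
      apply ht'H
      rw [← h3]
      exact l1.cle (l1.le htS)
    refine ⟨hv1, hv2, ?_, hvne⟩
    -- `(g v)⁻¹ s (g v) = t`
    have hvi : v⁻¹ = v := inv_eq_of_mul_eq_one_left hv1
    have h4 : (g * v)⁻¹ * s * (g * v) = t := by
      have h5 : v * (g⁻¹ * s * g) * v = t := by
        have h3 : v * t * v = g⁻¹ * s * g := hv2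
        rw [← h3]
        calc v * (v * t * v) * v = (v * v) * t * (v * v) := by group
          _ = t := by
            have hv1' : v * v = 1 := hv1
            rw [hv1', one_mul, mul_one]
      calc (g * v)⁻¹ * s * (g * v) = v⁻¹ * (g⁻¹ * s * g) * v := by group
        _ = t := by rw [hvi, h5]
    have h6 : g * v ∈ NS S := l1.ti (g * v) s hsS (ne_one_of_order_two s hs) (by rw [h4]; exact htS)
    have h7 : v * g⁻¹ = (g * v)⁻¹ := by rw [mul_inv_rev, hvi]
    rw [h7]
    exact inv_mem h6
  -- the injection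
  unfold qm1
  let f : {s : G // s ∈ S ∧ orderOf s = 2} → {h : G // h ∈ NS S ∧ orderOf (h * g) = 2} :=
    fun s => ⟨t * (t * (g⁻¹ * s.1 * g)) ^ (orderOf (t * (g⁻¹ * s.1 * g)) / 2 + 1) * g⁻¹, by
      obtain ⟨h1, h2, h3, h4⟩ := facts s.1 s.2.1 s.2.2
      refine ⟨h3, ?_⟩
      rw [inv_mul_cancel_right]
      exact order_two_of_sq _ h1 h4⟩
  apply Nat.card_le_card_of_injective f
  intro s s' hss'
  have e1 : t * (t * (g⁻¹ * s.1 * g)) ^ (orderOf (t * (g⁻¹ * s.1 * g)) / 2 + 1) * g⁻¹ =
      t * (t * (g⁻¹ * s'.1 * g)) ^ (orderOf (t * (g⁻¹ * s'.1 * g)) / 2 + 1) * g⁻¹ :=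
    congrArg Subtype.val hss'
  have e2 := mul_right_cancel e1
  obtain ⟨_, h2, _, _⟩ := facts s.1 s.2.1 s.2.2
  obtain ⟨_, h2', _, _⟩ := facts s'.1 s'.2.1 s'.2.2
  have h2a : (t * (t * (g⁻¹ * s.1 * g)) ^ (orderOf (t * (g⁻¹ * s.1 * g)) / 2 + 1)) * t *
      (t * (t * (g⁻¹ * s.1 * g)) ^ (orderOf (t * (g⁻¹ * s.1 * g)) / 2 + 1)) = g⁻¹ * s.1 * g := h2
  have h2b : (t * (t * (g⁻¹ * s'.1 * g)) ^ (orderOf (t * (g⁻¹ * s'.1 * g)) / 2 + 1)) * t *
      (t * (t * (g⁻¹ * s'.1 * g)) ^ (orderOf (t * (g⁻¹ * s'.1 * g)) / 2 + 1)) = g⁻¹ * s'.1 * g := h2'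
  rw [e2, h2b] at h2a
  apply Subtype.ext
  have h8 : g⁻¹ * s'.1 = g⁻¹ * s.1 := mul_right_cancel h2a
  exact (mul_left_cancel h8).symm

/-- the number of involutions -/
theorem card_inv {G : Type u} [Group G] [Finite G] (S : Sylow 2 G) (l1 : Loc1 G S)
    (l2 : Loc2 G S) (t : G) (htS : t ∈ S) (ht : orderOf t = 2) :
    Nat.card {v : G // orderOf v = 2} * Nat.card (CS S) = Nat.card G := by
  classical
  haveI : Fintype {v : G // orderOf v = 2} := Fintype.ofFinite _
  let f : G → {v : G // orderOf v = 2} := fun x => ⟨x⁻¹ * t * x, by rw [orderOf_conj', ht]⟩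
  have e : G ≃ Σ v : {v : G // orderOf v = 2}, {x : G // f x = v} :=
    (Equiv.sigmaFiberEquiv f).symm
  have hfe : ∀ v : {v : G // orderOf v = 2},
      Nat.card {x : G // f x = v} = Nat.card {x : G // x⁻¹ * t * x = v.1} := by
    intro v
    exact Nat.card_congr (Equiv.subtypeEquivRight (fun x => Subtype.ext_iff))
  have hf : ∀ v : {v : G // orderOf v = 2},
      Nat.card {x : G // x⁻¹ * t * x = v.1} = Nat.card (CS S) := by
    rintro ⟨v, hv⟩
    obtain ⟨x0, hx0⟩ := l2.conj t v ht hv
    have hcent := l1.cent t htS ht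
    have e2 : {x : G // x⁻¹ * t * x = v} ≃ CS S :=
      { toFun := fun x => ⟨x.1 * x0⁻¹, by
          rw [← hcent, mem_centralizer_iff]
          intro z hz
          rw [Set.mem_singleton_iff] at hz
          rw [hz]
          have h1 : x.1⁻¹ * t * x.1 = x0⁻¹ * t * x0 := by rw [x.2, hx0]
          calc t * (x.1 * x0⁻¹) = x.1 * (x.1⁻¹ * t * x.1) * x0⁻¹ := by group
            _ = x.1 * (x0⁻¹ * t * x0) * x0⁻¹ := by rw [h1]
            _ = x.1 * x0⁻¹ * t := by group⟩
        invFun := fun c => ⟨c.1 * x0, by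
          have hc : c.1 ∈ centralizer ({t} : Set G) := by rw [hcent]; exact c.2
          have h1 : t * c.1 = c.1 * t := (mem_centralizer_iff.1 hc) t (Set.mem_singleton t)
          calc (c.1 * x0)⁻¹ * t * (c.1 * x0) = x0⁻¹ * (c.1⁻¹ * (t * c.1)) * x0 := by group
            _ = x0⁻¹ * (c.1⁻¹ * (c.1 * t)) * x0 := by rw [h1]
            _ = x0⁻¹ * t * x0 := by group
            _ = v := hx0⟩
        left_inv := fun x => Subtype.ext (by simp)
        right_inv := fun c => Subtype.ext (by simp) }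
    exact Nat.card_congr e2
  rw [Nat.card_congr e, Nat.card_sigma,
    Finset.sum_congr rfl (fun v _ => (hfe v).trans (hf v)), Finset.sum_const,
    Finset.card_univ, smul_eq_mul, Nat.card_eq_fintype_card]

theorem main : PL3.{u} := by
  intro G _ _ S hyp l1 l2 hcardN g0 hg0
  classical
  haveI : Fintype G := Fintype.ofFinite G
  -- an involution of `S`
  obtain ⟨t, htS, ht⟩ : ∃ t : G, t ∈ S ∧ orderOf t = 2 := by
    have hne : Nat.card (S : Subgroup G) ≠ 1 := by
      intro h1
      apply hyp.2.1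
      have hbot : (S : Subgroup G) = ⊥ := Subgroup.card_eq_one.1 h1
      rw [hbot]
      exact isCyclic_of_subsingleton
    obtain ⟨n, hn⟩ := IsPGroup.iff_card.1 S.isPGroup'
    have hn0 : n ≠ 0 := by
      intro h
      rw [h, pow_zero] at hn
      exact hne hn
    haveI : Fact (Nat.Prime 2) := ⟨Nat.prime_two⟩
    have hdvd : 2 ∣ Nat.card (S : Subgroup G) := by
      rw [hn]
      exact dvd_pow_self 2 hn0
    obtain ⟨x, hx⟩ := exists_prime_orderOf_dvd_card' 2 hdvd
    exact ⟨(x : G), x.2, by rw [Subgroup.orderOf_coe]; exact hx⟩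
  have hlow : ∀ g : G, g ∉ NS S →
      qm1 S ≤ (Finset.univ.filter (fun h : G => h ∈ NS S ∧ orderOf (h * g) = 2)).card := by
    intro g hg
    rw [← card_sub]
    exact lower S l1 l2 t htS ht g hg
  have hI := card_inv S l1 l2 t htS ht
  rw [card_sub] at hI
  -- involutions inside / outside `H`
  have hIin : (Finset.univ.filter (fun v : G => orderOf v = 2 ∧ v ∈ NS S)).card = qm1 S := by
    unfold qm1
    rw [card_sub]
    congr 1
    ext v
    simp only [Finset.mem_filter, Finset.mem_univ, true_and]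
    constructor
    · rintro ⟨h1, h2⟩
      exact ⟨l1.inv_mem v h2 h1, h1⟩
    · rintro ⟨h1, h2⟩
      exact ⟨h2, l1.cle (l1.le h1)⟩
  have hIsplit : (Finset.univ.filter (fun v : G => orderOf v = 2)).card =
      (Finset.univ.filter (fun v : G => orderOf v = 2 ∧ v ∈ NS S)).card +
      (Finset.univ.filter (fun v : G => orderOf v = 2 ∧ v ∉ NS S)).card := by
    have := Finset.card_filter_add_card_filter_not
      (s := Finset.univ.filter (fun v : G => orderOf v = 2)) (p := fun v : G => v ∈ NS S)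
    rw [Finset.filter_filter, Finset.filter_filter] at this
    exact this.symm
  have hHcard : (Finset.univ.filter (fun h : G => h ∈ NS S)).card = Nat.card (NS S) := by
    rw [← card_sub]
  -- the double count
  have hdc : ∑ g ∈ Finset.univ.filter (fun g : G => g ∉ NS S),
      (Finset.univ.filter (fun h : G => h ∈ NS S ∧ orderOf (h * g) = 2)).card =
      Nat.card (NS S) * (Finset.univ.filter (fun v : G => orderOf v = 2 ∧ v ∉ NS S)).card := by
    have h1 : ∑ g ∈ Finset.univ.filter (fun g : G => g ∉ NS S),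
        (Finset.univ.filter (fun h : G => h ∈ NS S ∧ orderOf (h * g) = 2)).card =
        ∑ g : G, ∑ h : G, if (g ∉ NS S ∧ h ∈ NS S ∧ orderOf (h * g) = 2) then 1 else 0 := by
      rw [Finset.sum_filter]
      apply Finset.sum_congr rfl
      intro g _
      by_cases hg : g ∈ NS S
      · simp [hg]
      · rw [if_pos hg, Finset.card_filter]
        apply Finset.sum_congr rfl
        intro h _
        simp [hg]
    have h2 : ∑ h : G, ∑ g : G, (if (g ∉ NS S ∧ h ∈ NS S ∧ orderOf (h * g) = 2) then 1 else 0) =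
        ∑ h ∈ Finset.univ.filter (fun h : G => h ∈ NS S),
          (Finset.univ.filter (fun v : G => orderOf v = 2 ∧ v ∉ NS S)).card := by
      rw [Finset.sum_filter]
      apply Finset.sum_congr rfl
      intro h _
      by_cases hh : h ∈ NS S
      · rw [if_pos hh, ← Finset.card_filter]
        apply Finset.card_equiv (Equiv.mulLeft h)
        intro g
        simp only [Finset.mem_filter, Finset.mem_univ, true_and, Equiv.coe_mulLeft]
        constructor
        · rintro ⟨h1, _, h3⟩
          exact ⟨h3, fun hm => h1 ((Subgroup.mul_mem_cancel_left _ hh).1 hm)⟩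
        · rintro ⟨h1, h2⟩
          exact ⟨fun hm => h2 (mul_mem hh hm), hh, h1⟩
      · simp [hh]
    rw [h1, Finset.sum_comm, h2, Finset.sum_const, smul_eq_mul, hHcard]
  -- arithmetic
  have hOut : (Finset.univ.filter (fun g : G => g ∉ NS S)).card + Nat.card (NS S) = Nat.card G := by
    have := Finset.card_filter_add_card_filter_not (s := (Finset.univ : Finset G))
      (p := fun g : G => g ∈ NS S)
    rw [hHcard, Finset.card_univ, ← Nat.card_eq_fintype_card] at this
    omega
  have hsum : ∑ g ∈ Finset.univ.filter (fun g : G => g ∉ NS S), qm1 S =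
      ∑ g ∈ Finset.univ.filter (fun g : G => g ∉ NS S),
        (Finset.univ.filter (fun h : G => h ∈ NS S ∧ orderOf (h * g) = 2)).card := by
    rw [hdc, Finset.sum_const, smul_eq_mul]
    -- `|Out| * qm1 = |H| * nOut`
    have e1 : (Finset.univ.filter (fun v : G => orderOf v = 2)).card =
        qm1 S + (Finset.univ.filter (fun v : G => orderOf v = 2 ∧ v ∉ NS S)).card := by
      rw [hIsplit, hIin]
    generalize (Finset.univ.filter (fun v : G => orderOf v = 2 ∧ v ∉ NS S)).card = nOut at *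
    generalize (Finset.univ.filter (fun v : G => orderOf v = 2)).card = nI at *
    generalize (Finset.univ.filter (fun g : G => g ∉ NS S)).card = nO at *
    generalize Nat.card (NS S) = nH at *
    generalize Nat.card (CS S) = nC at *
    generalize Nat.card G = nG at *
    generalize qm1 S = q at *
    subst e1
    subst hcardN
    have h3 : nO * q + nC * q * q = (q + nOut) * nC * q := by
      rw [hI, ← hOut]; ring
    have h4 : nO * q = nC * q * nOut := by
      have : (q + nOut) * nC * q = nC * q * nOut + nC * q * q := by ring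
      omega
    exact h4
  have hall := (Finset.sum_eq_sum_iff_of_le (fun g hg => hlow g (Finset.mem_filter.1 hg).2)).1 hsum
  rw [card_sub]
  exact (hall g0 (Finset.mem_filter.2 ⟨Finset.mem_univ _, hg0⟩)).symm

end Cfsg.Agent.Lib.Helper6.AICPL3
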