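import Mathlib
import Cfsg.Agent.Lib.Helper25.AICSpec

/-!
# S2202, piece StepE

`C = C_G(S)` is a TI subgroup with normalizer `N_G(S)`.
-/

set_option autoImplicit false

namespace Cfsg.Agent.Lib.Helper6.AICStepE

universe u

open Subgroup Cfsg.Agent.Lib.Helper25.AICSpec

theorem orderOf_conj' {G : Type u} [Group G] (g x : G) : orderOf (g⁻¹ * x * g) = orderOf x := by
  have h := (MulAut.conj g⁻¹).orderOf_eq x
  rw [MulAut.conj_apply, inv_inv] at h
  exact h

theorem conj_pow' {G : Type u} [Group G] (g x : G) (n : ℕ) :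
    (g⁻¹ * x * g) ^ n = g⁻¹ * x ^ n * g := by
  have h := map_pow (MulAut.conj g⁻¹) x n
  rw [MulAut.conj_apply, MulAut.conj_apply, inv_inv] at h
  exact h.symm

theorem main : StepE.{u} := by
  intro G _ _ S hyp loc hA
  have l1 := loc.l1
  -- an involution of `S`
  have hex : ∃ t : G, t ∈ S ∧ orderOf t = 2 := by
    have h3 := loc.three
    have hpos : 0 < Nat.card {t : G // t ∈ S ∧ orderOf t = 2} := by
      unfold qm1 at h3
      omega
    obtain ⟨⟨t, ht⟩⟩ := (Nat.card_pos_iff.1 hpos).1
    exact ⟨t, ht⟩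
  obtain ⟨t0, ht0S, ht0⟩ := hex
  have ht0ne : t0 ≠ 1 := by
    intro h
    rw [h, orderOf_one] at ht0
    omega
  have hTI : ∀ g y : G, y ∈ CS S → y ≠ 1 → g⁻¹ * y * g ∈ CS S → g ∈ NS S := by
    intro g y hy hy1 hy'
    by_cases hev : Even (orderOf y)
    · obtain ⟨m, hm⟩ := hev
      have hn0 : orderOf y ≠ 0 := (orderOf_pos y).ne'
      have hm0 : m ≠ 0 := by
        intro h
        rw [h] at hm
        omega
      have hot : orderOf (y ^ m) = 2 := by
        rw [orderOf_pow' y hm0, hm, ← two_mul, Nat.gcd_mul_left_left]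
        exact Nat.mul_div_cancel _ (Nat.pos_of_ne_zero hm0)
      have htS : y ^ m ∈ S := l1.two _ (pow_mem hy m) ⟨1, by rw [hot, pow_one]⟩
      have hne : y ^ m ≠ 1 := by
        intro h
        rw [h, orderOf_one] at hot
        omega
      have ht'S : g⁻¹ * y ^ m * g ∈ S := by
        refine l1.two _ ?_ ⟨1, ?_⟩
        · rw [← conj_pow']
          exact pow_mem hy' m
        · rw [orderOf_conj', hot, pow_one]
      exact l1.ti g (y ^ m) htS hne ht'S
    · have hodd : Odd (orderOf y) := Nat.not_even_iff_odd.1 hev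
      have hy'A : g⁻¹ * y * g ∈ Aset S := ⟨hy', by rw [orderOf_conj']; exact hodd⟩
      have hy'1 : g⁻¹ * y * g ≠ 1 := by
        intro h
        apply hy1
        have : y = g * (g⁻¹ * y * g) * g⁻¹ := by group
        rw [this, h]
        group
      have hcen := hA _ hy'A hy'1
      have ht0y : t0 * y = y * t0 := by
        have := (mem_centralizer_iff.1 hy) t0 ht0S
        exact this
      have hmem : g⁻¹ * t0 * g ∈ centralizer ({g⁻¹ * y * g} : Set G) := by
        rw [mem_centralizer_iff]
        intro z hz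
        rw [Set.mem_singleton_iff] at hz
        rw [hz]
        calc g⁻¹ * y * g * (g⁻¹ * t0 * g) = g⁻¹ * (y * t0) * g := by group
          _ = g⁻¹ * (t0 * y) * g := by rw [ht0y]
          _ = g⁻¹ * t0 * g * (g⁻¹ * y * g) := by group
      have h1 : g⁻¹ * t0 * g ∈ NS S := hcen hmem
      have h2 : g⁻¹ * t0 * g ∈ S := l1.inv_mem _ h1 (by rw [orderOf_conj', ht0])
      exact l1.ti g t0 ht0S ht0ne h2
  refine ⟨hTI, ?_⟩
  apply le_antisymm
  · intro g hg
    have hg' : g⁻¹ ∈ normalizer ((CS S : Subgroup G) : Set G) := inv_mem hg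
    have h1 : g⁻¹ * t0 * g ∈ CS S := by
      have := (mem_normalizer_iff.1 hg' t0).1 (l1.le ht0S)
      rw [inv_inv] at this
      exact this
    exact hTI g t0 (l1.le ht0S) ht0ne h1
  · have key : ∀ h : G, h ∈ NS S → ∀ c : G, c ∈ CS S → h * c * h⁻¹ ∈ CS S := by
      intro h hh c hc
      unfold CS at hc ⊢
      rw [mem_centralizer_iff] at hc ⊢
      intro s hs
      have hh' : h⁻¹ ∈ NS S := inv_mem hh
      have hs' : h⁻¹ * s * h ∈ (S : Subgroup G) := by
        have := (mem_normalizer_iff.1 hh' s).1 hs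
        rw [inv_inv] at this
        exact this
      have hcomm := hc _ hs'
      calc s * (h * c * h⁻¹) = h * ((h⁻¹ * s * h) * c) * h⁻¹ := by group
        _ = h * (c * (h⁻¹ * s * h)) * h⁻¹ := by rw [hcomm]
        _ = h * c * h⁻¹ * s := by group
    intro h hh
    rw [mem_normalizer_iff]
    intro c
    constructor
    · exact key h hh c
    · intro hc
      have := key h⁻¹ (inv_mem hh) _ hc
      have e : h⁻¹ * (h * c * h⁻¹) * h⁻¹⁻¹ = c := by group
      rw [e] at this
      exact this

end Cfsg.Agent.Lib.Helper6.AICStepE
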