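import Mathlib
import Cfsg.Agent.Lib.Helper25.ACStmt
import Cfsg.Agent.Lib.Helper25.ACOddStmt

set_option autoImplicit false

/-! S3911 piece CYCODD (second seat, helper6). -/

namespace Cfsg.Agent.Lib.Helper6.AOCYCODD

open Cfsg.Agent.Lib.Helper25.ACStmt Cfsg.Agent.Lib.Helper25.ACOddStmt

universe u

theorem aux (hAb : AbCyc.{u}) (hStep : CycStep.{u}) (hP : PAb.{u}) (p : ℕ) [Fact p.Prime]
    (hp2 : p ≠ 2) : ∀ n : ℕ, ∀ (P : Type u) [Group P] [Finite P], Nat.card P = n →
      IsPGroup p P → ∀ N : Subgroup P, Nat.card ↥N = p → (∀ x : P, orderOf x = p → x ∈ N) →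
      IsCyclic P := by
  intro n
  induction n using Nat.strong_induction_on with
  | _ n ih =>
    intro P _ _ hn hPG N hN hNall
    have hp : p.Prime := Fact.out
    have hsub : ∀ H : Subgroup P, H ≠ ⊤ → IsCyclic ↥H := by
      intro H hH
      by_cases hbot : H = ⊥
      · subst hbot
        exact isCyclic_of_subsingleton
      have hHG : IsPGroup p ↥H := hPG.to_subgroup H
      have hdvd : p ∣ Nat.card ↥H := by
        rcases hHG.card_eq_or_dvd with h | h
        · exact absurd (Subgroup.card_eq_one.mp h) hbot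
        · exact h
      obtain ⟨h, hh⟩ := exists_prime_orderOf_dvd_card' (G := ↥H) p hdvd
      have hh' : orderOf (h : P) = p := by rw [Subgroup.orderOf_coe]; exact hh
      have hhN : (h : P) ∈ N := hNall _ hh'
      have hzle : Subgroup.zpowers (h : P) ≤ N := by
        rw [Subgroup.zpowers_le]; exact hhN
      have hzeq : Subgroup.zpowers (h : P) = N := by
        apply Subgroup.eq_of_le_of_card_ge hzle
        rw [Nat.card_zpowers, hh', hN]
      have hNH : N ≤ H := by
        rw [← hzeq, Subgroup.zpowers_le]; exact h.2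
      have hlt : Nat.card ↥H < n := by
        rw [← hn]
        have hle : Nat.card ↥H ≤ Nat.card P := Subgroup.card_le_card_group H
        rcases Nat.lt_or_ge (Nat.card ↥H) (Nat.card P) with hl | hg
        · exact hl
        · exact absurd ((Subgroup.card_eq_iff_eq_top H).mp (le_antisymm hle hg)) hH
      refine ih (Nat.card ↥H) hlt ↥H rfl hHG (N.subgroupOf H) ?_ ?_
      · rw [Nat.card_congr (Subgroup.subgroupOfEquivOfLe hNH).toEquiv, hN]
      · intro x hx
        rw [Subgroup.mem_subgroupOf]
        apply hNall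
        rw [Subgroup.orderOf_coe]; exact hx
    have hcomm := hStep P p hp2 hPG N hN hNall hsub
    have hab := hP P p hp2 hPG N hN hNall hcomm
    exact hAb P p hPG hab N hN hNall

theorem main (hAb : AbCyc.{u}) (hStep : CycStep.{u}) (hP : PAb.{u}) : CycOdd.{u} := by
  intro P _ _ p _ hp2 hPG N hN hNall
  exact aux hAb hStep hP p hp2 (Nat.card P) P rfl hPG N hN hNall

end Cfsg.Agent.Lib.Helper6.AOCYCODD
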