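import Mathlib
import Cfsg.Agent.Lib.Helper25.ACStmt
import Cfsg.Agent.Lib.Helper25.ACOddStmt

set_option autoImplicit false

/-! S3911 piece EXPIN (second seat, helper6). -/

namespace Cfsg.Agent.Lib.Helper6.AOEXPIN

open Cfsg.Agent.Lib.Helper25.ACStmt Cfsg.Agent.Lib.Helper25.ACOddStmt

universe u

theorem main : ExpIn.{u} := by
  intro G _ _ hB M hM p _ hpM P hexp
  have hp : p.Prime := Fact.out
  obtain ⟨y, hy⟩ := exists_prime_orderOf_dvd_card' (G := ↥M) p hpM
  have hy' : orderOf (y : G) = p := by rw [Subgroup.orderOf_coe]; exact hy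
  intro x hx
  by_cases hx1 : x = 1
  · rw [hx1]; exact M.one_mem
  have hxo : orderOf x = p := by
    have h1 : orderOf x ∣ p := orderOf_dvd_of_pow_eq_one (hexp x hx)
    rcases (Nat.dvd_prime hp).mp h1 with h | h
    · exact absurd (orderOf_eq_one_iff.mp h) hx1
    · exact h
  have hcard : Nat.card ↥(Subgroup.zpowers (y : G)) = Nat.card ↥(Subgroup.zpowers x) := by
    rw [Nat.card_zpowers, Nat.card_zpowers, hy', hxo]
  obtain ⟨g, hg⟩ := hB (Subgroup.zpowers (y : G)) (Subgroup.zpowers x) inferInstance inferInstance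
    hcard
  have hxin : x ∈ (Subgroup.zpowers (y : G)).map (MulAut.conj g).toMonoidHom := by
    rw [← hg]; exact Subgroup.mem_zpowers x
  obtain ⟨z, hz, hzx⟩ := Subgroup.mem_map.mp hxin
  have hzM : z ∈ M := by
    have : Subgroup.zpowers (y : G) ≤ M := by
      rw [Subgroup.zpowers_le]; exact y.2
    exact this hz
  rw [← hzx]
  simp only [MulEquiv.coe_toMonoidHom, MulAut.conj_apply]
  exact hM.conj_mem z hzM g

end Cfsg.Agent.Lib.Helper6.AOEXPIN
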