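import Mathlib
import Cfsg.Agent.Lib.Helper44.BCStmt
import Cfsg.Agent.Lib.Helper44.OTyp3
import Cfsg.Agent.Lib.Helper40.PrimeFix

set_option autoImplicit false

/-! S2362 piece COUNT1: the number of vectors of value `1` in the irreducible block. -/

namespace Cfsg.Agent.Lib.Helper6.BCCount1

open Matrix Polynomial
open Cfsg.Agent.Lib.Helper44.QSpace Cfsg.Agent.Lib.Helper44.OGroup Cfsg.Agent.Lib.Helper44.OMat
open Cfsg.Agent.Lib.Helper44.OExt

universe u

theorem main : Cfsg.Agent.Lib.Helper44.BCStmt.Level.{u} →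
    Cfsg.Agent.Lib.Helper44.SPStmt.NoFixIff.{u} → Cfsg.Agent.Lib.Helper44.BCStmt.Count1.{u} := by
  intro hLevel hNoFix F _ _ p _ _ r m h2 hr hr2 hrp hord hm κ _ _ N T hκ hdet hT hTr hfix
  classical
  obtain ⟨k, rfl⟩ : ∃ k, m = k + 1 := ⟨m - 1, by omega⟩
  haveI : Fact r.Prime := ⟨hr⟩
  have hS : Sep (qN N) := sep_qN hdet
  have hnd : ¬ (X - C (1 : F)) ∣ T.charpoly := (hNoFix F κ T).mp hfix
  have hdvd : 2 * (k + 1) ∣ r - 1 := by
    rw [← hord]
    exact Cfsg.Agent.Lib.Helper40.PrimeFix.order_dvd (F := F) (p := p) r hrp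
  obtain ⟨t, ht⟩ := hdvd
  have hobs := (Cfsg.Agent.Lib.Helper44.OTyp3.obs_matrix (p := p) (qN N) hS (k := k) hκ r
    (2 * (k + 1)) t hr hr2 hrp hord.symm (by rw [ht]; ring) T hTr hT hnd).2
  have hcond : ¬ (Odd (2 * (k + 1)) ∨ Even (2 * (k + 1) / (2 * (k + 1)))) := by
    rw [Nat.div_self (by omega)]
    rintro (h | h)
    · exact (Nat.not_odd_iff_even.mpr ⟨k + 1, by ring⟩) h
    · exact absurd h (by decide)
  have hZ := hobs hcond
  have hA : ∀ c : F, c ≠ 0 →
      Nat.card {x : κ → F // qN N x = c} = Nat.card {x : κ → F // qN N x = 1} :=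
    fun c hc => hLevel F κ (qN N) h2 hS k hκ c hc
  have htot : Fintype.card F ^ (2 * (k + 1)) = Nat.card {x : κ → F // qN N x = 0}
      + (Fintype.card F - 1) * Nat.card {x : κ → F // qN N x = 1} := by
    have e1 : Fintype.card (κ → F) = ∑ c : F, Nat.card {x : κ → F // qN N x = c} := by
      simp only [Nat.card_eq_fintype_card]
      rw [← Fintype.card_sigma]
      exact Fintype.card_congr (Equiv.sigmaFiberEquiv (qN N)).symm
    rw [Fintype.card_fun, hκ] at e1
    have e2 : ∑ c ∈ Finset.univ.erase (0 : F), Nat.card {x : κ → F // qN N x = c}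
        = (Fintype.card F - 1) * Nat.card {x : κ → F // qN N x = 1} := by
      rw [Finset.sum_congr rfl (g := fun _ => Nat.card {x : κ → F // qN N x = 1})
        (fun c hc => hA c (Finset.ne_of_mem_erase hc)),
        Finset.sum_const, Finset.card_erase_of_mem (Finset.mem_univ _), Finset.card_univ,
        smul_eq_mul]
    rw [e1, ← Finset.add_sum_erase Finset.univ _ (Finset.mem_univ (0 : F)), e2]
  have hq1 : 1 ≤ Fintype.card F := Fintype.card_pos
  have hq2 : 2 ≤ Fintype.card F := Fintype.one_lt_card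
  have hqk : 1 ≤ Fintype.card F ^ k := Nat.one_le_pow _ _ hq1
  have hZ' : (Nat.card {x : κ → F // qN N x = 0} : ℤ) * (Fintype.card F : ℤ)
      = (Fintype.card F : ℤ) ^ (k + 1)
        + (Fintype.card F : ℤ) ^ 2 * (((Fintype.card F : ℤ) ^ k - 1) * (Fintype.card F : ℤ) ^ k) := by
    have h := congrArg (Nat.cast : ℕ → ℤ) hZ
    push_cast [Nat.cast_sub hqk] at h
    exact h
  have htot' : (Fintype.card F : ℤ) ^ (2 * (k + 1)) = (Nat.card {x : κ → F // qN N x = 0} : ℤ)
      + ((Fintype.card F : ℤ) - 1) * (Nat.card {x : κ → F // qN N x = 1} : ℤ) := by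
    have h := congrArg (Nat.cast : ℕ → ℤ) htot
    push_cast [Nat.cast_sub hq1] at h
    exact h
  have hfin : ((Fintype.card F : ℤ) - 1) * (Fintype.card F : ℤ)
        * (Nat.card {x : κ → F // qN N x = 1} : ℤ)
      = ((Fintype.card F : ℤ) - 1) * (Fintype.card F : ℤ)
        * ((Fintype.card F : ℤ) ^ k * ((Fintype.card F : ℤ) ^ (k + 1) + 1)) := by
    linear_combination (-(Fintype.card F : ℤ)) * htot' - hZ'
  have hne : ((Fintype.card F : ℤ) - 1) * (Fintype.card F : ℤ) ≠ 0 := by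
    have h1 : (2 : ℤ) ≤ (Fintype.card F : ℤ) := by exact_mod_cast hq2
    apply mul_ne_zero <;> omega
  have hfin' := mul_left_cancel₀ hne hfin
  rw [Nat.add_sub_cancel]
  exact_mod_cast hfin'

end Cfsg.Agent.Lib.Helper6.BCCount1
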