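import Mathlib
import Cfsg.Agent.Lib.Helper44.BCStmt
import Cfsg.Agent.Lib.Helper43.SMNOFIX

set_option autoImplicit false

/-! S2362 piece DETONE. -/

namespace Cfsg.Agent.Lib.Helper6.BCDetOne

open Matrix Polynomial
open Cfsg.Agent.Lib.Helper44.QSpace Cfsg.Agent.Lib.Helper44.OGroup Cfsg.Agent.Lib.Helper44.OMat
open Cfsg.Agent.Lib.Helper44.OExt
open Cfsg.Agent.Lib.Helper43.SMNOFIX

universe u

theorem gram_qN {F : Type u} [Field F] {κ : Type} [Fintype κ] [DecidableEq κ]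
    (N : Matrix κ κ F) : Cfsg.Agent.Lib.Helper43.SMNOFIX.gram (qN N) = N + Nᵀ := by
  unfold Cfsg.Agent.Lib.Helper43.SMNOFIX.gram
  have h : QuadraticMap.polarBilin (qN N) = Matrix.toBilin' (N + Nᵀ) := by
    refine LinearMap.ext fun x => LinearMap.ext fun y => ?_
    rw [Matrix.toBilin'_apply']
    exact polar_qN N x y
  rw [h, LinearMap.BilinForm.toMatrix'_toBilin']

/-- An isometry of `qN N` preserves the Gram matrix `N + Nᵀ`. -/
theorem gram_isom {F : Type u} [Field F] {κ : Type} [Fintype κ] [DecidableEq κ]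
    (N S : Matrix κ κ F) (hS : ∀ v : κ → F, qN N (S *ᵥ v) = qN N v) :
    Sᵀ * (N + Nᵀ) * S = N + Nᵀ := by
  have h := gram_sim (qN N) (M := S) (c := 1) (fun v => by rw [hS, one_mul])
  rwa [gram_qN, one_smul] at h

theorem main : Cfsg.Agent.Lib.Helper44.SMStmt.AltSimDet.{u} →
    Cfsg.Agent.Lib.Helper44.BCStmt.DetOne.{u} := by
  intro hA F _ κ _ _ N T S k r h2 hk hdet hT hS hr hTr hfix hST
  have hBT : (N + Nᵀ)ᵀ = N + Nᵀ := by
    rw [Matrix.transpose_add, Matrix.transpose_transpose, add_comm]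
  obtain ⟨j, hj⟩ := hr
  have hr1 : r = (r - 1) + 1 := by omega
  have h1 : T * T ^ (r - 1) = 1 := by
    rw [← pow_succ', ← hr1, hTr]
  have h2' : T ^ (r - 1) * T = 1 := by
    rw [← pow_succ, ← hr1, hTr]
  have hDB : Sᵀ * (N + Nᵀ) * S = (1 : F) • (N + Nᵀ) := by
    rw [one_smul]
    exact gram_isom N S hS
  have h := core hA h2 (B := N + Nᵀ) (S := T) (T := T ^ (r - 1)) (D := S) (ν := 1) (k := k)
    (r := r) hk hBT hdet h1 h2' (gram_isom N T hT) hDB one_ne_zero hST ⟨j, hj⟩ hTr hfix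
  rw [one_pow] at h
  exact h

end Cfsg.Agent.Lib.Helper6.BCDetOne
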