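import Mathlib
import Cfsg.Agent.Lib.Helper44.BCStmt

set_option autoImplicit false

/-! S2362 piece LEVEL: nonzero level sets of a nondegenerate even-dimensional quadratic form over
a finite field of odd characteristic are equinumerous. -/

namespace Cfsg.Agent.Lib.Helper6.BCLevel

open Matrix Polynomial
open Cfsg.Agent.Lib.Helper44.QSpace Cfsg.Agent.Lib.Helper44.OGroup Cfsg.Agent.Lib.Helper44.OMat
open Cfsg.Agent.Lib.Helper44.OExt Cfsg.Agent.Lib.Helper44.FinSq
open Cfsg.Agent.Lib.Helper45.OmegaAutPsi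

universe u

theorem card_level_eq {F : Type u} [Field F] {ι : Type} [Fintype ι] [DecidableEq ι]
    (Q : QuadraticForm F (ι → F)) (g : GL ι F) (μ a : F) (ha : a ≠ 0) (hμ : μ ≠ 0)
    (hg : ∀ v, Q ((g : Matrix ι ι F) *ᵥ v) = μ * Q v) :
    Nat.card {x : ι → F // Q x = a * a * μ} = Nat.card {x : ι → F // Q x = 1} := by
  obtain ⟨L, hL⟩ : ∃ L : (ι → F) ≃ (ι → F), ∀ x, L x = a • ((g : Matrix ι ι F) *ᵥ x) :=
    ⟨{ toFun := fun x => a • ((g : Matrix ι ι F) *ᵥ x)
       invFun := fun y => ((g⁻¹ : GL ι F) : Matrix ι ι F) *ᵥ (a⁻¹ • y)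
       left_inv := fun x => by
         simp only
         rw [smul_smul, inv_mul_cancel₀ ha, one_smul, Matrix.mulVec_mulVec, ← Units.val_mul,
           inv_mul_cancel, Units.val_one, Matrix.one_mulVec]
       right_inv := fun y => by
         simp only
         rw [Matrix.mulVec_mulVec, ← Units.val_mul, mul_inv_cancel, Units.val_one,
           Matrix.one_mulVec, smul_smul, mul_inv_cancel₀ ha, one_smul] }, fun x => rfl⟩
  have hLQ : ∀ x, Q (L x) = a * a * μ * Q x := by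
    intro x
    rw [hL, QuadraticMap.map_smul, hg, smul_eq_mul]
    ring
  refine (Nat.card_congr (Equiv.subtypeEquiv L (fun x => ?_))).symm
  rw [hLQ]
  constructor
  · intro h
    rw [h, mul_one]
  · intro h
    have h0 : a * a * μ ≠ 0 := mul_ne_zero (mul_ne_zero ha ha) hμ
    exact mul_left_cancel₀ h0 (by rw [h, mul_one])

theorem main : Cfsg.Agent.Lib.Helper44.SPStmt.SimEx.{u} →
    Cfsg.Agent.Lib.Helper44.BCStmt.Level.{u} := by
  intro hSim F _ _ ι _ _ Q h2 hS k hk c hc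
  classical
  by_cases hsq : IsSquare c
  · obtain ⟨a, rfl⟩ := hsq
    have ha : a ≠ 0 := by
      rintro rfl
      exact hc (mul_zero _)
    have h := card_level_eq Q 1 1 a ha one_ne_zero (fun v => by simp)
    rwa [mul_one] at h
  · obtain ⟨g, hg⟩ := hSim F ι Q h2 hS k hk
    have hμ0 : ((mu Q g : Fˣ) : F) ≠ 0 := (mu Q g).ne_zero
    have hμ' : ¬ IsSquare ((mu Q g : Fˣ) : F) := by
      rintro ⟨b, hb⟩
      apply hg
      have hb0 : b ≠ 0 := by
        rintro rfl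
        rw [mul_zero] at hb
        exact hμ0 hb
      exact ⟨Units.mk0 b hb0, Units.ext (by simpa using hb)⟩
    obtain ⟨b, hb⟩ := isSquare_mul_of_not_of_not hsq hμ'
    have hb0 : b ≠ 0 := by
      rintro rfl
      rw [mul_zero] at hb
      exact (mul_ne_zero hc hμ0) hb
    have ha : b * ((mu Q g : Fˣ) : F)⁻¹ ≠ 0 := mul_ne_zero hb0 (inv_ne_zero hμ0)
    have h := card_level_eq Q (g : GL ι F) ((mu Q g : Fˣ) : F) (b * ((mu Q g : Fˣ) : F)⁻¹) ha hμ0
      (mu_spec Q g)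
    have hc' : b * ((mu Q g : Fˣ) : F)⁻¹ * (b * ((mu Q g : Fˣ) : F)⁻¹) * ((mu Q g : Fˣ) : F)
        = c := by
      have e1 : b * ((mu Q g : Fˣ) : F)⁻¹ * (b * ((mu Q g : Fˣ) : F)⁻¹) * ((mu Q g : Fˣ) : F)
          = (b * b) * ((mu Q g : Fˣ) : F)⁻¹ * (((mu Q g : Fˣ) : F)⁻¹ * ((mu Q g : Fˣ) : F)) := by
        ring
      rw [e1, ← hb, inv_mul_cancel₀ hμ0, mul_one, mul_assoc, mul_inv_cancel₀ hμ0, mul_one]
    rwa [hc'] at h

end Cfsg.Agent.Lib.Helper6.BCLevel
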