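import Mathlib
import Cfsg.Agent.Lib.Helper19.BTGen

set_option autoImplicit false

/-! S2369 piece FREEDVD: an element of prime order `r ∤ |Q|` commuting with `a` acts freely on
the cosets of `Q` fixed by `a`. -/

namespace Cfsg.Agent.Lib.Helper6.BTFREEDVD

open Cfsg.Agent.Lib.Helper19.BTGen

universe u

theorem main : FreeDvd.{u} := by
  intro G _ _ Q a c r hr hac hc hrQ
  haveI : Fact r.Prime := ⟨hr⟩
  have hcomm : ∀ z : Subgroup.zpowers c, Commute a (z : G) := by
    rintro ⟨z, n, rfl⟩
    exact hac.zpow_right n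
  let inst : MulAction (Subgroup.zpowers c) {x : G ⧸ Q // a • x = x} :=
    { smul := fun z x => ⟨(z : G) • x.1, by
        rw [smul_smul, (hcomm z).eq, ← smul_smul, x.2]⟩
      one_smul := fun x => Subtype.ext (one_smul G x.1)
      mul_smul := fun z z' x => Subtype.ext (mul_smul (z : G) (z' : G) x.1) }
  have hP : IsPGroup r (Subgroup.zpowers c) := by
    apply IsPGroup.of_card (n := 1)
    rw [Nat.card_zpowers, hc, pow_one]
  have hmod := hP.card_modEq_card_fixedPoints {x : G ⧸ Q // a • x = x}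
  have hempty : IsEmpty (MulAction.fixedPoints (Subgroup.zpowers c) {x : G ⧸ Q // a • x = x}) := by
    constructor
    rintro ⟨⟨x, hx⟩, hfix⟩
    have h1 := hfix ⟨c, Subgroup.mem_zpowers c⟩
    have h2 : c • x = x := congrArg Subtype.val h1
    obtain ⟨g, rfl⟩ := QuotientGroup.mk_surjective x
    have h3 : ((c * g : G) : G ⧸ Q) = (g : G ⧸ Q) := h2
    rw [QuotientGroup.eq] at h3
    have h4 : orderOf ((c * g)⁻¹ * g) = r := by
      have h6 : (c * g)⁻¹ * g = MulAut.conj g⁻¹ c⁻¹ := by
        rw [MulAut.conj_apply]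
        group
      rw [h6, MulEquiv.orderOf_eq, orderOf_inv, hc]
    have h5 := Subgroup.orderOf_dvd_natCard Q h3
    rw [h4] at h5
    exact hrQ h5
  have h0 : Nat.card (MulAction.fixedPoints (Subgroup.zpowers c) {x : G ⧸ Q // a • x = x}) = 0 :=
    Nat.card_of_isEmpty
  rw [h0] at hmod
  exact (Nat.modEq_zero_iff_dvd).1 hmod

end Cfsg.Agent.Lib.Helper6.BTFREEDVD
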