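import Mathlib
import Cfsg.Agent.Lib.Helper64.C2MStmt
import Cfsg.Agent.Lib.Helper44.NegPairs

/-!
# S5990C piece SINGPAIRM (helper6, spare seat): a nonzero nondegenerate plus-type subspace of the
standard minus form contains a hyperbolic pair (any characteristic).  Port of
`Helper33.C2SINGPAIR`.
-/

set_option autoImplicit false

namespace Cfsg.Agent.Lib.Helper6.C2MSINGPAIRM

open Module QuadraticMap
open Cfsg.Agent.Lib.Helper44.NegPairs (minusQ)
open Cfsg.Agent.Lib.Helper45.OMiStmt (M NDegM StabM)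
open Cfsg.Agent.Lib.Helper41.TMTwoStmt (PlusM)
open Cfsg.Agent.Lib.Helper64.C2MStmt

universe u

theorem main : SingPairM.{u} := by
  intro F _ _ a₀ b₀ d A hND hPlus hA
  obtain ⟨U, hUA, hUts, hUdim⟩ := hPlus
  have hApos : 0 < finrank F ↥A := by
    rw [Nat.pos_iff_ne_zero]
    intro h0
    exact hA (Submodule.finrank_eq_zero.mp h0)
  have hUpos : 0 < finrank F ↥U := by omega
  have hUne : U ≠ ⊥ := by
    intro hU
    rw [hU, finrank_bot] at hUpos
    exact lt_irrefl _ hUpos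
  obtain ⟨e, heU, he0⟩ := Submodule.exists_mem_ne_zero_of_ne_bot hUne
  have heA : e ∈ A := hUA heU
  have hQe : minusQ (d - 1) F a₀ b₀ e = 0 := hUts e heU
  obtain ⟨-, f₀, hf₀A, hb⟩ := hND e heA he0
  have hb' : polar (minusQ (d - 1) F a₀ b₀) e f₀ ≠ 0 := hb
  obtain ⟨c, hc⟩ : ∃ c : F, c = minusQ (d - 1) F a₀ b₀ f₀ /
      polar (minusQ (d - 1) F a₀ b₀) e f₀ := ⟨_, rfl⟩
  have hpe : polar (minusQ (d - 1) F a₀ b₀) e e = 0 := by
    rw [QuadraticMap.polar_self, hQe, smul_zero]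
  have hQf : minusQ (d - 1) F a₀ b₀ (f₀ + (-c) • e) = 0 := by
    have e1 := QuadraticMap.map_add (minusQ (d - 1) F a₀ b₀) f₀ ((-c) • e)
    rw [QuadraticMap.map_smul, polar_smul_right, hQe,
      polar_comm (minusQ (d - 1) F a₀ b₀) f₀ e] at e1
    rw [e1, hc]
    simp only [smul_eq_mul]
    field_simp
    ring
  have hpf : polar (minusQ (d - 1) F a₀ b₀) e (f₀ + (-c) • e) =
      polar (minusQ (d - 1) F a₀ b₀) e f₀ := by
    rw [polar_add_right, polar_smul_right, hpe, smul_zero, add_zero]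
  refine ⟨e, heA, f₀ + (-c) • e, A.add_mem hf₀A (A.smul_mem _ heA), hQe, hQf, ?_⟩
  have : polar (minusQ (d - 1) F a₀ b₀) e (f₀ + (-c) • e) ≠ 0 := by
    rw [hpf]; exact hb'
  exact this

end Cfsg.Agent.Lib.Helper6.C2MSINGPAIRM
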