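import Mathlib
import Cfsg.Agent.Lib.Helper69.J1Stmt

set_option autoImplicit false

/-! Piece CNT of S4274: counting the elements of order divisible by `p` when the Sylow
`p`-subgroups have order `p`. -/

namespace Cfsg.Agent.Lib.Helper6.J1CNT

universe u

open Cfsg.Agent.Lib.Helper69.J1Stmt

/-- an element of order `p` centralizing a Sylow `p`-subgroup lies in it. -/
theorem mem_sylow_of_centralizes {G : Type u} [Group G] {p : ℕ} [Fact p.Prime]
    (Q : Sylow p G) (h : G) (hh : h ∈ Subgroup.centralizer ((Q : Subgroup G) : Set G))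
    (hord : orderOf h = p) : h ∈ (Q : Subgroup G) := by
  have h1 : IsPGroup p ↥(Subgroup.zpowers h) :=
    IsPGroup.of_card (n := 1) (by rw [Nat.card_zpowers, hord, pow_one])
  have h2 : Subgroup.zpowers h ≤ Subgroup.normalizer ((Q : Subgroup G) : Set G) := by
    rw [Subgroup.zpowers_le]
    exact Subgroup.centralizer_le_normalizer _ hh
  have h3 : IsPGroup p ↥(Subgroup.zpowers h ⊔ (Q : Subgroup G)) :=
    IsPGroup.to_sup_of_normal_right' h1 Q.2 h2
  have h4 : Subgroup.zpowers h ⊔ (Q : Subgroup G) = Q := Q.3 h3 le_sup_right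
  rw [← h4]
  exact Subgroup.mem_sup_left (Subgroup.mem_zpowers h)

/-- the `p`-part generator of an element of order divisible by `p` centralizing `Q`. -/
theorem pow_mem_sylow {G : Type u} [Group G] [Finite G] {p : ℕ} [Fact p.Prime]
    (Q : Sylow p G) (a : G) (ha : a ∈ Subgroup.centralizer ((Q : Subgroup G) : Set G))
    (hpa : p ∣ orderOf a) :
    a ^ (orderOf a / p) ∈ (Q : Subgroup G) ∧ a ^ (orderOf a / p) ≠ 1 := by
  have hord : orderOf (a ^ (orderOf a / p)) = p :=
    orderOf_pow_orderOf_div (orderOf_pos a).ne' hpa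
  refine ⟨mem_sylow_of_centralizes Q _ (Subgroup.pow_mem _ ha _) hord, ?_⟩
  intro h1
  rw [h1, orderOf_one] at hord
  exact (Fact.out : p.Prime).one_lt.ne hord

theorem gen_of_prime {G : Type u} [Group G] {p : ℕ} [Fact p.Prime] (Q : Subgroup G)
    (hQcard : Nat.card Q = p) (x : G) (hx : x ∈ Q) (hx1 : x ≠ 1) :
    ∀ q ∈ Q, ∃ k : ℤ, x ^ k = q := by
  intro q hq
  have htop : Subgroup.zpowers (⟨x, hx⟩ : Q) = ⊤ :=
    zpowers_eq_top_of_prime_card hQcard (by
      intro h
      apply hx1
      exact congrArg Subtype.val h)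
  have hmem : (⟨q, hq⟩ : Q) ∈ Subgroup.zpowers (⟨x, hx⟩ : Q) := by rw [htop]; trivial
  obtain ⟨k, hk⟩ := Subgroup.mem_zpowers_iff.mp hmem
  refine ⟨k, ?_⟩
  have h2 := congrArg Subtype.val hk
  simpa using h2

theorem mem_normalizer_of_conj {G : Type u} [Group G] {p : ℕ} [Fact p.Prime]
    (Q : Subgroup G) (hQcard : Nat.card Q = p)
    (s h h' : G) (hh : h ∈ Q) (hh' : h' ∈ Q)
    (hh1 : h ≠ 1) (hh'1 : h' ≠ 1) (hs : s * h' * s⁻¹ = h) :
    s ∈ Subgroup.normalizer (Q : Set G) := by
  rw [Subgroup.mem_normalizer_iff]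
  intro q
  constructor
  · intro hq
    obtain ⟨k, rfl⟩ := gen_of_prime Q hQcard h' hh' hh'1 q hq
    have h3 : s * h' ^ k * s⁻¹ = h ^ k := by rw [← hs, conj_zpow]
    rw [h3]
    exact Subgroup.zpow_mem _ hh k
  · intro hq
    obtain ⟨k, hk⟩ := gen_of_prime Q hQcard h hh hh1 _ hq
    have h3 : q = h' ^ k := by
      have h1 : s * q * s⁻¹ = s * h' ^ k * s⁻¹ := by rw [← hk, ← hs, conj_zpow]
      exact mul_left_cancel (mul_right_cancel h1)
    rw [h3]
    exact Subgroup.zpow_mem _ hh' k

theorem main : Cnt.{u} := by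
  intro G _ _ p hp Q hQcard
  classical
  have hpprime : p.Prime := hp.out
  -- Step X
  have hX : Nat.card (G ⧸ Subgroup.normalizer ((Q : Subgroup G) : Set G)) *
      Nat.card {g : G // g ∈ Subgroup.centralizer ((Q : Subgroup G) : Set G) ∧ p ∣ orderOf g} ≤
      Nat.card {g : G // p ∣ orderOf g} := by
    rw [← Nat.card_prod]
    refine Nat.card_le_card_of_injective
      (fun ca => ⟨ca.1.out * ca.2.1 * (ca.1.out)⁻¹, ?_⟩) ?_
    · have h1 : orderOf ca.2.1 = orderOf (ca.1.out * ca.2.1 * (ca.1.out)⁻¹) :=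
        SemiconjBy.orderOf_eq ca.1.out (by unfold SemiconjBy; group)
      rw [← h1]
      exact ca.2.2.2
    · rintro ⟨c, a, haC, hpa⟩ ⟨c', a', haC', hpa'⟩ heq
      have heq' : c.out * a * (c.out)⁻¹ = c'.out * a' * (c'.out)⁻¹ := congrArg Subtype.val heq
      have hconj : ((c.out)⁻¹ * c'.out) * a' * ((c.out)⁻¹ * c'.out)⁻¹ = a := by
        have h2 : a = (c.out)⁻¹ * (c.out * a * (c.out)⁻¹) * c.out := by group
        rw [h2, heq']
        group
      have hord : orderOf a' = orderOf a := by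
        rw [← hconj]
        exact SemiconjBy.orderOf_eq ((c.out)⁻¹ * c'.out) (by unfold SemiconjBy; group)
      obtain ⟨hh, hh1⟩ := pow_mem_sylow Q a haC hpa
      obtain ⟨hh', hh'1⟩ := pow_mem_sylow Q a' haC' hpa'
      have hs : ((c.out)⁻¹ * c'.out) * a' ^ (orderOf a' / p) * ((c.out)⁻¹ * c'.out)⁻¹ =
          a ^ (orderOf a / p) := by
        rw [← conj_pow, hconj, hord]
      have hmem := mem_normalizer_of_conj (Q : Subgroup G) hQcard _ _ _ hh hh' hh1 hh'1 hs
      have hcc : c = c' := by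
        rw [← QuotientGroup.out_eq' c, ← QuotientGroup.out_eq' c']
        exact QuotientGroup.eq.mpr hmem
      subst hcc
      have haa : a = a' := by
        have h3 := mul_left_cancel (mul_right_cancel heq')
        exact h3
      subst haa
      rfl
  -- Step Y
  have hQC : ∀ z ∈ (Q : Subgroup G), z ∈ Subgroup.centralizer ((Q : Subgroup G) : Set G) := by
    intro z hz
    rw [Subgroup.mem_centralizer_iff]
    intro h hh
    have : IsCyclic ↥(Q : Subgroup G) := isCyclic_of_prime_card hQcard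
    have h1 : (⟨h, hh⟩ : (Q : Subgroup G)) * ⟨z, hz⟩ = ⟨z, hz⟩ * ⟨h, hh⟩ := mul_comm' _ _
    exact congrArg Subtype.val h1
  have hY2 : Nat.card {g : G // g ∈ Subgroup.centralizer ((Q : Subgroup G) : Set G) ∧
      ¬ p ∣ orderOf g} * p ≤ Nat.card (Subgroup.centralizer ((Q : Subgroup G) : Set G)) := by
    have hinj : Function.Injective (fun bz : {g : G // g ∈ Subgroup.centralizer
        ((Q : Subgroup G) : Set G) ∧ ¬ p ∣ orderOf g} × ↥(Q : Subgroup G) =>
        (⟨bz.1.1 * bz.2.1, Subgroup.mul_mem _ bz.1.2.1 (hQC _ bz.2.2)⟩ :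
          Subgroup.centralizer ((Q : Subgroup G) : Set G))) := by
      rintro ⟨⟨b, hbC, hpb⟩, ⟨z, hz⟩⟩ ⟨⟨b', hbC', hpb'⟩, ⟨z', hz'⟩⟩ heq
      have heq' : b * z = b' * z' := congrArg Subtype.val heq
      have hc : Commute b z := (Subgroup.mem_centralizer_iff.mp hbC z hz).symm
      have hc' : Commute b' z' := (Subgroup.mem_centralizer_iff.mp hbC' z' hz').symm
      have hpow : z ^ (orderOf b * orderOf b') = z' ^ (orderOf b * orderOf b') := by
        have h1 : (b * z) ^ (orderOf b * orderOf b') = z ^ (orderOf b * orderOf b') := by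
          rw [hc.mul_pow, pow_mul, pow_orderOf_eq_one, one_pow, one_mul]
        have h2 : (b' * z') ^ (orderOf b * orderOf b') = z' ^ (orderOf b * orderOf b') := by
          rw [hc'.mul_pow, mul_comm (orderOf b), pow_mul, pow_orderOf_eq_one, one_pow, one_mul]
        rw [← h1, ← h2, heq']
      have hcop : (Nat.card (Q : Subgroup G)).Coprime (orderOf b * orderOf b') := by
        rw [hQcard]
        exact Nat.Coprime.mul_right ((Nat.Prime.coprime_iff_not_dvd hpprime).mpr hpb)
          ((Nat.Prime.coprime_iff_not_dvd hpprime).mpr hpb')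
      have hzz : (⟨z, hz⟩ : (Q : Subgroup G)) = ⟨z', hz'⟩ := by
        apply (powCoprime hcop).injective
        apply Subtype.ext
        simpa using hpow
      have hzz' : z = z' := congrArg Subtype.val hzz
      subst hzz'
      have hbb : b = b' := mul_right_cancel heq'
      subst hbb
      rfl
    have key : Nat.card ({g : G // g ∈ Subgroup.centralizer ((Q : Subgroup G) : Set G) ∧
        ¬ p ∣ orderOf g} × ↥(Q : Subgroup G)) ≤
        Nat.card (Subgroup.centralizer ((Q : Subgroup G) : Set G)) := by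
      refine Nat.card_le_card_of_injective
        (fun bz => ⟨bz.1.1 * bz.2.1, Subgroup.mul_mem _ bz.1.2.1 (hQC _ bz.2.2)⟩) ?_
      exact hinj
    rw [Nat.card_prod, hQcard] at key
    exact key
  have hY1 : Nat.card (Subgroup.centralizer ((Q : Subgroup G) : Set G)) ≤
      Nat.card {g : G // g ∈ Subgroup.centralizer ((Q : Subgroup G) : Set G) ∧ p ∣ orderOf g} +
      Nat.card {g : G // g ∈ Subgroup.centralizer ((Q : Subgroup G) : Set G) ∧
        ¬ p ∣ orderOf g} := by
    rw [← Nat.card_sum]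
    refine Nat.card_le_card_of_injective
      (fun c => if h : p ∣ orderOf c.1 then Sum.inl ⟨c.1, c.2, h⟩ else Sum.inr ⟨c.1, c.2, h⟩) ?_
    intro c c' heq
    apply Subtype.ext
    by_cases h : p ∣ orderOf c.1 <;> by_cases h' : p ∣ orderOf c'.1 <;>
      simp only [h, h', dite_true, dite_false, Sum.inl.injEq, Sum.inr.injEq, Subtype.mk.injEq,
        reduceCtorEq] at heq
    · exact heq
    · exact heq
  have hGN := Subgroup.card_eq_card_quotient_mul_card_subgroup
    (Subgroup.normalizer ((Q : Subgroup G) : Set G))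
  -- arithmetic
  obtain ⟨p', rfl⟩ : ∃ p', p = p' + 1 := ⟨p - 1, by have := hpprime.one_lt; omega⟩
  simp only [Nat.add_sub_cancel]
  generalize Nat.card (G ⧸ Subgroup.normalizer ((Q : Subgroup G) : Set G)) = i at *
  generalize Nat.card (Subgroup.normalizer ((Q : Subgroup G) : Set G)) = n at *
  generalize Nat.card (Subgroup.centralizer ((Q : Subgroup G) : Set G)) = c at *
  generalize Nat.card {g : G // g ∈ Subgroup.centralizer ((Q : Subgroup G) : Set G) ∧
    (p' + 1) ∣ orderOf g} = a at *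
  generalize Nat.card {g : G // g ∈ Subgroup.centralizer ((Q : Subgroup G) : Set G) ∧
    ¬ (p' + 1) ∣ orderOf g} = b at *
  generalize Nat.card {g : G // (p' + 1) ∣ orderOf g} = S at *
  rw [hGN]
  have h1 : p' * c ≤ (p' + 1) * a := by nlinarith
  calc p' * (i * n) * c = (i * n) * (p' * c) := by ring
    _ ≤ (i * n) * ((p' + 1) * a) := Nat.mul_le_mul_left _ h1
    _ = (p' + 1) * n * (i * a) := by ring
    _ ≤ (p' + 1) * n * S := Nat.mul_le_mul_left _ hX

end Cfsg.Agent.Lib.Helper6.J1CNT
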