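import Mathlib
import Cfsg.Agent.Lib.Helper6.Mx6

/-!
# Maximal subgroups of `PSL(2, q)`, `q` odd: the assembly (helper6)

`max_S5892`: statement S5892.
-/

set_option autoImplicit false
set_option linter.unusedSimpArgs false
set_option linter.unusedVariables false
set_option linter.unusedSectionVars false
set_option linter.style.haveILetI false
set_option linter.unnecessarySeqFocus false
set_option linter.unreachableTactic false
set_option linter.unusedTactic false

namespace Cfsg.Agent.Lib.Helper6.Mx7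

open Matrix MatrixGroups
open Cfsg.Agent.Lib.Helper53.SL2Inv Cfsg.Agent.Lib.Helper53.SL2Unip
open Cfsg.Agent.Lib.Helper98.SL2Sub Cfsg.Agent.Lib.Helper98.SL2Core
open Cfsg.Agent.Lib.Helper98.SL2Tor Cfsg.Agent.Lib.Helper98.PSL2Max
open Cfsg.Agent.Lib.Helper98.DicksonB Cfsg.Agent.Lib.Helper98.DicksonOdd
open Cfsg.Agent.Lib.Helper98.SL2Field
open Cfsg.Agent.S5941 (Pk Sk_le_Pk Pk_ne_top d_mem_Pk)
open Cfsg.Agent.Lib.Helper6.Sb2 Cfsg.Agent.Lib.Helper6.Dk2 Cfsg.Agent.Lib.Helper6.Dk3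
  Cfsg.Agent.Lib.Helper6.Dk4
  Cfsg.Agent.Lib.Helper6.Dk5 Cfsg.Agent.Lib.Helper6.Mx1 Cfsg.Agent.Lib.Helper6.Mx2
  Cfsg.Agent.Lib.Helper6.Mx3 Cfsg.Agent.Lib.Helper6.Mx4 Cfsg.Agent.Lib.Helper6.Mx5
  Cfsg.Agent.Lib.Helper6.Mx6

theorem max_S5892 {F : Type*} [Field F] [Fintype F] (p : ℕ)
    [Fact p.Prime] [CharP F p] (hodd : Odd (Fintype.card F)) (h5 : 5 ≤ Fintype.card F)
    (M : Subgroup (Matrix.ProjectiveSpecialLinearGroup (Fin 2) F)) (hM : IsCoatom M) :
    2 * Nat.card M = Fintype.card F * (Fintype.card F - 1) ∨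
    (13 ≤ Fintype.card F ∧ (∃ k : ℕ, 2 * k = Fintype.card F - 1 ∧ Nonempty (M ≃* DihedralGroup k))) ∨
    (Fintype.card F ≠ 7 ∧ Fintype.card F ≠ 9 ∧ (∃ k : ℕ, 2 * k = Fintype.card F + 1 ∧ Nonempty (M ≃* DihedralGroup k))) ∨
    (∃ (F₀ : Type) (_ : Field F₀) (_ : Fintype F₀), Fintype.card F = Fintype.card F₀ ^ 2 ∧
        Nonempty (M ≃* Matrix.ProjGenLinGroup (Fin 2) F₀)) ∨
    (∃ (F₀ : Type) (_ : Field F₀) (_ : Fintype F₀) (r : ℕ), r.Prime ∧ Odd r ∧ Fintype.card F = Fintype.card F₀ ^ r ∧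
        Nonempty (M ≃* Matrix.ProjectiveSpecialLinearGroup (Fin 2) F₀)) ∨
    ((Fintype.card F % 10 = 1 ∨ Fintype.card F % 10 = 9) ∧
        (Fintype.card F = p ∨ (Fintype.card F = p ^ 2 ∧ (p % 10 = 3 ∨ p % 10 = 7))) ∧
        Nonempty (M ≃* alternatingGroup (Fin 5))) ∨
    (Fintype.card F = p ∧ (p % 8 = 3 ∨ p % 8 = 5) ∧ ¬ (p % 10 = 1 ∨ p % 10 = 9) ∧
        Nonempty (M ≃* alternatingGroup (Fin 4))) ∨
    (Fintype.card F = p ∧ (p % 8 = 1 ∨ p % 8 = 7) ∧ Nonempty (M ≃* Equiv.Perm (Fin 4))) := by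
  haveI : Finite SL(2, F) := finite_SL
  haveI : Finite (Matrix.ProjectiveSpecialLinearGroup (Fin 2) F) :=
    Finite.of_surjective _ proj_surj
  have h2 : (2 : F) ≠ 0 := two_ne_zero_of_odd hodd
  have hpp : p.Prime := Fact.out
  have hco : IsCoatom (M.comap proj) := isCoatom_comap proj proj_surj M hM
  have hcX : Nat.card (M.comap proj) = 2 * Nat.card M := card_comap h2 M
  have hHX : (M.comap proj).map proj = M :=
    Subgroup.map_comap_eq_self_of_surjective proj_surj M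
  have isoH : M ≃* (M.comap proj).map proj := MulEquiv.subgroupCongr hHX.symm
  by_cases hB : ∃ g : SL(2, F), ∀ y ∈ M.comap proj, (g * y * g⁻¹).1 1 0 = 0
  · obtain ⟨g, hg⟩ := hB
    left
    rw [← hcX]
    exact case_borel_max _ hco g hg
  by_cases hp : p ∣ Nat.card (M.comap proj)
  · rcases main p h2 (M.comap proj) hp with h | ⟨φ, k, h1, h2'⟩ | ⟨h3, φ, i, hi, hle, hne⟩
    · exact absurd h hB
    · have hco' := isCoatom_map_equiv φ _ hco
      have hk : ∃ t, t ∉ k := by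
        by_contra hcon
        push Not at hcon
        apply hco'.1
        apply top_le_iff.1
        refine le_trans ?_ h1
        intro g _
        exact ⟨hcon _, hcon _, hcon _, hcon _⟩
      obtain ⟨hXeq, hcase⟩ := subfield_max p h2 k hk _ hco' h1 h2'
      obtain ⟨K, hKf, hKt, hKc, hpsl, hpgl⟩ := subfield_iso p h2 (M.comap proj) φ k hXeq
      rcases hcase with ⟨hne, hc⟩ | ⟨heq, r, hr, hro, hc⟩
      · obtain ⟨ψ⟩ := hpgl hne
        right; right; right; left
        exact ⟨K, hKf, hKt, by rw [hc, hKc], ⟨isoH.trans ψ⟩⟩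
      · obtain ⟨ψ⟩ := hpsl heq
        right; right; right; right; left
        exact ⟨K, hKf, hKt, r, hr, hro, by rw [hc, hKc], ⟨isoH.trans ψ⟩⟩
    · obtain ⟨hq, hp3, h⟩ := case_res p hodd M hM hco hp hB h3 φ i hi hle hne
      rcases h with ⟨⟨e⟩⟩ | h
      · obtain ⟨ψ⟩ := s4_pgl3 hq
        right; right; right; left
        exact ⟨ZMod 3, inferInstance, inferInstance, by rw [hq, ZMod.card]; norm_num,
          ⟨e.trans ψ⟩⟩
      · right; right; right; right; right; left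
        refine ⟨Or.inr (by rw [hq]), Or.inr ⟨by rw [hq, hp3]; norm_num, Or.inl (by rw [hp3])⟩, h⟩
  · by_cases hsq : ∀ x ∈ M.comap proj, ∀ y ∈ M.comap proj, x ^ 2 * y ^ 2 = y ^ 2 * x ^ 2
    · obtain ⟨k, hk, ⟨ψ⟩⟩ := case_dih_max p hodd h5 M hco hp hsq
      have hcM : Nat.card M = 2 * k := by
        rw [Nat.card_congr ψ.toEquiv, DihedralGroup.nat_card]
      obtain ⟨e1, e2, e3, e4, e5, e6⟩ := excl_small p hodd M hM
      obtain ⟨j, hj⟩ := hodd
      rcases hk with hk | hk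
      · right; left
        refine ⟨?_, k, hk, ⟨ψ⟩⟩
        by_contra hcon
        have hqc : Fintype.card F = 5 ∨ Fintype.card F = 7 ∨ Fintype.card F = 9 ∨
            Fintype.card F = 11 := by omega
        rcases hqc with h | h | h | h
        · exact e1 ⟨h, by rw [hcM]; omega⟩
        · exact e2 ⟨h, by rw [hcM]; omega⟩
        · exact e3 ⟨h, by rw [hcM]; omega⟩
        · exact e4 ⟨h, by rw [hcM]; omega⟩
      · right; right; left
        refine ⟨?_, ?_, k, hk, ⟨ψ⟩⟩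
        · intro h; exact e5 ⟨h, by rw [hcM]; omega⟩
        · intro h; exact e6 ⟨h, by rw [hcM]; omega⟩
    · have hc : Nat.card (M.comap proj) = 24 ∨ Nat.card (M.comap proj) = 48 ∨
          Nat.card (M.comap proj) = 120 := by
        rcases core p h2 (M.comap proj) (negOne_mem_comap M) hp with h | h
        · exact absurd h hsq
        · exact h
      rcases case_pprime p h2 M hp hsq hc with ⟨⟨e⟩⟩ | ⟨⟨e⟩⟩ | ⟨⟨e⟩⟩
      · obtain ⟨hq, h8, h10⟩ := case_A4 p hodd h5 M hM hco hp e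
        right; right; right; right; right; right; left
        exact ⟨hq, h8, h10, ⟨e⟩⟩
      · obtain ⟨hq, h8⟩ := case_S4 p hodd M hco hp e
        right; right; right; right; right; right; right
        exact ⟨hq, h8, ⟨e⟩⟩
      · obtain ⟨h10, hq⟩ := case_A5 p hodd M hco hp e
        right; right; right; right; right; left
        exact ⟨h10, hq, ⟨e⟩⟩

end Cfsg.Agent.Lib.Helper6.Mx7
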