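import Mathlib
import Cfsg.Agent.Lib.Helper15.NpcStmt

set_option autoImplicit false

/-! Piece NOP of S3875: a minimal non-`p`-closed group has no non-trivial normal `p`-subgroup. -/

namespace Cfsg.Agent.Lib.Helper6.NpcNOP

open Cfsg.Agent.Lib.Helper15.NpcStmt

/-- a normal `p`-subgroup lies in every Sylow `p`-subgroup. -/
theorem normal_le_sylow {p : ℕ} [Fact p.Prime] {H : Type} [Group H] [Finite H]
    (N : Subgroup H) (hN : N.Normal) (hNp : IsPGroup p ↥N) (P : Sylow p H) :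
    N ≤ (P : Subgroup H) := by
  obtain ⟨Q, hQ⟩ := hNp.exists_le_sylow
  obtain ⟨g, hg⟩ := MulAction.exists_smul_eq H Q P
  intro x hx
  have h1 : g⁻¹ * x * g⁻¹⁻¹ ∈ N := hN.conj_mem x hx g⁻¹
  have h2 : g⁻¹ * x * g⁻¹⁻¹ ∈ (Q : Subgroup H) := hQ h1
  rw [← hg, Sylow.coe_subgroup_smul, Subgroup.mem_pointwise_smul_iff_inv_smul_mem]
  simpa [MulAut.smul_def, MulAut.conj_apply] using h2

theorem main : NoNormalP := by
  intro p _ H _ _ hmin N hN hNp
  by_contra hne
  obtain ⟨hnpc, -, hquo⟩ := hmin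
  apply hnpc
  intro P
  have hNP : N ≤ (P : Subgroup H) := normal_le_sylow N hN hNp P
  have := hN
  have hq := hquo N hne
  have hsurj : Function.Surjective (QuotientGroup.mk' N) := QuotientGroup.mk'_surjective N
  have hnorm : ((P.mapSurjective hsurj : Sylow p (H ⧸ N)) : Subgroup (H ⧸ N)).Normal :=
    hq (P.mapSurjective hsurj)
  have hcomap : (((P.mapSurjective hsurj : Sylow p (H ⧸ N)) : Subgroup (H ⧸ N)).comap
      (QuotientGroup.mk' N)) = (P : Subgroup H) := by
    rw [Sylow.coe_mapSurjective, Subgroup.comap_map_eq, QuotientGroup.ker_mk']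
    exact sup_eq_left.mpr hNP
  rw [← hcomap]
  exact hnorm.comap _

end Cfsg.Agent.Lib.Helper6.NpcNOP
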