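import Mathlib
import Cfsg.Agent.Lib.Helper15.NpcStmt

set_option autoImplicit false

/-! Piece NPP of S3875: in a minimal non-`p`-closed group every proper normal subgroup is a
`p'`-group (given that there is no non-trivial normal `p`-subgroup). -/

namespace Cfsg.Agent.Lib.Helper6.NpcNPP

open Cfsg.Agent.Lib.Helper15.NpcStmt

theorem main : NoNormalP → NormalPPrime := by
  intro hNOP p _ H _ _ hmin N hN hne hdvd
  have hpc : Cfsg.IsPClosed p ↥N := hmin.2.1 N hne
  obtain ⟨Q⟩ : Nonempty (Sylow p ↥N) := inferInstance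
  have hQn : (Q : Subgroup ↥N).Normal := hpc Q
  have hQc : (Q : Subgroup ↥N).Characteristic := Sylow.characteristic_of_normal Q hQn
  have hmapn : ((Q : Subgroup ↥N).map N.subtype).Normal :=
    ConjAct.normal_of_characteristic_of_normal
  have hmapp : IsPGroup p ↥((Q : Subgroup ↥N).map N.subtype) := Q.2.map N.subtype
  have hbot : (Q : Subgroup ↥N).map N.subtype = ⊥ := hNOP p H hmin _ hmapn hmapp
  have hQbot : (Q : Subgroup ↥N) = ⊥ := by
    rw [← Subgroup.map_eq_bot_iff_of_injective _ N.subtype_injective]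
    exact hbot
  exact Q.ne_bot_of_dvd_card hdvd hQbot

end Cfsg.Agent.Lib.Helper6.NpcNPP
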