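import Mathlib
import Cfsg.Agent.Lib.Helper45.OMiStmt
import Cfsg.Agent.Lib.Helper44.Gram
import Cfsg.Agent.Lib.Helper44.NegPairs
import Cfsg.Agent.Lib.Helper44.QSpace
import Cfsg.Agent.Lib.Helper6.OMiCLS1

set_option autoImplicit false

/-! S5991 piece CLS2: `c`-structures on the orthogonal complements of two isometric nondegenerate
subspaces: `c c'` is a square.  No Witt theorem: `disc V = disc W * disc W^⊥` in an adapted
basis, and `disc W = disc W'`. -/

namespace Cfsg.Agent.Lib.Helper6.OMiCLS2

open Module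

universe u

section abstract

variable {F V : Type*} [Field F] [AddCommGroup V] [Module F V]

/-- Gram determinant of an orthogonal decomposition `V = W ⊥ W^⊥`. -/
theorem gram_perp [FiniteDimensional F V] (B : LinearMap.BilinForm F V) (hS : B.IsSymm)
    (W : Submodule F V) (hc : IsCompl W (B.orthogonal W))
    {ι κ : Type*} [Fintype ι] [DecidableEq ι] [Fintype κ] [DecidableEq κ]
    (bW : Basis ι F W) (bP : Basis κ F (B.orthogonal W)) :
    ∃ b₀ : Basis (ι ⊕ κ) F V, (LinearMap.BilinForm.toMatrix b₀ B).det =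
      (Matrix.of fun i j => B (bW i : V) (bW j : V)).det *
        (Matrix.of fun i j => B (bP i : V) (bP j : V)).det := by
  let b₀ : Basis (ι ⊕ κ) F V := (bW.prod bP).map (Submodule.prodEquivOfIsCompl W _ hc)
  have hl : ∀ i, b₀ (Sum.inl i) = (bW i : V) := by
    intro i
    simp [b₀]
  have hr : ∀ i, b₀ (Sum.inr i) = (bP i : V) := by
    intro i
    simp [b₀]
  refine ⟨b₀, ?_⟩
  have hG : LinearMap.BilinForm.toMatrix b₀ B =
      Matrix.fromBlocks (Matrix.of fun i j => B (bW i : V) (bW j : V)) 0 0
        (Matrix.of fun i j => B (bP i : V) (bP j : V)) := by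
    ext (i | i) (j | j)
    · rw [LinearMap.BilinForm.toMatrix_apply, hl, hl]
      simp
    · rw [LinearMap.BilinForm.toMatrix_apply, hl, hr]
      simp only [Matrix.fromBlocks_apply₁₂, Matrix.zero_apply]
      exact (bP j).2 _ (bW i).2
    · rw [LinearMap.BilinForm.toMatrix_apply, hr, hl]
      simp only [Matrix.fromBlocks_apply₂₁, Matrix.zero_apply]
      rw [hS.eq]
      exact (bP i).2 _ (bW j).2
    · rw [LinearMap.BilinForm.toMatrix_apply, hr, hr]
      simp
  rw [hG, Matrix.det_fromBlocks_zero₂₁]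

end abstract

open Cfsg.Agent.Lib.Helper45.OMiStmt Cfsg.Agent.Lib.Helper44.NegPairs
  Cfsg.Agent.Lib.Helper44.QSpace Cfsg.Agent.Lib.Helper6.OMiCLS1

theorem main : Cls2.{u} := by
  intro F _ _ hodd d m hd hmd a b hab W₀ W W' hW hW' c c' hc hc'
  classical
  have h2 : (2 : F) ≠ 0 := by
    intro h
    have hchar : ringChar F = 2 :=
      CharP.ringChar_of_prime_eq_zero Nat.prime_two (by exact_mod_cast h)
    have h3 := FiniteField.even_card_of_char_two hchar
    rcases hodd with ⟨t, ht⟩
    omega
  obtain ⟨hm, hnd, ⟨e₁, he₁⟩⟩ := hW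
  obtain ⟨hm', hnd', ⟨e₂, he₂⟩⟩ := hW'
  obtain ⟨ut, hutW, hutc, L, hLW, hL0, hLu, hLdim⟩ := hc
  obtain ⟨ut', hutW', hutc', L', hLW', hL0', hLu', hLdim'⟩ := hc'
  have hBapp : ∀ x y : M d → F, QuadraticMap.polarBilin (minusQ (d - 1) F a b) x y =
      QuadraticMap.polar (Cfsg.quadFormMinus (d - 1) F a b) x y := fun x y => rfl
  have hS : LinearMap.BilinForm.IsSymm (QuadraticMap.polarBilin (minusQ (d - 1) F a b)) :=
    ⟨fun x y => by simp only [hBapp]; exact QuadraticMap.polar_comm _ _ _⟩
  have hBnd : LinearMap.BilinForm.Nondegenerate (QuadraticMap.polarBilin (minusQ (d - 1) F a b)) :=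
    nondegenerate_of_sep (sep_minusQ h2 (d - 1) a b hab)
  have hfinV : finrank F (M d → F) = 2 * d := by
    rw [Module.finrank_fintype_fun_eq_card]
    simp only [Fintype.card_sum, Fintype.card_fin]
    omega
  have he : ∀ w : W, Cfsg.quadFormMinus (d - 1) F a b (((e₁.trans e₂.symm) w : W') : M d → F) =
      Cfsg.quadFormMinus (d - 1) F a b (w : M d → F) := by
    intro w
    have h5 := he₂ (e₂.symm (e₁ w))
    rw [LinearEquiv.apply_symm_apply] at h5
    rw [LinearEquiv.trans_apply, ← h5, he₁]
  have hk' : finrank F L' = finrank F L := by omega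
  -- nondegeneracy of the restrictions
  have hndW : (LinearMap.BilinForm.restrict (QuadraticMap.polarBilin (minusQ (d - 1) F a b)) W).Nondegenerate := by
    constructor
    · intro x hx
      by_contra hx0
      have hx1 : (x : M d → F) ≠ 0 := fun h => hx0 (Subtype.ext h)
      obtain ⟨y, hyW, hy⟩ := (hnd x.1 x.2 hx1).2
      exact hy (hx ⟨y, hyW⟩)
    · intro x hx
      by_contra hx0
      have hx1 : (x : M d → F) ≠ 0 := fun h => hx0 (Subtype.ext h)
      obtain ⟨y, hyW, hy⟩ := (hnd x.1 x.2 hx1).1
      exact hy (hx ⟨y, hyW⟩)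
  have hndW' : (LinearMap.BilinForm.restrict (QuadraticMap.polarBilin (minusQ (d - 1) F a b)) W').Nondegenerate := by
    constructor
    · intro x hx
      by_contra hx0
      have hx1 : (x : M d → F) ≠ 0 := fun h => hx0 (Subtype.ext h)
      obtain ⟨y, hyW, hy⟩ := (hnd' x.1 x.2 hx1).2
      exact hy (hx ⟨y, hyW⟩)
    · intro x hx
      by_contra hx0
      have hx1 : (x : M d → F) ≠ 0 := fun h => hx0 (Subtype.ext h)
      obtain ⟨y, hyW, hy⟩ := (hnd' x.1 x.2 hx1).1
      exact hy (hx ⟨y, hyW⟩)
  have hcW := LinearMap.BilinForm.isCompl_orthogonal_of_restrict_nondegenerate hS.isRefl hndW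
  have hcW' := LinearMap.BilinForm.isCompl_orthogonal_of_restrict_nondegenerate hS.isRefl hndW'
  have hfP : finrank F (LinearMap.BilinForm.orthogonal (QuadraticMap.polarBilin (minusQ (d - 1) F a b)) W) =
      2 * finrank F L + 1 := by
    have h7 := (Submodule.finrank_add_eq_of_isCompl hcW).trans hfinV
    rw [hm] at h7
    rw [hm] at hLdim
    rw [hLdim]
    exact Nat.eq_sub_of_add_eq' h7
  have hfP' : finrank F (LinearMap.BilinForm.orthogonal (QuadraticMap.polarBilin (minusQ (d - 1) F a b)) W') =
      2 * finrank F L + 1 := by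
    have h7 := (Submodule.finrank_add_eq_of_isCompl hcW').trans hfinV
    rw [hm'] at h7
    rw [hm'] at hLdim'
    rw [← hk', hLdim']
    exact Nat.eq_sub_of_add_eq' h7
  -- membership in the complements
  have hutP : ut ∈ LinearMap.BilinForm.orthogonal (QuadraticMap.polarBilin (minusQ (d - 1) F a b)) W := by
    intro n hn
    show QuadraticMap.polarBilin (minusQ (d - 1) F a b) n ut = 0
    rw [hBapp, QuadraticMap.polar_comm]
    exact hutW n hn
  have hutP' : ut' ∈ LinearMap.BilinForm.orthogonal (QuadraticMap.polarBilin (minusQ (d - 1) F a b)) W' := by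
    intro n hn
    show QuadraticMap.polarBilin (minusQ (d - 1) F a b) n ut' = 0
    rw [hBapp, QuadraticMap.polar_comm]
    exact hutW' n hn
  have hLP : L ≤ LinearMap.BilinForm.orthogonal (QuadraticMap.polarBilin (minusQ (d - 1) F a b)) W := by
    intro v hv n hn
    show QuadraticMap.polarBilin (minusQ (d - 1) F a b) n v = 0
    rw [hBapp, QuadraticMap.polar_comm]
    exact hLW v hv n hn
  have hLP' : L' ≤ LinearMap.BilinForm.orthogonal (QuadraticMap.polarBilin (minusQ (d - 1) F a b)) W' := by
    intro v hv n hn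
    show QuadraticMap.polarBilin (minusQ (d - 1) F a b) n v = 0
    rw [hBapp, QuadraticMap.polar_comm]
    exact hLW' v hv n hn
  -- adapted bases
  obtain ⟨b₀, hb₀⟩ := gram_perp (QuadraticMap.polarBilin (minusQ (d - 1) F a b)) hS W hcW
    (Module.finBasis F W)
    (Module.finBasis F (LinearMap.BilinForm.orthogonal (QuadraticMap.polarBilin (minusQ (d - 1) F a b)) W))
  obtain ⟨b₀', hb₀'⟩ := gram_perp (QuadraticMap.polarBilin (minusQ (d - 1) F a b)) hS W' hcW'
    ((Module.finBasis F W).map (e₁.trans e₂.symm))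
    (Module.finBasis F (LinearMap.BilinForm.orthogonal (QuadraticMap.polarBilin (minusQ (d - 1) F a b)) W'))
  have hGW : (Matrix.of fun i j => QuadraticMap.polarBilin (minusQ (d - 1) F a b)
        ((((Module.finBasis F W).map (e₁.trans e₂.symm)) i : W') : M d → F)
        ((((Module.finBasis F W).map (e₁.trans e₂.symm)) j : W') : M d → F)) =
      Matrix.of fun i j => QuadraticMap.polarBilin (minusQ (d - 1) F a b)
        (((Module.finBasis F W) i : W) : M d → F) (((Module.finBasis F W) j : W) : M d → F) := by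
    ext i j
    simp only [Matrix.of_apply, Basis.map_apply]
    rw [hBapp, hBapp, QuadraticMap.polar, QuadraticMap.polar, ← Submodule.coe_add, ← map_add,
      he, he, he]
    rfl
  rw [hGW] at hb₀'
  -- the two discriminants of the complements
  have s1 := cstr_sq ((minusQ (d - 1) F a b).comp
      (LinearMap.BilinForm.orthogonal (QuadraticMap.polarBilin (minusQ (d - 1) F a b)) W).subtype) (finrank F L) hfP
    (Module.finBasis F (LinearMap.BilinForm.orthogonal (QuadraticMap.polarBilin (minusQ (d - 1) F a b)) W))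
    ⟨ut, hutP⟩ (L.comap (LinearMap.BilinForm.orthogonal (QuadraticMap.polarBilin (minusQ (d - 1) F a b)) W).subtype)
    (LinearEquiv.finrank_eq (Submodule.comapSubtypeEquivOfLe hLP))
    (fun v hv => hL0 _ hv)
    (fun v hv => hLu _ hv)
  have s2 := cstr_sq ((minusQ (d - 1) F a b).comp
      (LinearMap.BilinForm.orthogonal (QuadraticMap.polarBilin (minusQ (d - 1) F a b)) W').subtype) (finrank F L) hfP'
    (Module.finBasis F (LinearMap.BilinForm.orthogonal (QuadraticMap.polarBilin (minusQ (d - 1) F a b)) W'))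
    ⟨ut', hutP'⟩ (L'.comap (LinearMap.BilinForm.orthogonal (QuadraticMap.polarBilin (minusQ (d - 1) F a b)) W').subtype)
    ((LinearEquiv.finrank_eq (Submodule.comapSubtypeEquivOfLe hLP')).trans hk')
    (fun v hv => hL0' _ hv)
    (fun v hv => hLu' _ hv)
  have hGP : LinearMap.BilinForm.toMatrix
      (Module.finBasis F (LinearMap.BilinForm.orthogonal (QuadraticMap.polarBilin (minusQ (d - 1) F a b)) W))
      (QuadraticMap.polarBilin ((minusQ (d - 1) F a b).comp
        (LinearMap.BilinForm.orthogonal (QuadraticMap.polarBilin (minusQ (d - 1) F a b)) W).subtype)) =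
      Matrix.of fun i j => QuadraticMap.polarBilin (minusQ (d - 1) F a b)
        ((Module.finBasis F (LinearMap.BilinForm.orthogonal (QuadraticMap.polarBilin (minusQ (d - 1) F a b)) W) i :
          (LinearMap.BilinForm.orthogonal (QuadraticMap.polarBilin (minusQ (d - 1) F a b)) W)) : M d → F)
        ((Module.finBasis F (LinearMap.BilinForm.orthogonal (QuadraticMap.polarBilin (minusQ (d - 1) F a b)) W) j :
          (LinearMap.BilinForm.orthogonal (QuadraticMap.polarBilin (minusQ (d - 1) F a b)) W)) : M d → F) := by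
    ext i j
    rw [LinearMap.BilinForm.toMatrix_apply]
    rfl
  have hGP' : LinearMap.BilinForm.toMatrix
      (Module.finBasis F (LinearMap.BilinForm.orthogonal (QuadraticMap.polarBilin (minusQ (d - 1) F a b)) W'))
      (QuadraticMap.polarBilin ((minusQ (d - 1) F a b).comp
        (LinearMap.BilinForm.orthogonal (QuadraticMap.polarBilin (minusQ (d - 1) F a b)) W').subtype)) =
      Matrix.of fun i j => QuadraticMap.polarBilin (minusQ (d - 1) F a b)
        ((Module.finBasis F (LinearMap.BilinForm.orthogonal (QuadraticMap.polarBilin (minusQ (d - 1) F a b)) W') i :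
          (LinearMap.BilinForm.orthogonal (QuadraticMap.polarBilin (minusQ (d - 1) F a b)) W')) : M d → F)
        ((Module.finBasis F (LinearMap.BilinForm.orthogonal (QuadraticMap.polarBilin (minusQ (d - 1) F a b)) W') j :
          (LinearMap.BilinForm.orthogonal (QuadraticMap.polarBilin (minusQ (d - 1) F a b)) W')) : M d → F) := by
    ext i j
    rw [LinearMap.BilinForm.toMatrix_apply]
    rfl
  rw [hGP] at s1
  rw [hGP'] at s2
  have hc1 : ((minusQ (d - 1) F a b).comp
      (LinearMap.BilinForm.orthogonal (QuadraticMap.polarBilin (minusQ (d - 1) F a b)) W).subtype) ⟨ut, hutP⟩ = c :=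
    hutc
  have hc2 : ((minusQ (d - 1) F a b).comp
      (LinearMap.BilinForm.orthogonal (QuadraticMap.polarBilin (minusQ (d - 1) F a b)) W').subtype) ⟨ut', hutP'⟩ = c' :=
    hutc'
  rw [hc1] at s1
  rw [hc2] at s2
  -- comparison of the two bases of `V`
  obtain ⟨s, hs0, hs⟩ := Cfsg.Agent.Lib.Helper44.Gram.gram_det_change b₀' b₀
    (QuadraticMap.polarBilin (minusQ (d - 1) F a b))
  have hDV : (LinearMap.BilinForm.toMatrix b₀
      (QuadraticMap.polarBilin (minusQ (d - 1) F a b))).det ≠ 0 :=
    (LinearMap.BilinForm.nondegenerate_iff_det_ne_zero b₀).1 hBnd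
  rw [hb₀] at hDV
  rw [hb₀, hb₀'] at hs
  obtain ⟨r1, h1⟩ := s1
  obtain ⟨r2, h2'⟩ := s2
  have hε : ((-1 : F) ^ (finrank F L + 1)) * ((-1 : F) ^ (finrank F L + 1)) = 1 := by
    rw [← mul_pow]
    simp
  generalize (Matrix.of fun i j => QuadraticMap.polarBilin (minusQ (d - 1) F a b)
        (((Module.finBasis F W) i : W) : M d → F)
        (((Module.finBasis F W) j : W) : M d → F)).det = w at hs hDV
  generalize (Matrix.of fun i j => QuadraticMap.polarBilin (minusQ (d - 1) F a b)
        ((Module.finBasis F (LinearMap.BilinForm.orthogonal (QuadraticMap.polarBilin (minusQ (d - 1) F a b)) W) i :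
          (LinearMap.BilinForm.orthogonal (QuadraticMap.polarBilin (minusQ (d - 1) F a b)) W)) : M d → F)
        ((Module.finBasis F (LinearMap.BilinForm.orthogonal (QuadraticMap.polarBilin (minusQ (d - 1) F a b)) W) j :
          (LinearMap.BilinForm.orthogonal (QuadraticMap.polarBilin (minusQ (d - 1) F a b)) W)) : M d → F)).det = p₁
    at hs hDV h1
  generalize (Matrix.of fun i j => QuadraticMap.polarBilin (minusQ (d - 1) F a b)
        ((Module.finBasis F (LinearMap.BilinForm.orthogonal (QuadraticMap.polarBilin (minusQ (d - 1) F a b)) W') i :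
          (LinearMap.BilinForm.orthogonal (QuadraticMap.polarBilin (minusQ (d - 1) F a b)) W')) : M d → F)
        ((Module.finBasis F (LinearMap.BilinForm.orthogonal (QuadraticMap.polarBilin (minusQ (d - 1) F a b)) W') j :
          (LinearMap.BilinForm.orthogonal (QuadraticMap.polarBilin (minusQ (d - 1) F a b)) W')) : M d → F)).det = p₂
    at hs h2'
  have hw : w ≠ 0 := fun h => hDV (by rw [h, zero_mul])
  have hp1 : p₁ ≠ 0 := fun h => hDV (by rw [h, mul_zero])
  have hp : p₂ = s ^ 2 * p₁ := by
    apply mul_left_cancel₀ hw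
    rw [hs]
    ring
  rw [hp] at h2'
  have hD2 : (2 * s * p₁) ≠ 0 := mul_ne_zero (mul_ne_zero h2 hs0) hp1
  refine ⟨r1 * r2 / (2 * s * p₁), ?_⟩
  rw [div_mul_div_comm, eq_div_iff (mul_ne_zero hD2 hD2)]
  linear_combination ((-1 : F) ^ (finrank F L + 1) * (s ^ 2 * p₁ * -(2 * c'))) * h1 +
    (r1 * r1) * h2' + (-(4 * s ^ 2 * p₁ * p₁ * c * c')) * hε

end Cfsg.Agent.Lib.Helper6.OMiCLS2
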