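import Mathlib
import Cfsg.Agent.Lib.Helper44.PGStmt
import Cfsg.Agent.Lib.Helper44.BCFin
import Cfsg.Agent.Lib.Helper44.NegPairs
import Cfsg.Agent.Lib.Helper44.ODet
import Cfsg.Agent.Lib.Helper6.BCDetOne

set_option autoImplicit false

/-! Piece [BNEC4] of S2474: necessity for `2 * r` in `Ω(2n+1, q)`. -/

namespace Cfsg.Agent.Lib.Helper6.PGBNEC4

open Matrix Polynomial
open Cfsg.Agent.Lib.Helper44.QSpace Cfsg.Agent.Lib.Helper44.OGroup Cfsg.Agent.Lib.Helper44.OMat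
open Cfsg.Agent.Lib.Helper44.OExt Cfsg.Agent.Lib.Helper40.RecipPoly
open Cfsg.Agent.Lib.Helper44.BCStmt Cfsg.Agent.Lib.Helper44.PGStmt

universe u

/-- the order of `q` modulo `r` from `Tor q n r` and the failure of `CritII` -/
theorem ord_cases (q n r : ℕ) (hr : r.Prime) (hr2 : r ≠ 2) (hn : 1 ≤ n) (hq : 1 ≤ q)
    (hno : ∀ k : ℕ, 1 ≤ k → k + 1 ≤ n → ¬ Tor q k r) (hT : Tor q n r) :
    (r ∣ q ^ n + 1 ∧ orderOf ((q : ℕ) : ZMod r) = 2 * n) ∨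
    (r ∣ q ^ n - 1 ∧ orderOf ((q : ℕ) : ZMod r) = n ∧ Odd n) := by
  haveI : Fact r.Prime := ⟨hr⟩
  obtain ⟨a, ha⟩ : ∃ a : ZMod r, a = ((q : ℕ) : ZMod r) := ⟨_, rfl⟩
  rw [← ha]
  have hm1 : ∀ k : ℕ, r ∣ q ^ k - 1 ↔ a ^ k = 1 := by
    intro k
    have h1 : 1 ≤ q ^ k := Nat.one_le_pow _ _ hq
    rw [← ZMod.natCast_eq_zero_iff, Nat.cast_sub h1, Nat.cast_pow, Nat.cast_one, sub_eq_zero, ha]
  have hp1 : ∀ k : ℕ, r ∣ q ^ k + 1 ↔ a ^ k = -1 := by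
    intro k
    rw [← ZMod.natCast_eq_zero_iff, Nat.cast_add, Nat.cast_pow, Nat.cast_one,
      add_eq_zero_iff_eq_neg, ha]
  have hneg : (-1 : ZMod r) ≠ 1 := by
    intro h
    have h2 : ((2 : ℕ) : ZMod r) = 0 := by
      have h3 : (1 : ZMod r) + 1 = 0 := by
        nth_rewrite 1 [← h]
        ring
      rw [← h3]
      norm_num
    rw [ZMod.natCast_eq_zero_iff] at h2
    exact hr2 ((Nat.prime_dvd_prime_iff_eq hr Nat.prime_two).1 h2)
  have hno1 : ∀ k : ℕ, 1 ≤ k → k + 1 ≤ n → a ^ k ≠ 1 :=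
    fun k h1 h2 h3 => hno k h1 h2 (Or.inl ((hm1 k).2 h3))
  have hno2 : ∀ k : ℕ, 1 ≤ k → k + 1 ≤ n → a ^ k ≠ -1 :=
    fun k h1 h2 h3 => hno k h1 h2 (Or.inr ((hp1 k).2 h3))
  obtain ⟨d, hd⟩ : ∃ d : ℕ, d = orderOf a := ⟨_, rfl⟩
  rw [← hd]
  have hdpow : a ^ d = 1 := by rw [hd]; exact pow_orderOf_eq_one a
  have hddvd : ∀ k : ℕ, a ^ k = 1 → d ∣ k := fun k hk => by
    rw [hd]; exact orderOf_dvd_of_pow_eq_one hk
  rcases hT with hT | hT
  · right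
    have han : a ^ n = 1 := (hm1 n).1 hT
    have hdn : d ∣ n := hddvd n han
    have hdpos : 0 < d := Nat.pos_of_dvd_of_pos hdn hn
    have hdle : d ≤ n := Nat.le_of_dvd hn hdn
    have hdeq : d = n := by
      by_contra hne
      exact hno1 d hdpos (by omega) hdpow
    refine ⟨hT, hdeq, ?_⟩
    by_contra hodd
    rw [Nat.not_odd_iff_even] at hodd
    obtain ⟨m, hm⟩ := hodd
    have h1 : a ^ m * a ^ m = 1 := by rw [← pow_add, ← hm]; exact han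
    rcases mul_self_eq_one_iff.1 h1 with h | h
    · exact hno1 m (by omega) (by omega) h
    · exact hno2 m (by omega) (by omega) h
  · left
    have han : a ^ n = -1 := (hp1 n).1 hT
    have han2 : a ^ (2 * n) = 1 := by
      rw [mul_comm, pow_mul, han]; ring
    have hd2n : d ∣ 2 * n := hddvd _ han2
    have hdpos : 0 < d := Nat.pos_of_dvd_of_pos hd2n (by omega)
    have hdn : ¬ d ∣ n := by
      intro h
      obtain ⟨c, hc⟩ := h
      have h3 : a ^ n = 1 := by rw [hc, pow_mul, hdpow, one_pow]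
      rw [han] at h3
      exact hneg h3
    refine ⟨hT, ?_⟩
    by_contra hne
    have hdeven : Even d := by
      by_contra hodd
      rw [Nat.not_even_iff_odd] at hodd
      exact hdn (Nat.Coprime.dvd_of_dvd_mul_left (Nat.coprime_two_right.2 hodd) hd2n)
    obtain ⟨e, he⟩ := hdeven
    have hen : e ∣ n := by
      have h3 : 2 * e ∣ 2 * n := by rw [two_mul, ← he]; exact hd2n
      exact (Nat.mul_dvd_mul_iff_left (by norm_num)).1 h3
    have hele : e ≤ n := Nat.le_of_dvd hn hen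
    have hepos : 0 < e := by omega
    have hene : e ≠ n := by
      intro h; apply hne; omega
    have h1 : a ^ e * a ^ e = 1 := by rw [← pow_add, ← he]; exact hdpow
    rcases mul_self_eq_one_iff.1 h1 with h | h
    · have h3 : d ∣ e := hddvd _ h
      have h4 := Nat.le_of_dvd hepos h3
      omega
    · exact hno2 e hepos (by omega) h

theorem parity_aux (A M : ℕ) (hA : Odd A) (hM : Even M) (h4 : ¬ 4 ∣ M) :
    2 ^ (0 + 1) ∣ A * M ∧ Odd (A * M / 2 ^ (0 + 1)) := by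
  obtain ⟨c, hc⟩ := hM
  have hcodd : Odd c := by
    by_contra h
    rw [Nat.not_odd_iff_even] at h
    obtain ⟨d, hd⟩ := h
    exact h4 ⟨d, by omega⟩
  have e : A * M = 2 ^ (0 + 1) * (A * c) := by rw [hc]; ring
  rw [e]
  refine ⟨dvd_mul_right _ _, ?_⟩
  rw [Nat.mul_div_cancel_left _ (by norm_num)]
  exact hA.mul hcodd

theorem one_of_det_one {F : Type u} [Field F] (A : Matrix (Fin 1) (Fin 1) F) (h : A.det = 1) :
    A = 1 := by
  rw [Matrix.det_fin_one] at h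
  ext i j
  fin_cases i
  fin_cases j
  simpa using h

theorem core (hDec : Decomp.{u}) (hBD : BlockDiag.{u}) (hBF : BlockFacts.{u})
    (hBDet : BlockDet.{u}) (hTB : GTorBound.{u})
    (hEC : Cfsg.Agent.Lib.Helper44.SPStmt.EvenCard.{u}) (hTr : Transfer.{u}) (hSO : SignOdd.{u})
    (hCnt : Count1.{u}) (hCntP : Count1Plus.{u})
    (F : Type u) [Field F] [Fintype F] (p : ℕ) [Fact p.Prime] [CharP F p] (hp2 : p ≠ 2)
    (n : ℕ) (hn : 3 ≤ n) (r : ℕ) (hr : r.Prime) (hr2 : r ≠ 2) (hrp : r ≠ p)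
    (hno : ∀ k : ℕ, 1 ≤ k → k + 1 ≤ n → ¬ Tor (Fintype.card F) k r)
    (ι : Type) [Fintype ι] [DecidableEq ι] (hcard : Fintype.card ι = 2 * n + 1)
    (Q : QuadraticForm F (ι → F)) (hS : Sep Q)
    (h : ↥(Cfsg.isometryGroup F ⇑Q)) (hmem : h ∈ Cfsg.Omega F ⇑Q) (hord : orderOf h = 2 * r) :
    Tor (Fintype.card F) n (4 * r) := by
  classical
  have hp : p.Prime := Fact.out
  have h2 : (2 : F) ≠ 0 := by
    intro h0
    have h0' : ((2 : ℕ) : F) = 0 := by exact_mod_cast h0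
    rw [CharP.cast_eq_zero_iff F p] at h0'
    exact hp2 ((Nat.prime_dvd_prime_iff_eq hp Nat.prime_two).1 h0')
  obtain ⟨q, hq⟩ : ∃ q : ℕ, q = Fintype.card F := ⟨_, rfl⟩
  rw [← hq] at hno ⊢
  have hqodd : Odd q := by
    obtain ⟨k, -, hk⟩ := FiniteField.card F p
    rw [hq, hk]
    exact (hp.odd_of_ne_two hp2).pow
  have hqpos : 1 ≤ q := hqodd.pos
  have hrF : ((r : ℕ) : F) ≠ 0 := by
    intro h0
    rw [CharP.cast_eq_zero_iff F p] at h0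
    exact hrp ((Nat.prime_dvd_prime_iff_eq hp hr).1 h0).symm
  have hrodd : Odd r := hr.odd_of_ne_two hr2
  have hr3 : 2 < r := lt_of_le_of_ne hr.two_le (Ne.symm hr2)
  obtain ⟨Hm, hHm⟩ : ∃ Hm : Matrix ι ι F, Hm = ((h : GL ι F) : Matrix ι ι F) := ⟨_, rfl⟩
  have hpow : ∀ k : ℕ, h ^ k = 1 ↔ Hm ^ k = 1 := fun k => by
    rw [hHm]; exact Cfsg.Agent.Lib.Helper44.BCFin.pow_eq_one_iff_mat _ h k
  have hHQ : ∀ x, Q (Hm *ᵥ x) = Q x := fun x => by rw [hHm]; exact h.2 x x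
  have hHpowQ : ∀ (k : ℕ) x, Q ((Hm ^ k) *ᵥ x) = Q x := by
    intro k
    induction k with
    | zero => intro x; simp
    | succ k ih => intro x; rw [pow_succ, ← Matrix.mulVec_mulVec, ih, hHQ]
  have hdvd : ∀ k : ℕ, Hm ^ k = 1 ↔ 2 * r ∣ k := by
    intro k; rw [← hpow, ← hord]; exact orderOf_dvd_iff_pow_eq_one.symm
  obtain ⟨Tm, hTm⟩ : ∃ Tm : Matrix ι ι F, Tm = Hm ^ 2 := ⟨_, rfl⟩
  obtain ⟨tm, htm⟩ : ∃ tm : Matrix ι ι F, tm = Hm ^ r := ⟨_, rfl⟩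
  have hTpow : ∀ j : ℕ, Tm ^ j = 1 ↔ r ∣ j := by
    intro j; rw [hTm, ← pow_mul, hdvd]; exact Nat.mul_dvd_mul_iff_left (by norm_num)
  have htpow : ∀ j : ℕ, tm ^ j = 1 ↔ 2 ∣ j := by
    intro j; rw [htm, ← pow_mul, hdvd, mul_comm 2 r]; exact Nat.mul_dvd_mul_iff_left hr.pos
  have hTr1 : Tm ^ r = 1 := (hTpow r).2 dvd_rfl
  have hTQ : ∀ x, Q (Tm *ᵥ x) = Q x := by rw [hTm]; exact hHpowQ 2
  have htQ : ∀ x, Q (tm *ᵥ x) = Q x := by rw [htm]; exact hHpowQ r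
  have htT : tm * Tm = Tm * tm := by rw [htm, hTm]; exact (Commute.pow_pow_self Hm _ _).eq
  obtain ⟨k₁, k₂, N₁, N₂, T₂, J, hN₁, hN₂, hT₂r, hT₂Q, hT₂fix, hQJ, hTJ⟩ :=
    hDec F ι Q h2 hS Tm r hr.pos hrF hTr1 hTQ
  have hk : k₁ + k₂ = 2 * n + 1 := by
    have h3 := J.finrank_eq
    rw [Module.finrank_fintype_fun_eq_card, Module.finrank_fintype_fun_eq_card, Fintype.card_sum,
      Fintype.card_fin, Fintype.card_fin, hcard] at h3
    exact h3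
  have hTJ1 : ∀ u : Fin k₁ ⊕ Fin k₂ → F, Tm *ᵥ (J u) =
      J (Sum.elim ((1 : Matrix (Fin k₁) (Fin k₁) F) *ᵥ (u ∘ Sum.inl))
        (T₂ *ᵥ (u ∘ Sum.inr))) := by
    intro u
    rw [Matrix.one_mulVec]
    exact hTJ u
  obtain ⟨hTpowB, -, -⟩ := hBF F ι k₁ k₂ J Tm 1 T₂ hTJ1
  have hT₂pow : ∀ j : ℕ, T₂ ^ j = 1 ↔ r ∣ j := by
    intro j
    rw [← hTpow j, hTpowB j]
    simp
  have hk₂pos : 0 < k₂ := by
    rcases Nat.eq_zero_or_pos k₂ with h0 | h0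
    · exfalso
      subst h0
      have h1 : T₂ ^ 1 = 1 := Subsingleton.elim _ _
      rw [hT₂pow] at h1
      exact hr.one_lt.ne' (Nat.dvd_one.1 h1)
    · exact h0
  have hT₂G : T₂ᵀ * (N₂ + N₂ᵀ) * T₂ = N₂ + N₂ᵀ :=
    Cfsg.Agent.Lib.Helper6.BCDetOne.gram_isom N₂ T₂ hT₂Q
  obtain ⟨ka, hka1, hka2, hkaT⟩ := hTB F (Fin k₂) (N₂ + N₂ᵀ) T₂ r
    (by rw [Fintype.card_fin]; exact hk₂pos) hN₂ hT₂G hr3 hT₂r
    (by
      intro ℓ hℓ hℓr v hv
      have hℓ' : ℓ = r := (Nat.prime_dvd_prime_iff_eq hℓ hr).1 hℓr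
      rw [hℓ', Nat.div_self hr.pos, pow_one] at hv
      exact hT₂fix v hv)
  rw [Fintype.card_fin] at hka2
  rw [← hq] at hkaT
  have hkan : n ≤ ka := by
    by_contra hlt
    exact hno ka hka1 (by omega) hkaT
  have hkaeq : ka = n := by omega
  rw [hkaeq] at hkaT
  have hk₂even : Even k₂ := by
    have hdet2 : ((N₂ + N₂ᵀ) + (N₂ + N₂ᵀ)ᵀ).det ≠ 0 := by
      have e : (N₂ + N₂ᵀ) + (N₂ + N₂ᵀ)ᵀ = (2 : F) • (N₂ + N₂ᵀ) := by
        rw [Matrix.transpose_add, Matrix.transpose_transpose, two_smul]; abel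
      rw [e, Matrix.det_smul]
      exact mul_ne_zero (pow_ne_zero _ h2) hN₂
    have h3 := hEC F (Fin k₂) T₂ (N₂ + N₂ᵀ) h2 hT₂G hdet2 r hrodd hT₂r hT₂fix
    rwa [Fintype.card_fin] at h3
  obtain ⟨c, hc⟩ := hk₂even
  have hk₂ : k₂ = 2 * n := by omega
  have hk₁ : k₁ = 1 := by omega
  subst hk₂
  subst hk₁
  obtain ⟨t₁, t₂, htJ, ht₂T⟩ := hBD F ι Tm tm 1 (2 * n) T₂ J hT₂fix hTJ htT
  obtain ⟨htp, -, hti⟩ := hBF F ι 1 (2 * n) J tm t₁ t₂ htJ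
  obtain ⟨ht₁Q, ht₂Q⟩ := hti Q N₁ N₂ hQJ htQ
  obtain ⟨ht₁2, ht₂2⟩ := (htp 2).1 ((htpow 2).2 dvd_rfl)
  -- second decomposition, for `t₂`
  obtain ⟨a, b, Na, Nb, S₂, J₂, hNa, hNb, hS₂2, hS₂Q, hS₂fix, hQJ₂, htJ₂⟩ :=
    hDec F (Fin (2 * n)) (qN N₂) h2 (sep_qN hN₂) t₂ 2 (by norm_num) (by exact_mod_cast h2)
      ht₂2 ht₂Q
  have hab : a + b = 2 * n := by
    have h3 := J₂.finrank_eq
    rw [Module.finrank_fintype_fun_eq_card, Module.finrank_fintype_fun_eq_card, Fintype.card_sum,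
      Fintype.card_fin, Fintype.card_fin, Fintype.card_fin] at h3
    exact h3
  obtain ⟨Ta, Tb, hT₂J₂, -⟩ := hBD F (Fin (2 * n)) t₂ T₂ a b S₂ J₂ hS₂fix htJ₂ ht₂T.symm
  obtain ⟨hT₂p, -, hT₂i⟩ := hBF F (Fin (2 * n)) a b J₂ T₂ Ta Tb hT₂J₂
  obtain ⟨hTaQ, hTbQ⟩ := hT₂i (qN N₂) Na Nb hQJ₂ hT₂Q
  obtain ⟨hTar, hTbr⟩ := (hT₂p r).1 hT₂r
  have hTafix : ∀ v : Fin a → F, Ta *ᵥ v = v → v = 0 := by
    intro v hv
    have h3 : T₂ *ᵥ (J₂ (Sum.elim v 0)) = J₂ (Sum.elim v 0) := by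
      rw [hT₂J₂, Sum.elim_comp_inl, Sum.elim_comp_inr, hv, Matrix.mulVec_zero]
    have h4 := hT₂fix _ h3
    have h5 : Sum.elim v (0 : Fin b → F) = 0 := J₂.injective (h4.trans (map_zero J₂).symm)
    funext i
    have h6 := congrFun h5 (Sum.inl i)
    rw [Sum.elim_inl] at h6
    exact h6
  have hab0 : b = 0 ∨ a = 0 := by
    rcases Nat.eq_zero_or_pos a with ha | ha
    · exact Or.inr ha
    · left
      have hTaG := Cfsg.Agent.Lib.Helper6.BCDetOne.gram_isom Na Ta hTaQ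
      obtain ⟨kb, hkb1, hkb2, hkbT⟩ := hTB F (Fin a) (Na + Naᵀ) Ta r
        (by rw [Fintype.card_fin]; exact ha) hNa hTaG hr3 hTar
        (by
          intro ℓ hℓ hℓr v hv
          have hℓ' : ℓ = r := (Nat.prime_dvd_prime_iff_eq hℓ hr).1 hℓr
          rw [hℓ', Nat.div_self hr.pos, pow_one] at hv
          exact hTafix v hv)
      rw [Fintype.card_fin] at hkb2
      rw [← hq] at hkbT
      have hkbn : n ≤ kb := by
        by_contra hlt
        exact hno kb hkb1 (by omega) hkbT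
      omega
  have ht₂cases : t₂ = 1 ∨ t₂ = -1 := by
    rcases hab0 with hb | ha
    · left
      subst hb
      apply matrix_ext_mulVec
      intro x
      obtain ⟨y, rfl⟩ := J₂.surjective x
      rw [htJ₂, Matrix.one_mulVec]
      congr 1
      funext i
      rcases i with i | i
      · rfl
      · exact i.elim0
    · right
      subst ha
      have hS₂neg : ∀ w : Fin b → F, S₂ *ᵥ w = -w := by
        intro w
        have h3 : S₂ *ᵥ (S₂ *ᵥ w + w) = S₂ *ᵥ w + w := by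
          rw [Matrix.mulVec_add, Matrix.mulVec_mulVec, ← sq, hS₂2, Matrix.one_mulVec, add_comm]
        have h4 := hS₂fix _ h3
        exact eq_neg_of_add_eq_zero_left h4
      apply matrix_ext_mulVec
      intro x
      obtain ⟨y, rfl⟩ := J₂.surjective x
      rw [htJ₂, Matrix.neg_mulVec, Matrix.one_mulVec, hS₂neg, ← map_neg]
      congr 1
      funext i
      rcases i with i | i
      · exact i.elim0
      · rfl
  have htdet : tm.det = t₁.det * t₂.det := hBDet F ι tm 1 (2 * n) t₁ t₂ J htJ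
  have htmem : h ^ r ∈ Cfsg.Omega F ⇑Q := Subgroup.pow_mem _ hmem r
  have htm' : (((h ^ r : ↥(Cfsg.isometryGroup F ⇑Q)) : GL ι F) : Matrix ι ι F) = tm := by
    rw [Cfsg.Agent.Lib.Helper44.BCFin.mat_pow, ← hHm, htm]
  have htdet1 : tm.det = 1 := by
    have h1 := Cfsg.Agent.Lib.Helper44.ODet.omega_le_special Q htmem
    unfold Cfsg.specialIsometryGroup at h1
    rw [MonoidHom.mem_ker] at h1
    have h2' := congrArg (fun z : Fˣ => (z : F)) h1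
    simp only [MonoidHom.comp_apply, Subgroup.subtype_apply,
      Matrix.GeneralLinearGroup.val_det_apply, Units.val_one] at h2'
    rw [← htm']; exact h2'
  have ht₂neg : t₂ = -1 := by
    rcases ht₂cases with h1 | h1
    · exfalso
      rw [htdet, h1, Matrix.det_one, mul_one] at htdet1
      have h3 : t₁ = 1 := one_of_det_one t₁ htdet1
      have h4 : tm ^ 1 = 1 := (htp 1).2 ⟨by rw [h3, one_pow], by rw [h1, one_pow]⟩
      rw [htpow] at h4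
      omega
    · exact h1
  have ht₁ : t₁ = 1 := by
    apply one_of_det_one
    rw [htdet, ht₂neg, Matrix.det_neg, Matrix.det_one, Fintype.card_fin, pow_mul, neg_one_sq,
      one_pow, mul_one, mul_one] at htdet1
    exact htdet1
  have hinv : t₂ * t₂ = 1 := by rw [← sq]; exact ht₂2
  obtain ⟨s₂, hs₂mat⟩ : ∃ s₂ : ↥(Cfsg.isometryGroup F ⇑(qN N₂)),
      ((s₂ : GL (Fin (2 * n)) F) : Matrix (Fin (2 * n)) (Fin (2 * n)) F) = t₂ :=
    ⟨⟨⟨t₂, t₂, hinv, hinv⟩, fun u _ => ht₂Q u⟩, rfl⟩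
  have hs₂mem : s₂ ∈ Cfsg.Omega F ⇑(qN N₂) := by
    refine hTr F ι Q h2 hS 1 (2 * n) N₁ N₂ J hN₂ (by omega) hQJ (h ^ r) s₂ ?_ htmem
    intro u
    rw [htm', hs₂mat, htJ, ht₁, Matrix.one_mulVec]
  have hg1 : s₂ ^ (2 ^ (0 + 1)) = 1 := by
    rw [Cfsg.Agent.Lib.Helper44.BCFin.pow_eq_one_iff_mat, hs₂mat]
    simpa using ht₂2
  have hgmat : (((s₂ ^ (2 ^ 0) : ↥(Cfsg.isometryGroup F ⇑(qN N₂))) : GL (Fin (2 * n)) F) :
      Matrix (Fin (2 * n)) (Fin (2 * n)) F) = -1 := by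
    rw [Cfsg.Agent.Lib.Helper44.BCFin.mat_pow, hs₂mat, pow_zero, pow_one]
    exact ht₂neg
  have h4r : Nat.Coprime 4 r := by
    have h3 : Nat.Coprime 2 r := Nat.coprime_two_left.2 hrodd
    exact Nat.Coprime.pow_left 2 h3
  rcases ord_cases q n r hr hr2 (by omega) hqpos hno hkaT with ⟨hrd, hro⟩ | ⟨hrd, hro, hnodd⟩
  · right
    have hcnt := hCnt F p r n h2 hr hr2 hrp (by rw [← hq]; exact hro) (by omega) (Fin (2 * n))
      N₂ T₂ (by simp) hN₂ hT₂Q hT₂r hT₂fix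
    rw [← hq] at hcnt
    have h4 : 4 ∣ q ^ n + 1 := by
      by_contra h4
      have hMeven : Even (q ^ n + 1) := Odd.add_one (hqodd.pow)
      obtain ⟨hd2, hodd⟩ := parity_aux (q ^ (n - 1)) (q ^ n + 1) (hqodd.pow) hMeven h4
      rw [← hcnt] at hd2 hodd
      exact hSO F (Fin (2 * n)) (qN N₂) h2 s₂ 0 hg1 hgmat hd2 hodd hs₂mem
    exact Nat.Coprime.mul_dvd_of_dvd_of_dvd h4r h4 hrd
  · left
    have hcnt := hCntP F p r n h2 hr hr2 hrp (by rw [← hq]; exact hro) hnodd (Fin (2 * n))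
      N₂ T₂ (by simp) hN₂ hT₂Q hT₂r hT₂fix
    rw [← hq] at hcnt
    have h4 : 4 ∣ q ^ n - 1 := by
      by_contra h4
      have hMeven : Even (q ^ n - 1) := Nat.Odd.sub_odd (hqodd.pow) odd_one
      obtain ⟨hd2, hodd⟩ := parity_aux (q ^ (n - 1)) (q ^ n - 1) (hqodd.pow) hMeven h4
      rw [← hcnt] at hd2 hodd
      exact hSO F (Fin (2 * n)) (qN N₂) h2 s₂ 0 hg1 hgmat hd2 hodd hs₂mem
    exact Nat.Coprime.mul_dvd_of_dvd_of_dvd h4r h4 hrd

theorem main (hDec : Decomp.{u}) (hBD : BlockDiag.{u}) (hBF : BlockFacts.{u})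
    (hBDet : BlockDet.{u}) (hTB : GTorBound.{u})
    (hEC : Cfsg.Agent.Lib.Helper44.SPStmt.EvenCard.{u}) (hTr : Transfer.{u}) (hSO : SignOdd.{u})
    (hCnt : Count1.{u}) (hCntP : Count1Plus.{u}) : BNecIV.{u} := by
  intro F _ _ p _ _ hp2 n hn r hr hr2 hrp hHas
  classical
  by_cases hC2 : CritII (Fintype.card F) n r
  · exact Or.inl hC2
  right
  have hp : p.Prime := Fact.out
  have h2 : (2 : F) ≠ 0 := by
    intro h0
    have h0' : ((2 : ℕ) : F) = 0 := by exact_mod_cast h0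
    rw [CharP.cast_eq_zero_iff F p] at h0'
    exact hp2 ((Nat.prime_dvd_prime_iff_eq hp Nat.prime_two).1 h0')
  have hno : ∀ k : ℕ, 1 ≤ k → k + 1 ≤ n → ¬ Tor (Fintype.card F) k r :=
    fun k h1 h2 h3 => hC2 ⟨k, h1, h2, h3⟩
  obtain ⟨h, hmem, hord⟩ := hHas
  have hcard : Fintype.card (Unit ⊕ (Fin n ⊕ Fin n)) = 2 * n + 1 := by
    simp; omega
  exact core hDec hBD hBF hBDet hTB hEC hTr hSO hCnt hCntP F p hp2 n hn r hr hr2 hrp hno _ hcard
    (Cfsg.Agent.Lib.Helper44.NegPairs.oddQ n F)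
    (Cfsg.Agent.Lib.Helper44.NegPairs.sep_oddQ h2 n) h hmem hord

end Cfsg.Agent.Lib.Helper6.PGBNEC4
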