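import Mathlib
import Cfsg.Agent.Lib.Helper44.PGStmt

set_option autoImplicit false

/-! Piece [GNEC1] of S2474: necessity for `r * s` at Gram-matrix level. -/

namespace Cfsg.Agent.Lib.Helper6.PGGNEC1

open Matrix Polynomial
open Cfsg.Agent.Lib.Helper44.QSpace Cfsg.Agent.Lib.Helper44.OGroup Cfsg.Agent.Lib.Helper44.OMat
open Cfsg.Agent.Lib.Helper44.OExt Cfsg.Agent.Lib.Helper40.RecipPoly
open Cfsg.Agent.Lib.Helper44.BCStmt Cfsg.Agent.Lib.Helper44.PGStmt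

universe u

theorem iso_pow {F : Type u} [Field F] {ι : Type} [Fintype ι] [DecidableEq ι]
    (G x : Matrix ι ι F) (h : xᵀ * G * x = G) (k : ℕ) : (x ^ k)ᵀ * G * x ^ k = G := by
  induction k with
  | zero => simp
  | succ k ih =>
    rw [pow_succ, Matrix.transpose_mul]
    calc xᵀ * (x ^ k)ᵀ * G * (x ^ k * x) = xᵀ * ((x ^ k)ᵀ * G * x ^ k) * x := by
          simp only [Matrix.mul_assoc]
      _ = G := by rw [ih, h]

theorem fix_of_pow_fix {F : Type u} [Field F] {κ : Type} [Fintype κ] [DecidableEq κ]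
    (M : Matrix κ κ F) (m n : ℕ) (hn : 1 < n) (hco : Nat.Coprime m n) (hM : M ^ n = 1)
    (v : κ → F) (hv : (M ^ m) *ᵥ v = v) : M *ᵥ v = v := by
  obtain ⟨a, -, ha⟩ := Nat.exists_mul_mod_eq_one_of_coprime hco hn
  have h1 : ∀ j : ℕ, ((M ^ m) ^ j) *ᵥ v = v := by
    intro j
    induction j with
    | zero => simp
    | succ j ih => rw [pow_succ, ← Matrix.mulVec_mulVec, hv, ih]
  have h2 : (M ^ m) ^ a = M := by
    rw [← pow_mul]
    have h3 : m * a = n * (m * a / n) + 1 := by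
      have := Nat.div_add_mod (m * a) n
      omega
    rw [h3, pow_add, pow_mul, hM, one_pow, one_mul, pow_one]
  have h4 := h1 a
  rwa [h2] at h4

theorem main (hGD : GDecomp.{u}) (hBD : BlockDiag.{u}) (hBF : BlockFacts.{u})
    (hGBF : GBlockFacts.{u}) (hPT : PrimeTor.{u}) (hTB : GTorBound.{u}) : GNecI.{u} := by
  intro F _ _ p _ _ ι _ _ G x r s h2 hG hx hr hs hrs hr2 hs2 hrp hsp hord
  classical
  have hp : p.Prime := Fact.out
  have hrF : ((r : ℕ) : F) ≠ 0 := by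
    intro h0
    rw [CharP.cast_eq_zero_iff F p] at h0
    exact hrp ((Nat.prime_dvd_prime_iff_eq hp hr).1 h0).symm
  have hsF : ((s : ℕ) : F) ≠ 0 := by
    intro h0
    rw [CharP.cast_eq_zero_iff F p] at h0
    exact hsp ((Nat.prime_dvd_prime_iff_eq hp hs).1 h0).symm
  have hr3 : 2 < r := lt_of_le_of_ne hr.two_le (Ne.symm hr2)
  have hs3 : 2 < s := lt_of_le_of_ne hs.two_le (Ne.symm hs2)
  obtain ⟨T, hT⟩ : ∃ T : Matrix ι ι F, T = x ^ s := ⟨_, rfl⟩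
  obtain ⟨Y, hY⟩ : ∃ Y : Matrix ι ι F, Y = x ^ r := ⟨_, rfl⟩
  have hTpow : ∀ j : ℕ, T ^ j = 1 ↔ r ∣ j := by
    intro j
    rw [hT, ← pow_mul, hord, mul_comm r s]
    exact Nat.mul_dvd_mul_iff_left hs.pos
  have hYpow : ∀ j : ℕ, Y ^ j = 1 ↔ s ∣ j := by
    intro j
    rw [hY, ← pow_mul, hord]
    exact Nat.mul_dvd_mul_iff_left hr.pos
  have hTG : Tᵀ * G * T = G := by rw [hT]; exact iso_pow G x hx s
  have hYG : Yᵀ * G * Y = G := by rw [hY]; exact iso_pow G x hx r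
  have hYT : Y * T = T * Y := by rw [hY, hT]; exact (Commute.pow_pow_self x _ _).eq
  have hTr : T ^ r = 1 := (hTpow r).2 dvd_rfl
  have hYs : Y ^ s = 1 := (hYpow s).2 dvd_rfl
  -- first decomposition (for `T`)
  obtain ⟨k₁, k₂, G₁, G₂, T₂, J, hG₁, hG₂, hT₂G, hT₂r, hT₂fix, hBJ, hTJ, -, -⟩ :=
    hGD F ι G T r hG hTG hr.pos hrF hTr
  have hk : k₁ + k₂ = Fintype.card ι := by
    have h3 := J.finrank_eq
    rw [Module.finrank_fintype_fun_eq_card, Module.finrank_fintype_fun_eq_card, Fintype.card_sum,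
      Fintype.card_fin, Fintype.card_fin] at h3
    exact h3
  obtain ⟨Y₁, Y₂, hYJ, hY₂T₂⟩ := hBD F ι T Y k₁ k₂ T₂ J hT₂fix hTJ hYT
  obtain ⟨hY₁G, hY₂G⟩ := hGBF F ι k₁ k₂ J G Y G₁ Y₁ G₂ Y₂ hBJ hYJ hYG
  obtain ⟨hYpowB, -, -⟩ := hBF F ι k₁ k₂ J Y Y₁ Y₂ hYJ
  have hTJ1 : ∀ u : Fin k₁ ⊕ Fin k₂ → F, T *ᵥ (J u) =
      J (Sum.elim ((1 : Matrix (Fin k₁) (Fin k₁) F) *ᵥ (u ∘ Sum.inl))
        (T₂ *ᵥ (u ∘ Sum.inr))) := by
    intro u
    rw [Matrix.one_mulVec]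
    exact hTJ u
  obtain ⟨hTpowB, -, -⟩ := hBF F ι k₁ k₂ J T 1 T₂ hTJ1
  have hT₂pow : ∀ j : ℕ, T₂ ^ j = 1 ↔ r ∣ j := by
    intro j
    rw [← hTpow j, hTpowB j]
    simp
  have hk₂pos : 0 < k₂ := by
    rcases Nat.eq_zero_or_pos k₂ with h0 | h0
    · exfalso
      subst h0
      have h1 : T₂ ^ 1 = 1 := Subsingleton.elim _ _
      rw [hT₂pow] at h1
      exact hr.one_lt.ne' (Nat.dvd_one.1 h1)
    · exact h0
  obtain ⟨ka, hka1, hka2, hkaT⟩ := hTB F (Fin k₂) G₂ T₂ r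
    (by rw [Fintype.card_fin]; exact hk₂pos) hG₂ hT₂G hr3 hT₂r
    (by
      intro ℓ hℓ hℓr v hv
      have hℓ' : ℓ = r := (Nat.prime_dvd_prime_iff_eq hℓ hr).1 hℓr
      rw [hℓ', Nat.div_self hr.pos, pow_one] at hv
      exact hT₂fix v hv)
  rw [Fintype.card_fin] at hka2
  by_cases hY₁ : Y₁ = 1
  swap
  · have hY₁s : Y₁ ^ s = 1 := ((hYpowB s).1 hYs).1
    obtain ⟨kb, hkb1, hkb2, hkbT⟩ :=
      hPT F p (Fin k₁) G₁ Y₁ s hG₁ hY₁G hs hs2 hsp hY₁s hY₁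
    rw [Fintype.card_fin] at hkb2
    left
    exact ⟨ka, kb, hka1, hkb1, by omega, hkaT, hkbT⟩
  -- second decomposition (for `Y`)
  obtain ⟨k₁', k₂', G₁', G₂', Y₂', J', hG₁', hG₂', hY₂'G, hY₂'s, hY₂'fix, hBJ', hYJ', -, -⟩ :=
    hGD F ι G Y s hG hYG hs.pos hsF hYs
  have hk' : k₁' + k₂' = Fintype.card ι := by
    have h3 := J'.finrank_eq
    rw [Module.finrank_fintype_fun_eq_card, Module.finrank_fintype_fun_eq_card, Fintype.card_sum,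
      Fintype.card_fin, Fintype.card_fin] at h3
    exact h3
  obtain ⟨T₁', T₂', hTJ', hT₂'Y₂'⟩ := hBD F ι Y T k₁' k₂' Y₂' J' hY₂'fix hYJ' hYT.symm
  obtain ⟨hT₁'G, hT₂'G⟩ := hGBF F ι k₁' k₂' J' G T G₁' T₁' G₂' T₂' hBJ' hTJ' hTG
  obtain ⟨hTpowB', -, -⟩ := hBF F ι k₁' k₂' J' T T₁' T₂' hTJ'
  have hYJ1 : ∀ u : Fin k₁' ⊕ Fin k₂' → F, Y *ᵥ (J' u) =
      J' (Sum.elim ((1 : Matrix (Fin k₁') (Fin k₁') F) *ᵥ (u ∘ Sum.inl))
        (Y₂' *ᵥ (u ∘ Sum.inr))) := by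
    intro u
    rw [Matrix.one_mulVec]
    exact hYJ' u
  obtain ⟨hYpowB', -, -⟩ := hBF F ι k₁' k₂' J' Y 1 Y₂' hYJ1
  have hY₂'pow : ∀ j : ℕ, Y₂' ^ j = 1 ↔ s ∣ j := by
    intro j
    rw [← hYpow j, hYpowB' j]
    simp
  have hk₂'pos : 0 < k₂' := by
    rcases Nat.eq_zero_or_pos k₂' with h0 | h0
    · exfalso
      subst h0
      have h1 : Y₂' ^ 1 = 1 := Subsingleton.elim _ _
      rw [hY₂'pow] at h1
      exact hs.one_lt.ne' (Nat.dvd_one.1 h1)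
    · exact h0
  obtain ⟨kc, hkc1, hkc2, hkcT⟩ := hTB F (Fin k₂') G₂' Y₂' s
    (by rw [Fintype.card_fin]; exact hk₂'pos) hG₂' hY₂'G hs3 hY₂'s
    (by
      intro ℓ hℓ hℓs v hv
      have hℓ' : ℓ = s := (Nat.prime_dvd_prime_iff_eq hℓ hs).1 hℓs
      rw [hℓ', Nat.div_self hs.pos, pow_one] at hv
      exact hY₂'fix v hv)
  rw [Fintype.card_fin] at hkc2
  by_cases hT₁' : T₁' = 1
  swap
  · have hT₁'r : T₁' ^ r = 1 := ((hTpowB' r).1 hTr).1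
    obtain ⟨kd, hkd1, hkd2, hkdT⟩ :=
      hPT F p (Fin k₁') G₁' T₁' r hG₁' hT₁'G hr hr2 hrp hT₁'r hT₁'
    rw [Fintype.card_fin] at hkd2
    left
    exact ⟨kd, kc, hkd1, hkc1, by omega, hkdT, hkcT⟩
  right
  -- `Y₂` has no nonzero fixed vector
  have hY₂fix : ∀ w : Fin k₂ → F, Y₂ *ᵥ w = w → w = 0 := by
    intro w hw
    apply hT₂fix
    have hv1 : Y *ᵥ (J (Sum.elim 0 w)) = J (Sum.elim 0 w) := by
      rw [hYJ, Sum.elim_comp_inl, Sum.elim_comp_inr, Matrix.mulVec_zero, hw]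
    obtain ⟨u', hu'⟩ := J'.surjective (J (Sum.elim 0 w))
    rw [← hu', hYJ'] at hv1
    have h5 := J'.injective hv1
    have h6 : Y₂' *ᵥ (u' ∘ Sum.inr) = u' ∘ Sum.inr := by
      funext i
      have h := congrFun h5 (Sum.inr i)
      rw [Sum.elim_inr] at h
      exact h
    have h7 := hY₂'fix _ h6
    have hv2 : T *ᵥ (J (Sum.elim 0 w)) = J (Sum.elim 0 w) := by
      rw [← hu', hTJ', hT₁', Matrix.one_mulVec, h7, Matrix.mulVec_zero]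
      congr 1
      funext i
      rcases i with i | i
      · rfl
      · exact (congrFun h7 i).symm
    rw [hTJ, Sum.elim_comp_inl, Sum.elim_comp_inr] at hv2
    have h8 := J.injective hv2
    funext i
    have h := congrFun h8 (Sum.inr i)
    rw [Sum.elim_inr, Sum.elim_inr] at h
    exact h
  have hcomm : Commute T₂ Y₂ := hY₂T₂.symm
  have hY₂s : Y₂ ^ s = 1 := ((hYpowB s).1 hYs).2
  have hZG : (T₂ * Y₂)ᵀ * G₂ * (T₂ * Y₂) = G₂ := by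
    rw [Matrix.transpose_mul]
    calc Y₂ᵀ * T₂ᵀ * G₂ * (T₂ * Y₂) = Y₂ᵀ * (T₂ᵀ * G₂ * T₂) * Y₂ := by
          simp only [Matrix.mul_assoc]
      _ = G₂ := by rw [hT₂G, hY₂G]
  have hZpow : (T₂ * Y₂) ^ (r * s) = 1 := by
    rw [hcomm.mul_pow, pow_mul, hT₂r, one_pow, one_mul, mul_comm r s, pow_mul, hY₂s, one_pow]
  have hrs2 : 2 < r * s := by nlinarith
  obtain ⟨k, hk1, hk2, hkT⟩ := hTB F (Fin k₂) G₂ (T₂ * Y₂) (r * s)
    (by rw [Fintype.card_fin]; exact hk₂pos) hG₂ hZG hrs2 hZpow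
    (by
      intro ℓ hℓ hℓd v hv
      rcases (Nat.Prime.dvd_mul hℓ).1 hℓd with h | h
      · have hℓ' : ℓ = r := (Nat.prime_dvd_prime_iff_eq hℓ hr).1 h
        rw [hℓ', Nat.mul_div_cancel_left s hr.pos, hcomm.mul_pow, hY₂s, mul_one] at hv
        exact hT₂fix v (fix_of_pow_fix T₂ s r hr.one_lt
          ((Nat.coprime_primes hs hr).2 hrs.symm) hT₂r v hv)
      · have hℓ' : ℓ = s := (Nat.prime_dvd_prime_iff_eq hℓ hs).1 h
        rw [hℓ', Nat.mul_div_cancel r hs.pos, hcomm.mul_pow, hT₂r, one_mul] at hv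
        exact hY₂fix v (fix_of_pow_fix Y₂ r s hs.one_lt
          ((Nat.coprime_primes hr hs).2 hrs) hY₂s v hv))
  rw [Fintype.card_fin] at hk2
  exact ⟨k, hk1, by omega, hkT⟩

end Cfsg.Agent.Lib.Helper6.PGGNEC1
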