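import Mathlib
import Cfsg.Agent.Lib.Helper6.Pg2

/-!
# Maximal subgroups of `PGL(2, q)`, `q` odd: the exceptional case (helper6)

A maximal subgroup `Y` of `Pk k` (not inside `Sk k`, not containing it) of order prime to `p`
whose squares do not commute: `k` is the prime field and `Y / ±1 ≅ S₄`.
-/

set_option autoImplicit false
set_option linter.unusedSimpArgs false
set_option linter.unusedVariables false
set_option linter.unusedSectionVars false
set_option linter.style.haveILetI false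
set_option linter.unnecessarySeqFocus false
set_option linter.unreachableTactic false
set_option linter.unusedTactic false

namespace Cfsg.Agent.Lib.Helper6.Pg5

open Matrix MatrixGroups
open Cfsg.Agent.Lib.Helper53.SL2Inv Cfsg.Agent.Lib.Helper53.SL2Unip
open Cfsg.Agent.Lib.Helper98.SL2Sub Cfsg.Agent.Lib.Helper98.SL2Core
open Cfsg.Agent.Lib.Helper98.SL2Tor Cfsg.Agent.Lib.Helper98.PSL2Max
open Cfsg.Agent.Lib.Helper98.DicksonB Cfsg.Agent.Lib.Helper98.DicksonOdd
open Cfsg.Agent.Lib.Helper98.SL2Field Cfsg.Agent.Lib.Helper98.SL2Quad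
open Cfsg.Agent.S5941 (Pk Sk_le_Pk Pk_ne_top d_mem_Pk)
open Cfsg.Agent.Lib.Helper6.Sb2 Cfsg.Agent.Lib.Helper6.Dk2 Cfsg.Agent.Lib.Helper6.Dk3
  Cfsg.Agent.Lib.Helper6.Dk4
  Cfsg.Agent.Lib.Helper6.Dk5 Cfsg.Agent.Lib.Helper6.Mx1 Cfsg.Agent.Lib.Helper6.Mx2
  Cfsg.Agent.Lib.Helper6.Mx3 Cfsg.Agent.Lib.Helper6.Mx4 Cfsg.Agent.Lib.Helper6.Mx5
  Cfsg.Agent.Lib.Helper6.Mx6 Cfsg.Agent.Lib.Helper6.Pg1 Cfsg.Agent.Lib.Helper6.Pg2

variable {F : Type*} [Field F]

lemma comap_map_proj (Y : Subgroup SL(2, F)) (hneg : negOne ∈ Y) :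
    (Y.map proj).comap proj = Y := by
  apply Subgroup.comap_map_eq_self
  intro x hx
  rw [MonoidHom.mem_ker] at hx
  rcases (proj_eq_one_iff x).1 hx with rfl | rfl
  · exact Y.one_mem
  · exact hneg

/-- the prime field lies in every subfield -/
theorem fixP_one_le [Fintype F] (p : ℕ) [Fact p.Prime] [CharP F p] (hp2 : p ≠ 2)
    (k : Subfield F) : fixP F p hp2 1 ≤ k := by
  intro x hx
  rw [mem_fixP, pow_one] at hx
  have hpp : p.Prime := Fact.out
  obtain ⟨n, -, hn⟩ := FiniteField.card F p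
  obtain ⟨m, hm⟩ := exists_pow k
  have hm0 : m ≠ 0 := by
    rintro rfl
    rw [pow_zero, Nat.card_eq_fintype_card] at hm
    have := Fintype.one_lt_card (α := F)
    omega
  have hdvd : Nat.card k ∣ p ^ (n : ℕ) := by
    rw [← hn, ← Nat.card_eq_fintype_card, hm]
    exact dvd_pow_self _ hm0
  obtain ⟨j, -, hj⟩ := (Nat.dvd_prime_pow hpp).1 hdvd
  apply mem_of_pow_card
  rw [hj]
  exact pow_pow_fix x p hx j

/-- **Normal form** of a pair `(A, B)` with `A² = -1` and relative traces in `k`. -/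
theorem normal_form [Fintype F] (hodd : Odd (Fintype.card F)) (k : Subfield F)
    (A B : SL(2, F)) (hA : A * A = negOne) (hy : tr B ∈ k) (hz : tr (A * B) ∈ k)
    (hnd : tr B ^ 2 + tr (A * B) ^ 2 ≠ 4) :
    ∃ (φ : SL(2, F) ≃* SL(2, F)) (B₀ : SL(2, F)), (∀ x, tr (φ x) = tr x) ∧ φ A = W ∧
      φ B = B₀ ∧ B₀ ∈ Sk k ∧ (B₀.1 0 0 - B₀.1 1 1) ^ 2 + (B₀.1 0 1 + B₀.1 1 0) ^ 2 ≠ 0 := by
  classical
  haveI : Fintype k := Fintype.ofFinite k
  obtain ⟨g, hg⟩ := conj_W_of_sq hodd A hA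
  obtain ⟨B₁, hB₁⟩ : ∃ B₁, B₁ = g * B * g⁻¹ := ⟨_, rfl⟩
  obtain ⟨a, ha⟩ : ∃ a, a = B₁.1 0 0 := ⟨_, rfl⟩
  obtain ⟨b, hb⟩ : ∃ b, b = B₁.1 0 1 := ⟨_, rfl⟩
  obtain ⟨c, hc⟩ : ∃ c, c = B₁.1 1 0 := ⟨_, rfl⟩
  obtain ⟨d, hd⟩ : ∃ d, d = B₁.1 1 1 := ⟨_, rfl⟩
  have hdet : a * d - b * c = 1 := by rw [ha, hb, hc, hd]; exact det_eq B₁
  have htrB : tr B = a + d := by
    have : tr B₁ = tr B := by rw [hB₁]; exact tr_conj g B
    rw [← this, tr_def, ha, hd]
  have htrAB : tr (A * B) = b - c := by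
    have e : W * B₁ = g * (A * B) * g⁻¹ := by rw [hB₁, ← hg]; group
    have h1 : tr (W * B₁) = tr (A * B) := by rw [e]; exact tr_conj g (A * B)
    rw [← h1, tr_def, mul00, mul11, W00, W01, W10, W11, hb, hc]
    ring
  have hy' : a + d ∈ k := htrB ▸ hy
  have hz' : b - c ∈ k := htrAB ▸ hz
  have hD4 : (a + d) ^ 2 + (b - c) ^ 2 - 4 ≠ 0 := by
    rw [← htrB, ← htrAB]
    exact sub_ne_zero.2 hnd
  have hcardk := card_subfield_odd hodd k
  obtain ⟨a₀, b₀, h0⟩ := FiniteField.exists_root_sum_quadratic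
    (f := Polynomial.C (-1 : k) * Polynomial.X ^ 2 + Polynomial.C (⟨a + d, hy'⟩ : k) * Polynomial.X
      + Polynomial.C (-1 : k))
    (g := Polynomial.C (-1 : k) * Polynomial.X ^ 2 + Polynomial.C (⟨b - c, hz'⟩ : k) * Polynomial.X
      + Polynomial.C (0 : k))
    (Polynomial.degree_quadratic (by simp)) (Polynomial.degree_quadratic (by simp)) hcardk
  have hcon : (a₀ : F) * ((a + d) - a₀) - b₀ * (b₀ - (b - c)) = 1 := by
    have h0' := congrArg (Subtype.val : k → F) h0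
    simp only [Polynomial.eval_add, Polynomial.eval_mul, Polynomial.eval_C, Polynomial.eval_pow,
      Polynomial.eval_X] at h0'
    push_cast at h0'
    linear_combination h0'
  obtain ⟨B₀, hB₀⟩ : ∃ B₀, B₀ = mk4 (a₀ : F) b₀ (b₀ - (b - c)) ((a + d) - a₀) hcon := ⟨_, rfl⟩
  have hsum : ((a₀ : F) - d) ^ 2 + (b₀ - b) ^ 2 + (((b₀ : F) + c) ^ 2 + (a₀ - a) ^ 2) =
      (a + d) ^ 2 + (b - c) ^ 2 - 4 := by
    linear_combination (-2 : F) * hcon - 2 * hdet
  -- the second conjugator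
  have hψ : ∃ ψ : SL(2, F) ≃* SL(2, F), ψ W = W ∧ ψ B₁ = B₀ ∧ ∀ x, tr (ψ x) = tr x := by
    by_cases hP : ((a₀ : F) - d) ^ 2 + (b₀ - b) ^ 2 = 0
    · have hP' : ((b₀ : F) + c) ^ 2 + (a₀ - a) ^ 2 ≠ 0 := by
        intro h
        apply hD4
        rw [← hsum, hP, h]; ring
      have hdetP : (!![-((b₀ : F) + c), -((a₀ : F) - a); (a₀ : F) - a, -((b₀ : F) + c)] :
          Matrix (Fin 2) (Fin 2) F).det ≠ 0 := by
        rw [Matrix.det_fin_two_of]
        intro h
        apply hP'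
        linear_combination h
      refine ⟨conjM _ hdetP, ?_, ?_, fun x => tr_conjM _ hdetP x⟩
      · apply conjR_eq <;> simp only [W00, W01, W10, W11] <;> ring
      · apply conjR_eq <;> rw [hB₀] <;>
          simp only [mk4_00, mk4_01, mk4_10, mk4_11, ← ha, ← hb, ← hc, ← hd] <;>
          first | ring1 | linear_combination hcon - hdet | linear_combination hdet - hcon |
            linear_combination hcon + hdet | linear_combination -hcon - hdet
    · have hdetP : (!![(a₀ : F) - d, -((b₀ : F) - b); (b₀ : F) - b, (a₀ : F) - d] :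
          Matrix (Fin 2) (Fin 2) F).det ≠ 0 := by
        rw [Matrix.det_fin_two_of]
        intro h
        apply hP
        linear_combination h
      refine ⟨conjM _ hdetP, ?_, ?_, fun x => tr_conjM _ hdetP x⟩
      · apply conjR_eq <;> simp only [W00, W01, W10, W11] <;> ring
      · apply conjR_eq <;> rw [hB₀] <;>
          simp only [mk4_00, mk4_01, mk4_10, mk4_11, ← ha, ← hb, ← hc, ← hd] <;>
          first | ring1 | linear_combination hcon - hdet | linear_combination hdet - hcon |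
            linear_combination hcon + hdet | linear_combination -hcon - hdet
  obtain ⟨ψ, hψW, hψB, hψtr⟩ := hψ
  obtain ⟨φ, hφ⟩ : ∃ φ : SL(2, F) ≃* SL(2, F), φ = (MulAut.conj g).trans ψ := ⟨_, rfl⟩
  have hφx : ∀ x, φ x = ψ (g * x * g⁻¹) := by intro x; rw [hφ]; rfl
  have hφA : φ A = W := by rw [hφx, hg, hψW]
  have hφB : φ B = B₀ := by rw [hφx, ← hB₁, hψB]
  have hφtr : ∀ x, tr (φ x) = tr x := by
    intro x; rw [hφx, hψtr, tr_conj]
  refine ⟨φ, B₀, hφtr, hφA, hφB, ?_, ?_⟩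
  · rw [hB₀]
    refine ⟨?_, ?_, ?_, ?_⟩
    · rw [mk4_00]; exact a₀.2
    · rw [mk4_01]; exact b₀.2
    · rw [mk4_10]; exact k.sub_mem b₀.2 hz'
    · rw [mk4_11]; exact k.sub_mem hy' a₀.2
  · rw [hB₀, mk4_00, mk4_01, mk4_10, mk4_11]
    intro h
    apply hD4
    linear_combination h + 4 * hcon

/-- **The exceptional case.** -/
theorem case_exc [Fintype F] (p : ℕ) [Fact p.Prime] [CharP F p] (h2 : (2 : F) ≠ 0)
    (k : Subfield F) (Y : Subgroup SL(2, F)) (hY : MaxIn k Y) (hp : ¬ p ∣ Nat.card Y)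
    (hsq : ¬ ∀ x ∈ Y, ∀ y ∈ Y, x ^ 2 * y ^ 2 = y ^ 2 * x ^ 2) :
    Nat.card k = p ∧ Nonempty (Y.map proj ≃* Equiv.Perm (Fin 4)) := by
  classical
  haveI : Finite SL(2, F) := finite_SL
  haveI : Finite (Matrix.ProjectiveSpecialLinearGroup (Fin 2) F) :=
    Finite.of_surjective _ proj_surj
  have hpp : p.Prime := Fact.out
  have hp2 : p ≠ 2 := by
    rintro rfl
    apply h2
    have := CharP.cast_eq_zero F 2
    exact_mod_cast this
  have hodd : Odd (Fintype.card F) := by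
    obtain ⟨n, -, hn⟩ := FiniteField.card F p
    rw [hn]; exact (hpp.odd_of_ne_two hp2).pow
  have hc : Nat.card Y = 24 ∨ Nat.card Y = 48 ∨ Nat.card Y = 120 := by
    rcases core p h2 Y hY.neg hp with h | h
    · exact absurd h hsq
    · exact h
  obtain ⟨X₀, hX₀⟩ : ∃ X₀ : Subgroup SL(2, F), X₀ = Y ⊓ Sk k := ⟨_, rfl⟩
  have hcard2 : Nat.card Y = 2 * Nat.card X₀ := by
    rw [hX₀]; exact card_inf_Sk h2 k Y hY.le hY.not_le
  have hX₀Y : X₀ ≤ Y := by rw [hX₀]; exact inf_le_left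
  have hX₀S : X₀ ≤ Sk k := by rw [hX₀]; exact inf_le_right
  have hneg₀ : negOne ∈ X₀ := by rw [hX₀]; exact ⟨hY.neg, negOne_mem_Sk k⟩
  have hp₀ : ¬ p ∣ Nat.card X₀ := fun h => hp (by rw [hcard2]; exact Dvd.dvd.mul_left h 2)
  obtain ⟨M', hM'⟩ : ∃ M', M' = Y.map proj := ⟨_, rfl⟩
  have hcomap : M'.comap proj = Y := by rw [hM']; exact comap_map_proj Y hY.neg
  have hcM' : Nat.card Y = 2 * Nat.card M' := by
    have := card_comap h2 M'
    rwa [hcomap] at this
  have hM'cases := case_pprime p h2 M' (by rw [hcomap]; exact hp) (by rw [hcomap]; exact hsq)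
    (by rw [hcomap]; exact hc)
  have hoddX : ∀ y ∈ Y, ∀ n : ℕ, Odd n → y ^ n = 1 → y ∈ X₀ := by
    intro y hy n hn h
    rw [hX₀]; exact ⟨hy, odd_mem_Sk k y (hY.le hy) n hn h⟩
  -- the squares of `X₀` do not commute
  have hα : ¬ ∀ x ∈ X₀, ∀ y ∈ X₀, x ^ 2 * y ^ 2 = y ^ 2 * x ^ 2 := by
    intro hsq₀
    have hcomm : ∀ x ∈ Y, ∀ y ∈ Y, ∀ m n : ℕ, Odd m → Odd n → x ^ m = 1 → y ^ n = 1 →
        x * y = y * x := by
      intro x hx y hy m n hm hn hxm hyn
      have hx₀ := hoddX x hx m hm hxm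
      have hy₀ := hoddX y hy n hn hyn
      obtain ⟨i, rfl⟩ := hm
      obtain ⟨j, rfl⟩ := hn
      have ex : x = (x ^ (i + 1)) ^ 2 := by
        rw [← pow_mul]
        have : (i + 1) * 2 = (2 * i + 1) + 1 := by ring
        rw [this, pow_succ, hxm, one_mul]
      have ey : y = (y ^ (j + 1)) ^ 2 := by
        rw [← pow_mul]
        have : (j + 1) * 2 = (2 * j + 1) + 1 := by ring
        rw [this, pow_succ, hyn, one_mul]
      rw [ex, ey]
      exact hsq₀ _ (X₀.pow_mem hx₀ _) _ (X₀.pow_mem hy₀ _)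
    have hlift : ∀ (g : M') (n : ℕ), Odd n → g ^ n = 1 → ∃ y ∈ Y, proj y = g.1 ∧ y ^ n = 1 := by
      intro g n hn hg
      obtain ⟨x, hx⟩ := proj_surj g.1
      have hxY : x ∈ Y := by
        rw [← hcomap]; show proj x ∈ M'; rw [hx]; exact g.2
      rcases lift_pow M' x g hx n hg with h | h
      · exact ⟨x, hxY, hx, h⟩
      · refine ⟨negOne * x, Y.mul_mem hY.neg hxY, ?_, ?_⟩
        · rw [map_mul, proj_negOne, one_mul, hx]
        · rw [Commute.mul_pow (show Commute negOne x from negOne_comm x) n,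
            negOne_pow_odd n hn, h, negOne_mul_negOne]
    have hfin : ∀ (a b : M') (n : ℕ), Odd n → (n = 3 ∨ n = 5) → a ≠ 1 → a ^ 2 = 1 → b ≠ 1 →
        b ^ 3 = 1 → a * b ≠ 1 → (a * b) ^ n = 1 → False := by
      intro a b n hn hn35 ha1 ha2 hb1 hb3 hab1 habn
      obtain ⟨B, hBY, hB, hB3⟩ := hlift b 3 ⟨1, rfl⟩ hb3
      obtain ⟨C, hCY, hC, hCn⟩ := hlift (a * b) n hn habn
      have h1 := hcomm B hBY C hCY 3 n ⟨1, rfl⟩ hn hB3 hCn
      have h2' : b * (a * b) = (a * b) * b := by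
        apply Subtype.ext
        show b.1 * (a * b).1 = (a * b).1 * b.1
        rw [← hB, ← hC, ← map_mul, ← map_mul, h1]
      have hab : b * a = a * b := by
        have : b * a * b = a * b * b := by rw [mul_assoc, h2']
        exact mul_right_cancel this
      have hpow : (a * b) ^ n = a ^ n * b ^ n :=
        Commute.mul_pow (show Commute a b from hab.symm) n
      rcases hn35 with rfl | rfl
      · rw [hpow, hb3, mul_one] at habn
        have : a ^ 3 = a := by rw [pow_succ, ha2, one_mul]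
        rw [this] at habn
        exact ha1 habn
      · rw [hpow] at habn
        have e5 : a ^ 5 = a := by
          have : a ^ 5 = (a ^ 2) ^ 2 * a := by group
          rw [this, ha2, one_pow, one_mul]
        have f5 : b ^ 5 = b ^ 2 := by
          have : b ^ 5 = b ^ 3 * b ^ 2 := by group
          rw [this, hb3, one_mul]
        rw [e5, f5] at habn
        have hab' : a = b := by
          have : a * b ^ 2 * b = b := by rw [habn, one_mul]
          rw [mul_assoc, ← pow_succ, hb3, mul_one] at this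
          exact this
        rw [hab'] at ha2
        apply hb1
        have : b ^ 3 = b ^ 2 * b := pow_succ b 2
        rw [hb3, ha2, one_mul] at this
        exact this.symm
    rcases hM'cases with ⟨⟨e⟩⟩ | ⟨⟨e⟩⟩ | ⟨⟨e⟩⟩
    · obtain ⟨-, a, b, ha1, ha2, hb1, hb3, hab1, hab3⟩ := a4_facts e
      exact hfin a b 3 ⟨1, rfl⟩ (Or.inl rfl) ha1 ha2 hb1 hb3 hab1 hab3
    · obtain ⟨T, -, -, a, -, b, -, ha1, ha2, hb1, hb3, hab1, hab3⟩ := s4_facts e
      exact hfin a b 3 ⟨1, rfl⟩ (Or.inl rfl) ha1 ha2 hb1 hb3 hab1 hab3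
    · obtain ⟨-, a, b, ha1, ha2, hb1, hb3, hab1, hab5⟩ := a5_facts e
      exact hfin a b 5 ⟨2, rfl⟩ (Or.inr rfl) ha1 ha2 hb1 hb3 hab1 hab5
  have hcX₀ : Nat.card X₀ = 24 := by
    rcases core p h2 X₀ hneg₀ hp₀ with h | h | h | h
    · exact absurd h hα
    · exact h
    · omega
    · omega
  have hcY : Nat.card Y = 48 := by omega
  have hcM'24 : Nat.card M' = 24 := by omega
  have hp3 : p ≠ 3 := by rintro rfl; apply hp; rw [hcY]; norm_num
  have hp5 : 5 ≤ p := five_le_prime p hpp hp2 hp3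
  have eS4 : Nonempty (M' ≃* Equiv.Perm (Fin 4)) := by
    rcases hM'cases with ⟨⟨e⟩⟩ | h | ⟨⟨e⟩⟩
    · exfalso
      have := Nat.card_congr e.toEquiv
      rw [card_A4] at this; omega
    · exact h
    · exfalso
      have := Nat.card_congr e.toEquiv
      rw [card_A5] at this; omega
  obtain ⟨e⟩ := eS4
  obtain ⟨H, hH⟩ : ∃ H, H = X₀.map proj := ⟨_, rfl⟩
  have hcomapH : H.comap proj = X₀ := by rw [hH]; exact comap_map_proj X₀ hneg₀
  have hcH : Nat.card H = 12 := by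
    have := card_comap h2 H
    rw [hcomapH] at this; omega
  have hpH : ¬ p ∣ Nat.card (H.comap proj) := by rw [hcomapH]; exact hp₀
  have hHcases := case_pprime p h2 H hpH (by rw [hcomapH]; exact hα)
    (by rw [hcomapH]; exact Or.inl hcX₀)
  have eA4 : Nonempty (H ≃* alternatingGroup (Fin 4)) := by
    rcases hHcases with h | ⟨⟨e'⟩⟩ | ⟨⟨e'⟩⟩
    · exact h
    · exfalso; have := Nat.card_congr e'.toEquiv; rw [card_S4] at this; omega
    · exfalso; have := Nat.card_congr e'.toEquiv; rw [card_A5] at this; omega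
  obtain ⟨eH⟩ := eA4
  obtain ⟨hHord, a, b, ha1, ha2, hb1, hb3, hab1, hab3⟩ := a4_facts eH
  obtain ⟨A, B, hAX, hBX, hA, hB, hAA, htB⟩ := lift_pair p h2 H hpH a b ha1 ha2 hb1 hb3
  rw [hcomapH] at hAX hBX
  have hAB : proj (A * B) = (a * b).1 := by rw [map_mul, hA, hB]; rfl
  have hABX : A * B ∈ X₀ := X₀.mul_mem hAX hBX
  have htAB : tr (A * B) = 1 ∨ tr (A * B) = -1 := by
    rcases lift_three p h2 (A * B) (coprime_of p _ hp₀ _ hABX)
      (lift_pow H (A * B) (a * b) hAB 3 hab3) with h | h | h | h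
    · exact absurd h (lift_ne H _ _ hAB hab1).1
    · exact absurd h (lift_ne H _ _ hAB hab1).2
    · exact Or.inl h
    · exact Or.inr h
  have hnd : tr B ^ 2 + tr (A * B) ^ 2 ≠ 4 := by
    have e1 : tr B ^ 2 = 1 := by rcases htB with h | h <;> rw [h] <;> ring
    have e2 : tr (A * B) ^ 2 = 1 := by rcases htAB with h | h <;> rw [h] <;> ring
    rw [e1, e2]
    intro h
    apply h2
    linear_combination -h
  obtain ⟨κ, hκ⟩ : ∃ κ, κ = fixP F p hp2 1 := ⟨_, rfl⟩
  have hκk : κ ≤ k := by rw [hκ]; exact fixP_one_le p hp2 k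
  have htr : ∀ x ∈ X₀, tr x ∈ κ := by
    intro x hx
    apply small_mem
    obtain ⟨g, hg⟩ : ∃ g : H, proj x = g.1 := ⟨⟨proj x, by rw [hH]; exact ⟨x, hx, rfl⟩⟩, rfl⟩
    exact small_of_ord p h2 H hpH x (by rw [hcomapH]; exact hx) g hg (hHord g)
  obtain ⟨ρ, hρ0, hρ⟩ : ∃ ρ : F, ρ ≠ 0 ∧ ∀ t : F, t = 0 ∨ t ^ 2 = 2 → ρ * t ∈ κ := by
    by_cases hex : ∃ t₀ : F, t₀ ^ 2 = 2
    · obtain ⟨t₀, ht₀⟩ := hex
      have ht₀0 : t₀ ≠ 0 := by
        rintro rfl
        apply h2
        rw [← ht₀]; ring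
      refine ⟨t₀⁻¹, inv_ne_zero ht₀0, ?_⟩
      rintro t (rfl | ht)
      · rw [mul_zero]; exact Subfield.zero_mem _
      · have h0 : (t - t₀) * (t + t₀) = 0 := by linear_combination ht - ht₀
        rcases mul_eq_zero.1 h0 with h | h
        · have ht' : t = t₀ := sub_eq_zero.1 h
          rw [ht', inv_mul_cancel₀ ht₀0]; exact Subfield.one_mem _
        · have ht' : t = -t₀ := by linear_combination h
          rw [ht', mul_neg, inv_mul_cancel₀ ht₀0]
          exact Subfield.neg_mem _ (Subfield.one_mem _)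
    · refine ⟨1, one_ne_zero, ?_⟩
      rintro t (rfl | ht)
      · rw [mul_zero]; exact Subfield.zero_mem _
      · exact absurd ⟨t, ht⟩ hex
  obtain ⟨T, hT1, hT2, -⟩ := s4_facts e
  have htr' : ∀ x ∈ Y, x ∉ X₀ → ρ * tr x ∈ κ := by
    intro x hx hx₀
    apply hρ
    have hxS : x ∉ Sk k := fun h => hx₀ (by rw [hX₀]; exact ⟨hx, h⟩)
    obtain ⟨g, hg⟩ : ∃ g : M', proj x = g.1 := ⟨⟨proj x, by rw [hM']; exact ⟨x, hx, rfl⟩⟩, rfl⟩
    have h1S : (1 : SL(2, F)) ∈ Sk k := (Sk k).one_mem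
    by_cases hgT : g ∈ T
    · rcases hT1 g hgT with h | h
      · rcases lift_two h2 x (lift_pow M' x g hg 2 h) with h' | h' | h'
        · exact absurd (by rw [h']; exact h1S) hxS
        · exact absurd (by rw [h']; exact negOne_mem_Sk k) hxS
        · exact Or.inl h'
      · exfalso
        rcases lift_pow M' x g hg 3 h with h' | h'
        · exact hxS (odd_mem_Sk k x (hY.le hx) 3 ⟨1, rfl⟩ h')
        · have h3 : (negOne * x) ^ 3 = 1 := by
            rw [Commute.mul_pow (show Commute negOne x from negOne_comm x) 3,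
              negOne_pow_odd 3 ⟨1, rfl⟩, h', negOne_mul_negOne]
          have h4 := odd_mem_Sk k (negOne * x)
            ((Pk k).mul_mem (Sk_le_Pk k (negOne_mem_Sk k)) (hY.le hx)) 3 ⟨1, rfl⟩ h3
          have h5 := (Sk k).mul_mem (negOne_mem_Sk k) h4
          rw [← mul_assoc, negOne_mul_negOne, one_mul] at h5
          exact hxS h5
    · rcases lift_four h2 x (lift_pow M' x g hg 4 (hT2 g hgT)) with h' | h' | h' | h'
      · exact absurd (by rw [h']; exact h1S) hxS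
      · exact absurd (by rw [h']; exact negOne_mem_Sk k) hxS
      · exact Or.inl h'
      · exact Or.inr h'
  obtain ⟨φ, B₀, hφtr, hφA, hφB, hB₀κ, hden⟩ :=
    normal_form hodd κ A B hAA (htr B hBX) (htr _ hABX) hnd
  have hfr : Frame (φ A) (φ B) := by rw [hφA, hφB]; exact frame_W B₀ hden
  have hAS : A ∈ Sk k := hX₀S hAX
  have hBS : B ∈ Sk k := hX₀S hBX
  have hPS := map_le_of_frame k φ hφtr A B hAS hBS hfr (by rw [hφA]; exact W_mem_Sk k)
    (by rw [hφB]; exact Sk_mono hκk hB₀κ)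
  have hY' : MaxIn k (Y.map φ.toMonoidHom) := hY.map h2 φ hPS.1 hPS.2
  have hle : Y.map φ.toMonoidHom ≤ Pk κ := by
    apply map_le_Pk_of_frame κ φ hφtr A B hfr (by rw [hφA]; exact W_mem_Sk κ)
      (by rw [hφB]; exact hB₀κ)
    intro x hx
    by_cases hx₀ : x ∈ X₀
    · refine ⟨1, one_ne_zero, ?_, ?_, ?_, ?_⟩
      · rw [one_mul]; exact htr x hx₀
      · rw [one_mul]; exact htr _ (X₀.mul_mem hAX hx₀)
      · rw [one_mul]; exact htr _ (X₀.mul_mem hBX hx₀)
      · rw [one_mul]; exact htr _ (X₀.mul_mem hABX hx₀)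
    · have hnot : ∀ t ∈ X₀, t * x ∉ X₀ := by
        intro t ht h
        apply hx₀
        have := X₀.mul_mem (X₀.inv_mem ht) h
        rwa [inv_mul_cancel_left] at this
      exact ⟨ρ, hρ0, htr' x hx hx₀, htr' _ (Y.mul_mem (hX₀Y hAX) hx) (hnot A hAX),
        htr' _ (Y.mul_mem (hX₀Y hBX) hx) (hnot B hBX),
        htr' _ (Y.mul_mem (hX₀Y hABX) hx) (hnot _ hABX)⟩
  rcases hY'.max (Pk κ) hle (Pk_mono hκk) with h | h
  · exfalso
    have h1 := Subgroup.card_le_of_le (Sk_le_Pk κ)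
    rw [h, card_map_equiv, hcY] at h1
    have hge := card_Sk_fixP_ge (F := F) p hp2 1 5 hp5
    rw [← hκ] at hge
    have h120 : 5 * (5 ^ 2 - 1) = 120 := by norm_num
    rw [h120] at hge
    omega
  · have hkκ : k ≤ κ := le_of_Sk_le_Pk (by rw [h]; exact Sk_le_Pk k)
    refine ⟨?_, ?_⟩
    · have h1 : Nat.card k ≤ p := by
        apply card_le_of_fix (F := k) p hpp.one_lt
        intro x
        have := hkκ x.2
        rw [hκ, mem_fixP, pow_one] at this
        exact Subtype.ext this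
      have h2' : p ≤ Nat.card k := by
        have h3 := card_fixP_ge (F := F) p hp2 1
        rw [← hκ] at h3
        have h4 : Nat.card κ ≤ Nat.card k :=
          Nat.card_le_card_of_injective (Subfield.inclusion hκk)
            (Subfield.inclusion hκk).injective
        omega
      omega
    · rw [← hM']; exact ⟨e⟩

end Cfsg.Agent.Lib.Helper6.Pg5
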