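import Mathlib
import Cfsg.Agent.Lib.Helper6.Pg5

/-!
# Maximal subgroups of `PGL(2, q)`, `q` odd: the subfield case (helper6)

A maximal subgroup `Y` of `Pk k` (not inside `Sk k`, not containing it) of order divisible by `p`
that is not triangularisable is conjugate to `Pk κ` for a subfield `κ` of odd prime index in `k`.
The two field-theoretic inputs `A1`, `A2` are taken as hypotheses here.
-/

set_option autoImplicit false
set_option linter.unusedSimpArgs false
set_option linter.unusedVariables false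
set_option linter.unusedSectionVars false
set_option linter.style.haveILetI false
set_option linter.unnecessarySeqFocus false
set_option linter.unreachableTactic false
set_option linter.unusedTactic false

namespace Cfsg.Agent.Lib.Helper6.Pg4

open Matrix MatrixGroups
open Cfsg.Agent.Lib.Helper53.SL2Inv Cfsg.Agent.Lib.Helper53.SL2Unip
open Cfsg.Agent.Lib.Helper98.SL2Sub Cfsg.Agent.Lib.Helper98.SL2Core
open Cfsg.Agent.Lib.Helper98.SL2Tor Cfsg.Agent.Lib.Helper98.PSL2Max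
open Cfsg.Agent.Lib.Helper98.DicksonB Cfsg.Agent.Lib.Helper98.DicksonOdd
open Cfsg.Agent.Lib.Helper98.SL2Field Cfsg.Agent.Lib.Helper98.SL2Quad
open Cfsg.Agent.S5941 (Pk Sk_le_Pk Pk_ne_top d_mem_Pk)
open Cfsg.Agent.Lib.Helper6.Sb2 Cfsg.Agent.Lib.Helper6.Dk2 Cfsg.Agent.Lib.Helper6.Dk3
  Cfsg.Agent.Lib.Helper6.Dk4
  Cfsg.Agent.Lib.Helper6.Dk5 Cfsg.Agent.Lib.Helper6.Mx1 Cfsg.Agent.Lib.Helper6.Mx2
  Cfsg.Agent.Lib.Helper6.Mx3 Cfsg.Agent.Lib.Helper6.Mx4 Cfsg.Agent.Lib.Helper6.Mx5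
  Cfsg.Agent.Lib.Helper6.Mx6 Cfsg.Agent.Lib.Helper6.Pg1 Cfsg.Agent.Lib.Helper6.Pg2
  Cfsg.Agent.Lib.Helper6.Pg5

variable {F : Type*} [Field F]

/-- no triangular form for a group containing `u 1` and `l lam` -/
lemma not_borel_of_u_l (X : Subgroup SL(2, F)) (lam : F) (hlam : lam ≠ 0) (hu : u 1 ∈ X)
    (hl : l lam ∈ X) : ¬ ∃ g : SL(2, F), ∀ y ∈ X, (g * y * g⁻¹).1 1 0 = 0 := by
  rintro ⟨g, hg⟩
  have h1 := hg _ hu
  have h2 := hg _ hl
  have e1 : (g * u 1 * g⁻¹).1 1 0 = -(g.1 1 0 ^ 2) := by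
    simp only [mul10, mul11, mul00, mul01, inv00, inv01, inv10, inv11, u00, u01, u10, u11]; ring
  have e2 : (g * l lam * g⁻¹).1 1 0 = lam * g.1 1 1 ^ 2 := by
    simp only [mul10, mul11, mul00, mul01, inv00, inv01, inv10, inv11, l00, l01, l10, l11]; ring
  rw [e1] at h1
  rw [e2] at h2
  have h10 : g.1 1 0 = 0 := by
    have := neg_eq_zero.1 h1
    exact pow_eq_zero_iff (by norm_num) |>.1 this
  have h11 : g.1 1 1 = 0 := by
    rcases mul_eq_zero.1 h2 with h | h
    · exact absurd h hlam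
    · exact pow_eq_zero_iff (by norm_num) |>.1 h
  have hd := det_eq g
  rw [h10, h11] at hd
  simp at hd

/-- an element conjugating `u 1`, `l lam` and their product into `Sk κ` lies in `Pk κ` -/
lemma mem_Pk_of_conj (κ : Subfield F) (lam : F) (hlam0 : lam ≠ 0) (hlam : lam ∈ κ)
    (y : SL(2, F)) (h1 : y * u 1 * y⁻¹ ∈ Sk κ) (h2 : y * l lam * y⁻¹ ∈ Sk κ)
    (h3 : y * (u 1 * l lam) * y⁻¹ ∈ Sk κ) : y ∈ Pk κ := by
  obtain ⟨p00, p01, p10, p11⟩ := h1
  obtain ⟨q00, q01, q10, q11⟩ := h2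
  obtain ⟨r00, r01, r10, r11⟩ := h3
  have hd := det_eq y
  have key : ∀ t : F, lam * t ∈ κ → t ∈ κ := by
    intro t ht
    have := κ.mul_mem (κ.inv_mem hlam) ht
    rwa [inv_mul_cancel_left₀ hlam0] at this
  have eP00 : (y * u 1 * y⁻¹).1 0 0 = 1 - y.1 0 0 * y.1 1 0 := by
    simp only [mul00, mul01, mul10, mul11, inv00, inv01, inv10, inv11, u00, u01, u10, u11]
    linear_combination hd
  have eP01 : (y * u 1 * y⁻¹).1 0 1 = y.1 0 0 * y.1 0 0 := by
    simp only [mul00, mul01, mul10, mul11, inv00, inv01, inv10, inv11, u00, u01, u10, u11]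
    ring
  have eP10 : (y * u 1 * y⁻¹).1 1 0 = -(y.1 1 0 * y.1 1 0) := by
    simp only [mul00, mul01, mul10, mul11, inv00, inv01, inv10, inv11, u00, u01, u10, u11]
    ring
  have eQ00 : (y * l lam * y⁻¹).1 0 0 = 1 + lam * (y.1 0 1 * y.1 1 1) := by
    simp only [mul00, mul01, mul10, mul11, inv00, inv01, inv10, inv11, l00, l01, l10, l11]
    linear_combination hd
  have eQ01 : (y * l lam * y⁻¹).1 0 1 = -(lam * (y.1 0 1 * y.1 0 1)) := by
    simp only [mul00, mul01, mul10, mul11, inv00, inv01, inv10, inv11, l00, l01, l10, l11]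
    ring
  have eQ10 : (y * l lam * y⁻¹).1 1 0 = lam * (y.1 1 1 * y.1 1 1) := by
    simp only [mul00, mul01, mul10, mul11, inv00, inv01, inv10, inv11, l00, l01, l10, l11]
    ring
  have eR00 : (y * (u 1 * l lam) * y⁻¹).1 0 0 = 1 + lam * (y.1 0 0 * y.1 1 1)
      + lam * (y.1 0 1 * y.1 1 1) - y.1 0 0 * y.1 1 0 := by
    simp only [mul00, mul01, mul10, mul11, inv00, inv01, inv10, inv11, u00, u01, u10, u11,
      l00, l01, l10, l11]
    linear_combination hd
  have eR01 : (y * (u 1 * l lam) * y⁻¹).1 0 1 = y.1 0 0 * y.1 0 0 - lam * (y.1 0 0 * y.1 0 1)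
      - lam * (y.1 0 1 * y.1 0 1) := by
    simp only [mul00, mul01, mul10, mul11, inv00, inv01, inv10, inv11, u00, u01, u10, u11,
      l00, l01, l10, l11]
    ring
  have eR10 : (y * (u 1 * l lam) * y⁻¹).1 1 0 = lam * (y.1 1 0 * y.1 1 1)
      + lam * (y.1 1 1 * y.1 1 1) - y.1 1 0 * y.1 1 0 := by
    simp only [mul00, mul01, mul10, mul11, inv00, inv01, inv10, inv11, u00, u01, u10, u11,
      l00, l01, l10, l11]
    ring
  have eR11 : (y * (u 1 * l lam) * y⁻¹).1 1 1 = 1 - lam * (y.1 0 1 * y.1 1 0)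
      - lam * (y.1 0 1 * y.1 1 1) + y.1 0 0 * y.1 1 0 := by
    simp only [mul00, mul01, mul10, mul11, inv00, inv01, inv10, inv11, u00, u01, u10, u11,
      l00, l01, l10, l11]
    linear_combination hd
  rw [eP00] at p00
  rw [eP01] at p01
  rw [eP10] at p10
  rw [eQ00] at q00
  rw [eQ01] at q01
  rw [eQ10] at q10
  rw [eR00] at r00
  rw [eR01] at r01
  rw [eR10] at r10
  rw [eR11] at r11
  have m_ac : y.1 0 0 * y.1 1 0 ∈ κ := by
    have := κ.sub_mem κ.one_mem p00
    rwa [sub_sub_cancel] at this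
  have m_aa : y.1 0 0 * y.1 0 0 ∈ κ := p01
  have m_cc : y.1 1 0 * y.1 1 0 ∈ κ := by
    have := κ.neg_mem p10
    rwa [neg_neg] at this
  have m_bd' : lam * (y.1 0 1 * y.1 1 1) ∈ κ := by
    have := κ.sub_mem q00 κ.one_mem
    rwa [add_sub_cancel_left] at this
  have m_bd : y.1 0 1 * y.1 1 1 ∈ κ := key _ m_bd'
  have m_bb' : lam * (y.1 0 1 * y.1 0 1) ∈ κ := by
    have := κ.neg_mem q01
    rwa [neg_neg] at this
  have m_bb : y.1 0 1 * y.1 0 1 ∈ κ := key _ m_bb'
  have m_dd' : lam * (y.1 1 1 * y.1 1 1) ∈ κ := q10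
  have m_dd : y.1 1 1 * y.1 1 1 ∈ κ := key _ m_dd'
  have m_ad : y.1 0 0 * y.1 1 1 ∈ κ := by
    apply key
    have e : lam * (y.1 0 0 * y.1 1 1) = (1 + lam * (y.1 0 0 * y.1 1 1)
      + lam * (y.1 0 1 * y.1 1 1) - y.1 0 0 * y.1 1 0) - 1 - lam * (y.1 0 1 * y.1 1 1)
      + y.1 0 0 * y.1 1 0 := by ring
    rw [e]
    exact κ.add_mem (κ.sub_mem (κ.sub_mem r00 κ.one_mem) m_bd') m_ac
  have m_ab : y.1 0 0 * y.1 0 1 ∈ κ := by
    apply key
    have e : lam * (y.1 0 0 * y.1 0 1) = y.1 0 0 * y.1 0 0 - lam * (y.1 0 1 * y.1 0 1)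
      - (y.1 0 0 * y.1 0 0 - lam * (y.1 0 0 * y.1 0 1) - lam * (y.1 0 1 * y.1 0 1)) := by ring
    rw [e]
    exact κ.sub_mem (κ.sub_mem m_aa m_bb') r01
  have m_cd : y.1 1 0 * y.1 1 1 ∈ κ := by
    apply key
    have e : lam * (y.1 1 0 * y.1 1 1) = (lam * (y.1 1 0 * y.1 1 1)
      + lam * (y.1 1 1 * y.1 1 1) - y.1 1 0 * y.1 1 0) - lam * (y.1 1 1 * y.1 1 1)
      + y.1 1 0 * y.1 1 0 := by ring
    rw [e]
    exact κ.add_mem (κ.sub_mem r10 m_dd') m_cc
  have m_bc : y.1 0 1 * y.1 1 0 ∈ κ := by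
    apply key
    have e : lam * (y.1 0 1 * y.1 1 0) = 1 - lam * (y.1 0 1 * y.1 1 1) + y.1 0 0 * y.1 1 0
      - (1 - lam * (y.1 0 1 * y.1 1 0) - lam * (y.1 0 1 * y.1 1 1) + y.1 0 0 * y.1 1 0) := by ring
    rw [e]
    exact κ.sub_mem (κ.add_mem (κ.sub_mem κ.one_mem m_bd') m_ac) r11
  by_cases ha0 : y.1 0 0 = 0
  · have hc0 : y.1 1 0 ≠ 0 := by
      intro h
      rw [ha0, h] at hd
      simp at hd
    refine ⟨y.1 1 0, hc0, ?_, ?_, ?_, ?_⟩
    · rw [mul_comm]; exact m_ac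
    · rw [mul_comm]; exact m_bc
    · exact m_cc
    · exact m_cd
  · exact ⟨y.1 0 0, ha0, m_aa, m_ab, m_ac, m_ad⟩

/-- **The normalised subfield case.** -/
theorem unip_norm [Fintype F] (p : ℕ) [Fact p.Prime] [CharP F p] (h2 : (2 : F) ≠ 0)
    (k : Subfield F) (hq : 3 < Nat.card k) (Y : Subgroup SL(2, F)) (hY : MaxIn k Y)
    (hp : p ∣ Nat.card Y) (lam : F) (hlam0 : lam ≠ 0) (hu : u 1 ∈ Y) (hl : l lam ∈ Y)
    (A1 : ∀ κ : Subfield F, κ ≤ k → κ ≠ k →
      (∀ κ' : Subfield F, κ ≤ κ' → κ' ≤ k → κ' = κ ∨ κ' = k) →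
      ∃ r : ℕ, r.Prime ∧ Nat.card k = Nat.card κ ^ r)
    (A2 : ∀ κ : Subfield F, κ ≤ k → Nat.card k = Nat.card κ ^ 2 → Pk κ ≤ Sk k) :
    ∃ (κ : Subfield F) (r : ℕ), r.Prime ∧ Odd r ∧ Nat.card k = Nat.card κ ^ r ∧ Y = Pk κ ∧
      Pk κ ≠ Sk κ := by
  classical
  haveI : Finite SL(2, F) := finite_SL
  haveI : Finite (Matrix.ProjectiveSpecialLinearGroup (Fin 2) F) :=
    Finite.of_surjective _ proj_surj
  have hpp : p.Prime := Fact.out
  have hp2 : p ≠ 2 := by
    rintro rfl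
    apply h2
    have := CharP.cast_eq_zero F 2
    exact_mod_cast this
  have hpodd : Odd p := hpp.odd_of_ne_two hp2
  have huS : u (1 : F) ∈ Sk k := u_mem_Sk k.one_mem
  have hlp : (l lam) ^ p = 1 := pow_char_eq_one p (l lam) (by rw [tr_def, l00, l11]; norm_num)
  have hlS : l lam ∈ Sk k := odd_mem_Sk k _ (hY.le hl) p hpodd hlp
  obtain ⟨X₀, hX₀⟩ : ∃ X₀ : Subgroup SL(2, F), X₀ = Y ⊓ Sk k := ⟨_, rfl⟩
  have hX₀Y : X₀ ≤ Y := by rw [hX₀]; exact inf_le_left
  have hX₀S : X₀ ≤ Sk k := by rw [hX₀]; exact inf_le_right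
  have hneg₀ : negOne ∈ X₀ := by rw [hX₀]; exact ⟨hY.neg, negOne_mem_Sk k⟩
  have hu₀ : u (1 : F) ∈ X₀ := by rw [hX₀]; exact ⟨hu, huS⟩
  have hl₀ : l lam ∈ X₀ := by rw [hX₀]; exact ⟨hl, hlS⟩
  have hcard2 : Nat.card Y = 2 * Nat.card X₀ := by
    rw [hX₀]; exact card_inf_Sk h2 k Y hY.le hY.not_le
  obtain ⟨κ₀, hκ₀⟩ : ∃ κ₀ : Subfield F, κ₀ = Subfield.closure {t | ∃ x ∈ X₀, tr x = t} :=
    ⟨_, rfl⟩
  have htrκ : ∀ x ∈ X₀, tr x ∈ κ₀ := by
    intro x hx; rw [hκ₀]; exact Subfield.subset_closure ⟨x, hx, rfl⟩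
  have hκ₀k : κ₀ ≤ k := by
    rw [hκ₀, Subfield.closure_le]
    rintro t ⟨x, hx, rfl⟩
    exact tr_mem_of_Sk k x (hX₀S hx)
  have hlamκ : lam ∈ κ₀ := by
    have h1 := htrκ _ (X₀.mul_mem hu₀ hl₀)
    have e : tr (u 1 * l lam) = 2 + lam := by
      rw [tr_def, mul00, mul11, u00, u01, u10, u11, l00, l01, l10, l11]; ring
    rw [e] at h1
    have := κ₀.sub_mem h1 (two_mem κ₀)
    rwa [add_sub_cancel_left] at this
  have huκ : u (1 : F) ∈ Sk κ₀ := u_mem_Sk κ₀.one_mem
  have hlκ : l lam ∈ Sk κ₀ := l_mem_Sk hlamκ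
  have hX₀κ : X₀ ≤ Sk κ₀ := by
    intro x hx
    have := frame_ul lam hlam0 κ₀ huκ hlκ 1 x (by rw [one_mul]; exact htrκ x hx)
      (by rw [one_mul]; exact htrκ _ (X₀.mul_mem hu₀ hx))
      (by rw [one_mul]; exact htrκ _ (X₀.mul_mem hl₀ hx))
      (by rw [one_mul]; exact htrκ _ (X₀.mul_mem (X₀.mul_mem hu₀ hl₀) hx))
    simp only [one_mul] at this
    exact this
  have hYκ : Y ≤ Pk κ₀ := by
    intro y hy
    have hconj : ∀ s ∈ X₀, y * s * y⁻¹ ∈ Sk κ₀ := by
      intro s hs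
      apply hX₀κ
      rw [hX₀]
      exact ⟨Y.mul_mem (Y.mul_mem hy (hX₀Y hs)) (Y.inv_mem hy),
        conj_mem_Sk h2 k y s (hY.le hy) (hX₀S hs)⟩
    exact mem_Pk_of_conj κ₀ lam hlam0 hlamκ y (hconj _ hu₀) (hconj _ hl₀)
      (hconj _ (X₀.mul_mem hu₀ hl₀))
  rcases hY.max (Pk κ₀) hYκ (Pk_mono hκ₀k) with hPY | hPk
  · -- `Y = Pk κ₀`
    have hκne : κ₀ ≠ k := by
      intro h
      apply hY.not_ge
      rw [← hPY, h]; exact Sk_le_Pk k
    have hmax : ∀ κ' : Subfield F, κ₀ ≤ κ' → κ' ≤ k → κ' = κ₀ ∨ κ' = k := by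
      intro κ' h1 h2'
      rcases hY.max (Pk κ') (by rw [← hPY]; exact Pk_mono h1) (Pk_mono h2') with h | h
      · left
        exact le_antisymm (le_of_Sk_le_Pk (by rw [hPY, ← h]; exact Sk_le_Pk κ')) h1
      · right
        exact le_antisymm h2' (le_of_Sk_le_Pk (by rw [h]; exact Sk_le_Pk k))
    obtain ⟨r, hr, hkr⟩ := A1 κ₀ hκ₀k hκne hmax
    have hr2 : r ≠ 2 := by
      rintro rfl
      apply hY.not_le
      rw [← hPY]; exact A2 κ₀ hκ₀k hkr
    have hne : Pk κ₀ ≠ Sk κ₀ := by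
      intro h
      apply hY.not_le
      rw [← hPY, h]; exact Sk_mono hκ₀k
    exact ⟨κ₀, r, hr, hr.odd_of_ne_two hr2, hkr, hPY.symm, hne⟩
  · -- the trace field of `X₀` is `k`: impossible
    exfalso
    have hkκ : k ≤ κ₀ := le_of_Sk_le_Pk (by rw [hPk]; exact Sk_le_Pk k)
    have hfield : ∀ κ₁ : Subfield F, (∀ x ∈ X₀, tr x ∈ κ₁) → k ≤ κ₁ := by
      intro κ₁ h
      refine hkκ.trans ?_
      rw [hκ₀, Subfield.closure_le]
      rintro t ⟨x, hx, rfl⟩
      exact h x hx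
    rcases main p h2 Y hp with hB | ⟨φ, k₁, h1, h2'⟩ | ⟨h3, φ, i, hi, hle, hne⟩
    · exact not_borel_of_u_l Y lam hlam0 hu hl hB
    · -- sandwich
      have hpowinj : ∀ (x : SL(2, F)) (n : ℕ), (φ x) ^ n = 1 → x ^ n = 1 := by
        intro x n h
        apply φ.injective
        rw [map_pow, h, map_one]
      have hSk₁ : Sk k₁ ≤ X₀.map φ.toMonoidHom := by
        apply Sk_le_of_u_l
        · intro z hz
          obtain ⟨y, hy, hyz⟩ := h1 (u_mem_Sk hz)
          have hyz' : φ y = u z := hyz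
          have hyp : y ^ p = 1 := by
            apply hpowinj
            rw [hyz']
            exact pow_char_eq_one p (u z) (by rw [tr_def, u00, u11]; norm_num)
          exact ⟨y, by rw [hX₀]; exact ⟨hy, odd_mem_Sk k y (hY.le hy) p hpodd hyp⟩, hyz⟩
        · intro z hz
          obtain ⟨y, hy, hyz⟩ := h1 (l_mem_Sk hz)
          have hyz' : φ y = l z := hyz
          have hyp : y ^ p = 1 := by
            apply hpowinj
            rw [hyz']
            exact pow_char_eq_one p (l z) (by rw [tr_def, l00, l11]; norm_num)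
          exact ⟨y, by rw [hX₀]; exact ⟨hy, odd_mem_Sk k y (hY.le hy) p hpodd hyp⟩, hyz⟩
      have hc1 : Nat.card (X₀.map φ.toMonoidHom) = Nat.card X₀ := card_map_equiv X₀ φ
      have hc2 : Nat.card (Y.map φ.toMonoidHom) = Nat.card Y := card_map_equiv Y φ
      have hc3 : Nat.card Y ≤ 2 * Nat.card (Sk k₁) := by
        rw [← hc2]
        exact (Subgroup.card_le_of_le h2').trans (card_Pk_le h2 k₁)
      have hX₀eq : X₀.map φ.toMonoidHom = Sk k₁ := by
        symm
        apply Subgroup.eq_of_le_of_card_ge hSk₁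
        rw [hc1]; omega
      obtain ⟨j, hj⟩ : ∃ j, Nat.card k₁ = p ^ j := by
        obtain ⟨n, -, hn⟩ := FiniteField.card F p
        obtain ⟨m, hm⟩ := exists_pow k₁
        have hm0 : m ≠ 0 := by
          rintro rfl
          rw [pow_zero, Nat.card_eq_fintype_card] at hm
          have := Fintype.one_lt_card (α := F)
          omega
        have hdvd : Nat.card k₁ ∣ p ^ (n : ℕ) := by
          rw [← hn, ← Nat.card_eq_fintype_card, hm]
          exact dvd_pow_self _ hm0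
        obtain ⟨j, -, hj⟩ := (Nat.dvd_prime_pow hpp).1 hdvd
        exact ⟨j, hj⟩
      have hq1 : 1 ≤ Nat.card k₁ := Nat.card_pos
      have htr₁ : ∀ x ∈ X₀, tr x ∈ k₁ := by
        intro x hx
        have hφx : φ x ∈ Sk k₁ := by rw [← hX₀eq]; exact ⟨x, hx, rfl⟩
        rcases ord_cases p h2 k₁ (φ x) hφx with h | h | h | h
        · have hx1 : x ^ (Nat.card k₁ - 1) = 1 := hpowinj x _ h
          have hx2 : x ^ Nat.card k₁ = x := by
            have : Nat.card k₁ = (Nat.card k₁ - 1) + 1 := by omega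
            rw [this, pow_succ, hx1, one_mul]
          apply mem_of_pow_card
          rw [hj, ← tr_pow_char_pow p h2 x j, ← hj, hx2]
        · have hx1 : x ^ (Nat.card k₁ + 1) = 1 := hpowinj x _ h
          have hx2 : x ^ Nat.card k₁ = x⁻¹ := by
            rw [pow_succ] at hx1
            exact eq_inv_of_mul_eq_one_left hx1
          apply mem_of_pow_card
          rw [hj, ← tr_pow_char_pow p h2 x j, ← hj, hx2, tr_inv]
        · have hx1 : x ^ p = 1 := hpowinj x _ h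
          have := tr_eq_two_of_pow p x 1 (by rw [pow_one]; exact hx1)
          rw [this]; exact two_mem k₁
        · have hx1 : (negOne * x) ^ p = 1 := by
            apply hpowinj
            rw [map_mul, map_negOne h2 φ,
              Commute.mul_pow (show Commute negOne (φ x) from negOne_comm _) p,
              negOne_pow_odd p hpodd, h, negOne_mul_negOne]
          have := tr_eq_two_of_pow p (negOne * x) 1 (by rw [pow_one]; exact hx1)
          rw [tr_negOne_mul] at this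
          have e : tr x = -2 := by linear_combination -this
          rw [e]; exact k₁.neg_mem (two_mem k₁)
      have hkk₁ : k ≤ k₁ := hfield k₁ htr₁
      have hcle : Nat.card k ≤ Nat.card k₁ :=
        Nat.card_le_card_of_injective (Subfield.inclusion hkk₁) (Subfield.inclusion hkk₁).injective
      have hSle : Nat.card (Sk k) ≤ Nat.card (Sk k₁) := by
        rw [card_Sk, card_Sk]
        exact Nat.mul_le_mul hcle (Nat.sub_le_sub_right (Nat.pow_le_pow_left hcle 2) 1)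
      have hX₀eq' : X₀ = Sk k := by
        apply Subgroup.eq_of_le_of_card_ge hX₀S
        rw [← hc1, hX₀eq]; exact hSle
      apply hY.not_ge
      rw [← hX₀eq']; exact hX₀Y
    · -- the residual case in characteristic 3
      have hp3 : p = 3 := by
        have h3' : ((3 : ℕ) : F) = 0 := by exact_mod_cast h3
        have := (CharP.cast_eq_zero_iff F p 3).1 h3'
        exact (Nat.prime_dvd_prime_iff_eq hpp Nat.prime_three).1 this
      have hneg' : negOne ∈ Y.map φ.toMonoidHom := ⟨negOne, hY.neg, map_negOne h2 φ⟩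
      obtain ⟨hd720, hle60⟩ := card_le_sixty h2 h3 i hi (Y.map φ.toMonoidHom) hneg' hle hne
      rw [card_map_equiv] at hd720
      have hcY' : Nat.card (Y.map φ.toMonoidHom) =
          2 * Nat.card ((Y.map φ.toMonoidHom).map proj) := by
        have := card_comap h2 ((Y.map φ.toMonoidHom).map proj)
        rwa [comap_map_proj _ hneg'] at this
      rw [card_map_equiv] at hcY'
      obtain ⟨H, hH⟩ : ∃ H, H = X₀.map proj := ⟨_, rfl⟩
      have hcomapH : H.comap proj = X₀ := by rw [hH]; exact comap_map_proj X₀ hneg₀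
      have hcH : Nat.card X₀ = 2 * Nat.card H := by
        have := card_comap h2 H
        rwa [hcomapH] at this
      have hpX₀ : p ∣ Nat.card X₀ := by
        have h1 : p ∣ 2 * Nat.card X₀ := by rw [← hcard2]; exact hp
        exact (Nat.Coprime.dvd_mul_left
          (by rw [Nat.coprime_primes hpp Nat.prime_two]; exact hp2)).1 h1
      have hdH : Nat.card H ∣ 360 := by
        obtain ⟨c, hc⟩ := hd720
        have h4 : 4 * (Nat.card H * c) = 4 * 180 := by
          have : 720 = 4 * (Nat.card H * c) := by rw [hc, hcard2, hcH]; ring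
          omega
        have h5 : Nat.card H * c = 180 := Nat.eq_of_mul_eq_mul_left (by norm_num) h4
        exact (Dvd.intro c h5).trans (by norm_num)
      have hleH : Nat.card H ≤ 60 := by omega
      have hnb : ¬ ∃ g : SL(2, F), ∀ y ∈ H.comap proj, (g * y * g⁻¹).1 1 0 = 0 := by
        rw [hcomapH]; exact not_borel_of_u_l X₀ lam hlam0 hu₀ hl₀
      have hHcases := Cfsg.Agent.Lib.Helper6.Dk3.case_unip p h2 hp3 H
        (by rw [hcomapH]; exact hpX₀) hnb hdH hleH
      have eA4 : Nonempty (H ≃* alternatingGroup (Fin 4)) := by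
        rcases hHcases with h | ⟨⟨e'⟩⟩ | ⟨⟨e'⟩⟩
        · exact h
        · exfalso
          have := Nat.card_congr e'.toEquiv
          rw [card_S4] at this
          rw [hcard2, hcH, this] at hd720
          norm_num at hd720
        · exfalso
          have := Nat.card_congr e'.toEquiv
          rw [card_A5] at this
          omega
      obtain ⟨eH⟩ := eA4
      obtain ⟨hHord, -⟩ := a4_facts eH
      have htr₁ : ∀ x ∈ X₀, tr x ∈ fixP F p hp2 1 := by
        intro x hx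
        apply small_mem
        obtain ⟨g, hg⟩ : ∃ g : H, proj x = g.1 := ⟨⟨proj x, by rw [hH]; exact ⟨x, hx, rfl⟩⟩, rfl⟩
        rcases hHord g with h | h
        · rcases lift_two h2 x (lift_pow H x g hg 2 h) with h' | h' | h'
          · left; rw [h', tr_one]
          · right; left; rw [h', tr_negOne]
          · right; right; left; exact h'
        · rcases lift_pow H x g hg 3 h with h' | h'
          · left
            exact tr_eq_two_of_pow p x 1 (by rw [pow_one, hp3]; exact h')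
          · right; left
            have hx1 : (negOne * x) ^ p = 1 := by
              rw [hp3, Commute.mul_pow (show Commute negOne x from negOne_comm x) 3,
                negOne_pow_odd 3 ⟨1, rfl⟩, h', negOne_mul_negOne]
            have := tr_eq_two_of_pow p (negOne * x) 1 (by rw [pow_one]; exact hx1)
            rw [tr_negOne_mul] at this
            linear_combination -this
      have hk1 := hfield _ htr₁
      have hck : Nat.card k ≤ p := by
        apply card_le_of_fix (F := k) p hpp.one_lt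
        intro x
        have := hk1 x.2
        rw [mem_fixP, pow_one] at this
        exact Subtype.ext this
      omega

/-- **The subfield case.** -/
theorem case_unipotent [Fintype F] (p : ℕ) [Fact p.Prime] [CharP F p] (h2 : (2 : F) ≠ 0)
    (k : Subfield F) (hq : 3 < Nat.card k) (Y : Subgroup SL(2, F)) (hY : MaxIn k Y)
    (hp : p ∣ Nat.card Y) (hB : ¬ ∃ g : SL(2, F), ∀ y ∈ Y, (g * y * g⁻¹).1 1 0 = 0)
    (A1 : ∀ κ : Subfield F, κ ≤ k → κ ≠ k →
      (∀ κ' : Subfield F, κ ≤ κ' → κ' ≤ k → κ' = κ ∨ κ' = k) →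
      ∃ r : ℕ, r.Prime ∧ Nat.card k = Nat.card κ ^ r)
    (A2 : ∀ κ : Subfield F, κ ≤ k → Nat.card k = Nat.card κ ^ 2 → Pk κ ≤ Sk k) :
    ∃ (κ : Subfield F) (r : ℕ), r.Prime ∧ Odd r ∧ Nat.card k = Nat.card κ ^ r ∧
      Nonempty (Y.map proj ≃* Matrix.ProjGenLinGroup (Fin 2) κ) := by
  classical
  haveI : Finite SL(2, F) := finite_SL
  have hpp : p.Prime := Fact.out
  have hp2 : p ≠ 2 := by
    rintro rfl
    apply h2
    have := CharP.cast_eq_zero F 2
    exact_mod_cast this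
  have hpodd : Odd p := hpp.odd_of_ne_two hp2
  rcases unip_dichotomy p Y hp with hB' | ⟨g, a, c, ha, hc, hua, hlc⟩
  · exact absurd hB' hB
  obtain ⟨A, hA⟩ : ∃ A, A = g⁻¹ * u a * g := ⟨_, rfl⟩
  obtain ⟨B, hBdef⟩ : ∃ B, B = g⁻¹ * l c * g := ⟨_, rfl⟩
  rw [← hA] at hua
  rw [← hBdef] at hlc
  have htrA : tr A = 2 := by
    have := tr_conj g⁻¹ (u a)
    rw [inv_inv] at this
    rw [hA, this, tr_def, u00, u11]; norm_num
  have htrB : tr B = 2 := by
    have := tr_conj g⁻¹ (l c)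
    rw [inv_inv] at this
    rw [hBdef, this, tr_def, l00, l11]; norm_num
  have hAS : A ∈ Sk k := odd_mem_Sk k A (hY.le hua) p hpodd (pow_char_eq_one p A htrA)
  have hBS : B ∈ Sk k := odd_mem_Sk k B (hY.le hlc) p hpodd (pow_char_eq_one p B htrB)
  obtain ⟨φ, hφ⟩ : ∃ φ : SL(2, F) ≃* SL(2, F), φ = (MulAut.conj g).trans (diagAut a ha) :=
    ⟨_, rfl⟩
  have hφx : ∀ x, φ x = diagConj a ha (g * x * g⁻¹) := by intro x; rw [hφ]; rfl
  have hφA : φ A = u 1 := by
    rw [hφx, hA]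
    have e : g * (g⁻¹ * u a * g) * g⁻¹ = u a := by group
    rw [e, diagConj_u, inv_mul_cancel₀ ha]
  obtain ⟨lam, hlam⟩ : ∃ lam, lam = a * c := ⟨_, rfl⟩
  have hφB : φ B = l lam := by
    rw [hφx, hBdef, hlam]
    have e : g * (g⁻¹ * l c * g) * g⁻¹ = l c := by group
    rw [e, diagConj_l]
  have hφtr : ∀ x, tr (φ x) = tr x := by
    intro x
    rw [hφx, tr_def, diagConj00, diagConj11, ← tr_def, tr_conj]
  have hlam0 : lam ≠ 0 := by rw [hlam]; exact mul_ne_zero ha hc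
  have hlamk : lam ∈ k := by
    have h1 := tr_mem_of_Sk k (A * B) ((Sk k).mul_mem hAS hBS)
    rw [← hφtr, map_mul, hφA, hφB] at h1
    have e : tr (u 1 * l lam) = 2 + lam := by
      rw [tr_def, mul00, mul11, u00, u01, u10, u11, l00, l01, l10, l11]; ring
    rw [e] at h1
    have := k.sub_mem h1 (two_mem k)
    rwa [add_sub_cancel_left] at this
  have hfr : Frame (φ A) (φ B) := by rw [hφA, hφB]; exact frame_ul lam hlam0
  have hPS := map_le_of_frame k φ hφtr A B hAS hBS hfr (by rw [hφA]; exact u_mem_Sk k.one_mem)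
    (by rw [hφB]; exact l_mem_Sk hlamk)
  have hY' : MaxIn k (Y.map φ.toMonoidHom) := hY.map h2 φ hPS.1 hPS.2
  have hu' : u (1 : F) ∈ Y.map φ.toMonoidHom := ⟨A, hua, hφA⟩
  have hl' : l lam ∈ Y.map φ.toMonoidHom := ⟨B, hlc, hφB⟩
  obtain ⟨κ, r, hr, hrodd, hkr, hYκ, hne⟩ := unip_norm p h2 k hq _ hY'
    (by rw [card_map_equiv]; exact hp) lam hlam0 hu' hl' A1 A2
  refine ⟨κ, r, hr, hrodd, hkr, ?_⟩
  obtain ⟨e1⟩ := transport φ Y
  have hrange : κ.subtype.fieldRange = κ := Subfield.fieldRange_subtype κ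
  have hsqrt : ∀ s ∈ κ.subtype.fieldRange, ∃ σ : F, σ ^ 2 = s := by
    rw [hrange]; exact sqrt_of_Pk_ne h2 κ hne
  have e2 := Cfsg.Agent.S5941.pglIso κ.subtype hsqrt
  rw [hrange] at e2
  rw [← hYκ] at e2
  exact ⟨e1.trans e2⟩

end Cfsg.Agent.Lib.Helper6.Pg4
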