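import Mathlib
import Cfsg.Agent.Lib.Helper6.Pg4
import Cfsg.Agent.Lib.Helper10.Pg3
import Cfsg.Agent.Lib.Helper32.PglG

/-!
# Maximal subgroups of `PGL(2, q)`, `q` odd: the assembly (helper6)

`pgl_final` derives the list of maximal subgroups of `PGL(2, q)` not containing `PSL(2, q)` from
the transfer to the model `Sk k ≤ Pk k ≤ SL(2, F')` (hypothesis `hT`) and the dihedral case
(hypothesis `hD`); the other cases are `Pg2.case_borel`, `Pg4.case_unipotent`, `Pg5.case_exc`,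
with the group-theoretic exclusions of `Helper32.PglG` and the field theory of `Helper10.Pg3`.
-/

set_option autoImplicit false
set_option linter.unusedSimpArgs false
set_option linter.unusedVariables false
set_option linter.unusedSectionVars false
set_option linter.style.haveILetI false
set_option linter.unnecessarySeqFocus false
set_option linter.unreachableTactic false
set_option linter.unusedTactic false

namespace Cfsg.Agent.Lib.Helper6.Pg9

open Matrix MatrixGroups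
open Cfsg.Agent.Lib.Helper98.SL2Sub
open Cfsg.Agent.Lib.Helper98.PSL2Max
open Cfsg.Agent.S5941 (Pk)
open Cfsg.Agent.Lib.Helper6.Pg1 Cfsg.Agent.Lib.Helper6.Pg2 Cfsg.Agent.Lib.Helper6.Pg4
  Cfsg.Agent.Lib.Helper6.Pg5

theorem pgl_final {F : Type*} [Field F] [Fintype F]
    (hodd : Odd (Fintype.card F)) (h3 : 3 < Fintype.card F)
    (M : Subgroup (Matrix.ProjGenLinGroup (Fin 2) F)) (hM : IsCoatom M)
    (hML : ¬ (Matrix.ProjGenLinGroup.mk.comp Matrix.SpecialLinearGroup.toGL).range ≤ M)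
    (hT : ∃ (F' : Type) (_ : Field F') (_ : Fintype F') (k : Subfield F')
      (Y : Subgroup SL(2, F')), (2 : F') ≠ 0 ∧ Nat.card k = Fintype.card F ∧ MaxIn k Y ∧
        Nonempty (M ≃* Y.map (proj (F := F'))))
    (hD : ∀ (F' : Type) [Field F'] [Fintype F'] (p : ℕ) [Fact p.Prime] [CharP F' p]
      (h2 : (2 : F') ≠ 0) (k : Subfield F') (Y : Subgroup SL(2, F')) (hY : MaxIn k Y)
      (hp : ¬ p ∣ Nat.card Y) (hsq : ∀ x ∈ Y, ∀ y ∈ Y, x ^ 2 * y ^ 2 = y ^ 2 * x ^ 2),
      Nat.card Y ≤ 4 ∨ Nonempty (Y.map proj ≃* DihedralGroup (Nat.card k - 1)) ∨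
        Nonempty (Y.map proj ≃* DihedralGroup (Nat.card k + 1))) :
    Nat.card M = Fintype.card F * (Fintype.card F - 1) ∨
    (Fintype.card F ≠ 5 ∧ Nonempty (M ≃* DihedralGroup (Fintype.card F - 1))) ∨
    Nonempty (M ≃* DihedralGroup (Fintype.card F + 1)) ∨
    ((Fintype.card F).Prime ∧ (Fintype.card F % 8 = 3 ∨ Fintype.card F % 8 = 5) ∧
      Nonempty (M ≃* Equiv.Perm (Fin 4))) ∨
    (∃ (F₀ : Type) (_ : Field F₀) (_ : Fintype F₀) (r : ℕ), r.Prime ∧ Odd r ∧
      Fintype.card F = Fintype.card F₀ ^ r ∧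
        Nonempty (M ≃* Matrix.ProjGenLinGroup (Fin 2) F₀)) := by
  classical
  obtain ⟨F', _, _, k, Y, h2, hk, hY, ⟨e⟩⟩ := hT
  obtain ⟨p, hpc⟩ := CharP.exists F'
  haveI := hpc
  haveI : Fact p.Prime := ⟨CharP.char_is_prime F' p⟩
  haveI : Finite SL(2, F') := finite_SL
  have hcomap : (Y.map proj).comap proj = Y := comap_map_proj Y hY.neg
  have hcard : Nat.card Y = 2 * Nat.card M := by
    rw [Nat.card_congr e.toEquiv, ← card_comap h2 (Y.map proj), hcomap]
  by_cases hp : p ∣ Nat.card Y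
  · by_cases hB : ∃ g : SL(2, F'), ∀ y ∈ Y, (g * y * g⁻¹).1 1 0 = 0
    · left
      have := Cfsg.Agent.Lib.Helper6.Pg2.case_borel p h2 k Y hY hp hB
      rw [hcard, hk] at this
      exact Nat.eq_of_mul_eq_mul_left (by norm_num) this
    · right; right; right; right
      obtain ⟨κ, r, hr, hrodd, hkr, ⟨e'⟩⟩ := case_unipotent p h2 k (by rw [hk]; exact h3) Y hY hp hB
        (fun κ hle hne hmax => Cfsg.Agent.Lib.Helper10.Pg3.exists_prime_degree κ k hle hne hmax)
        (fun κ hle hc => Cfsg.Agent.Lib.Helper10.Pg3.Pk_le_Sk_of_card_sq h2 κ k hle hc)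
      haveI : Fintype κ := Fintype.ofFinite κ
      refine ⟨κ, inferInstance, inferInstance, r, hr, hrodd, ?_, ⟨e.trans e'⟩⟩
      rw [← hk, hkr, Nat.card_eq_fintype_card]
  · by_cases hsq : ∀ x ∈ Y, ∀ y ∈ Y, x ^ 2 * y ^ 2 = y ^ 2 * x ^ 2
    · rcases hD F' p h2 k Y hY hp hsq with h | ⟨⟨e'⟩⟩ | ⟨⟨e'⟩⟩
      · exfalso
        have := Cfsg.Agent.Lib.Helper32.PglG.no_small hodd h3 M hM
        omega
      · right; left
        rw [hk] at e'
        refine ⟨?_, ⟨e.trans e'⟩⟩
        intro h5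
        rw [h5] at e'
        exact Cfsg.Agent.Lib.Helper32.PglG.not_dih_five h5 M hM hML (e.trans e')
      · right; right; left
        rw [hk] at e'
        exact ⟨e.trans e'⟩
    · right; right; right; left
      obtain ⟨hkp, ⟨e'⟩⟩ := case_exc p h2 k Y hY hp hsq
      refine ⟨?_, Cfsg.Agent.Lib.Helper32.PglG.s4_mod8 hodd h3 M hM hML (e.trans e'),
        ⟨e.trans e'⟩⟩
      rw [← hk, hkp]; exact Fact.out

end Cfsg.Agent.Lib.Helper6.Pg9
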