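import Mathlib
import Cfsg.Agent.Lib.Helper6.Pq1
import Cfsg.Agent.Lib.Helper6.Mx4
import Cfsg.Agent.Lib.Helper32.PglG
import Cfsg.Agent.S5892

/-!
# `M ∩ L` maximal in `L`: the `Z` side (helper6)

A maximal subgroup `Z` of `L = PSL(2, q) ≤ PGL(2, q)` has `ZType` (numerical shadow of the list
of statement S5892).
-/

set_option autoImplicit false
set_option linter.unusedSimpArgs false
set_option linter.unusedVariables false
set_option linter.unusedSectionVars false
set_option linter.style.haveILetI false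
set_option linter.unnecessarySeqFocus false
set_option linter.unreachableTactic false
set_option linter.unusedTactic false

namespace Cfsg.Agent.Lib.Helper6.Pq3

open Cfsg.Agent.Lib.Helper6.Pq1 Cfsg.Agent.Lib.Helper32.PglG

section general

/-- the preimage of a subgroup under an isomorphism is isomorphic to it -/
noncomputable def comapEquiv {A B : Type*} [Group A] [Group B] (e : A ≃* B) (K : Subgroup B) :
    ↥(K.comap e.toMonoidHom) ≃* ↥K where
  toFun x := ⟨e x.1, x.2⟩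
  invFun y := ⟨e.symm y.1, by
    show e (e.symm y.1) ∈ K
    rw [e.apply_symm_apply]
    exact y.2⟩
  left_inv x := by
    apply Subtype.ext
    simp
  right_inv y := by
    apply Subtype.ext
    simp
  map_mul' x y := by
    apply Subtype.ext
    show e (x.1 * y.1) = e x.1 * e y.1
    exact map_mul e _ _

/-- squares commute in a dihedral group -/
theorem dih_sq_comm (n : ℕ) (x y : DihedralGroup n) : x ^ 2 * y ^ 2 = y ^ 2 * x ^ 2 := by
  rcases x with i | i <;> rcases y with j | j <;>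
    simp [pow_two, DihedralGroup.r_mul_r, DihedralGroup.sr_mul_self, add_comm, add_left_comm]

variable {G : Type*} [Group G]

/-- transport of "squares commute" -/
theorem sq_comm_of_equiv (Z : Subgroup G) {H : Type*} [Group H] (ψ : Z ≃* H)
    (h : ∀ x y : H, x ^ 2 * y ^ 2 = y ^ 2 * x ^ 2) :
    ∀ x ∈ Z, ∀ y ∈ Z, x ^ 2 * y ^ 2 = y ^ 2 * x ^ 2 := by
  intro x hx y hy
  have h1 := h (ψ ⟨x, hx⟩) (ψ ⟨y, hy⟩)
  rw [← map_pow, ← map_pow, ← map_mul, ← map_mul] at h1
  have h2 := ψ.injective h1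
  have h3 := congrArg Subtype.val h2
  simpa using h3

/-- transport of a power-alternative property -/
theorem pow_of_equiv (Z : Subgroup G) {H : Type*} [Group H] (ψ : Z ≃* H) (a b c : ℕ)
    (h : ∀ x : H, x ^ a = 1 ∨ x ^ b = 1 ∨ x ^ c = 1) :
    ∀ g ∈ Z, g ^ a = 1 ∨ g ^ b = 1 ∨ g ^ c = 1 := by
  intro g hg
  have key : ∀ n : ℕ, ψ ⟨g, hg⟩ ^ n = 1 → g ^ n = 1 := by
    intro n hn
    rw [← map_pow, ← map_one ψ] at hn
    have h2 := ψ.injective hn
    have h3 := congrArg Subtype.val h2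
    simpa using h3
  rcases h (ψ ⟨g, hg⟩) with h1 | h1 | h1
  · exact Or.inl (key a h1)
  · exact Or.inr (Or.inl (key b h1))
  · exact Or.inr (Or.inr (key c h1))

/-- in a subgroup of index two (by cardinality) squares lie in the subgroup -/
theorem sq_mem_of_card [Finite G] (H : Subgroup G) (hc : Nat.card G = 2 * Nat.card H) (x : G) :
    x * x ∈ H := by
  apply Subgroup.mul_self_mem_of_index_two
  have h := H.card_mul_index
  have hpos : 0 < Nat.card H := Nat.card_pos
  rw [hc] at h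
  have : Nat.card H * H.index = Nat.card H * 2 := by rw [h]; ring
  exact Nat.eq_of_mul_eq_mul_left hpos this

/-- an element of order dividing three is the square of its square -/
theorem four_of_cube {Z : Type*} [Group Z] (x : Z) (h : x ^ 3 = 1) : x * x * (x * x) = x := by
  have h1 : x * x * (x * x) = x ^ 3 * x := by
    simp only [pow_succ, pow_zero, one_mul, mul_assoc]
  rw [h1, h, one_mul]

/-- a group isomorphic to `A₄` has no subgroup of order 6 -/
theorem no_six_aux {Z : Type*} [Group Z] [Finite Z] (e : Z ≃* alternatingGroup (Fin 4))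
    (W : Subgroup Z) : Nat.card W ≠ 6 := by
  intro h6
  have h12 : Nat.card Z = 12 := by
    rw [Nat.card_congr e.toEquiv]
    exact Cfsg.Agent.Lib.Helper6.Mx4.card_A4
  obtain ⟨-, a, b, ha1, ha2, hb1, hb3, hab1, hab3⟩ := Cfsg.Agent.Lib.Helper6.Mx1.a4_facts e
  have hsqW : ∀ x : Z, x * x ∈ W := sq_mem_of_card W (by rw [h12, h6])
  have hbW : b ∈ W := by
    have h := hsqW (b * b)
    rwa [four_of_cube b hb3] at h
  have habW : a * b ∈ W := by
    have h := hsqW (a * b * (a * b))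
    rwa [four_of_cube (a * b) hab3] at h
  -- the subgroup generated by `b` inside `W`
  have hob : orderOf b = 3 := by
    haveI : Fact (Nat.Prime 3) := ⟨by norm_num⟩
    exact orderOf_eq_prime hb3 hb1
  let b' : W := ⟨b, hbW⟩
  have hob' : orderOf b' = 3 := by
    rw [← hob]
    exact (Subgroup.orderOf_mk b hbW)
  have hcP : Nat.card (Subgroup.zpowers b') = 3 := by
    rw [Nat.card_zpowers, hob']
  have hsqP : ∀ x : W, x * x ∈ Subgroup.zpowers b' :=
    sq_mem_of_card (Subgroup.zpowers b') (by rw [h6, hcP])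
  have habP : (⟨a * b, habW⟩ : W) ∈ Subgroup.zpowers b' := by
    have h := hsqP (⟨a * b, habW⟩ * ⟨a * b, habW⟩)
    have : (⟨a * b, habW⟩ : W) * ⟨a * b, habW⟩ * (⟨a * b, habW⟩ * ⟨a * b, habW⟩) = ⟨a * b, habW⟩ := by
      apply Subtype.ext
      show a * b * (a * b) * (a * b * (a * b)) = a * b
      exact four_of_cube (a * b) hab3
    rwa [this] at h
  obtain ⟨k, hk⟩ := Subgroup.mem_zpowers_iff.1 habP
  have hk' : b ^ k = a * b := by
    have := congrArg Subtype.val hk
    simpa [b'] using this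
  have ha : a = b ^ (k - 1) := by
    rw [zpow_sub_one, hk']
    group
  have ha3 : a ^ 3 = 1 := by
    rw [ha, ← zpow_natCast, ← zpow_mul, mul_comm, zpow_mul, zpow_natCast, hb3, one_zpow]
  apply ha1
  calc a = a ^ 3 * (a ^ 2)⁻¹ := by group
    _ = 1 := by rw [ha3, ha2]; simp

theorem no_six (Z : Subgroup G) [Finite G] (e : Z ≃* alternatingGroup (Fin 4)) :
    ∀ W : Subgroup G, W ≤ Z → Nat.card W ≠ 6 := by
  intro W hW
  have := no_six_aux e (W.subgroupOf Z)
  rwa [Nat.card_congr (Subgroup.subgroupOfEquivOfLe hW).toEquiv] at this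

end general

/-- the characteristic of a field whose order is a root of the order of `F` -/
theorem charP_of_card {F F₀ : Type*} [Field F] [Fintype F] [Field F₀] [Fintype F₀] (p : ℕ)
    [Fact p.Prime] [CharP F p] (k : ℕ) (h : Fintype.card F = Fintype.card F₀ ^ k) :
    CharP F₀ p := by
  obtain ⟨r, hr⟩ := CharP.exists F₀
  haveI := hr
  have hrp : r.Prime := CharP.char_is_prime F₀ r
  obtain ⟨n, -, hn⟩ := FiniteField.card F₀ r
  obtain ⟨m, -, hm⟩ := FiniteField.card F p
  have hp : p.Prime := Fact.out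
  have h1 : p ∣ (r ^ (n : ℕ)) ^ k := by
    rw [← hn, ← h, hm]
    exact dvd_pow_self p m.ne_zero
  have h2 : p ∣ r := hp.dvd_of_dvd_pow (hp.dvd_of_dvd_pow h1)
  have h3 : p = r := (Nat.prime_dvd_prime_iff_eq hp hrp).1 h2
  rw [h3]
  exact hr

/-- piece ZS: a maximal subgroup of `L = PSL(2, q) ≤ PGL(2, q)` has `ZType` -/
theorem Z_side {F : Type*} [Field F] [Fintype F] (p : ℕ) [Fact p.Prime] [CharP F p]
    (hodd : Odd (Fintype.card F)) (h5 : 5 ≤ Fintype.card F)
    (Z : Subgroup (Matrix.ProjGenLinGroup (Fin 2) F)) (hZL : Z ≤ Lg F)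
    (hZ : IsCoatom (Z.subgroupOf (Lg F)))
    (hORD : ∀ (F₀ : Type) [Field F₀] [Fintype F₀] [CharP F₀ p]
      (g : Matrix.ProjGenLinGroup (Fin 2) F₀),
      g ^ (Fintype.card F₀ - 1) = 1 ∨ g ^ (Fintype.card F₀ + 1) = 1 ∨ g ^ p = 1) :
    ZType (Fintype.card F) p Z := by
  haveI : Finite (Matrix.ProjGenLinGroup (Fin 2) F) := finite_pgl
  obtain ⟨e, he⟩ : ∃ e : Matrix.ProjectiveSpecialLinearGroup (Fin 2) F ≃* Lg F, e = pslEquiv :=
    ⟨_, rfl⟩
  obtain ⟨Z', hZ'def⟩ : ∃ Z' : Subgroup (Matrix.ProjectiveSpecialLinearGroup (Fin 2) F),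
      Z' = (Z.subgroupOf (Lg F)).comap e.toMonoidHom := ⟨_, rfl⟩
  have hZ' : IsCoatom Z' := by
    rw [hZ'def]
    exact Cfsg.Agent.Lib.Helper6.Mx1.isCoatom_comap e.toMonoidHom e.surjective _ hZ
  have φ : Z' ≃* Z := by
    rw [hZ'def]
    exact (comapEquiv e (Z.subgroupOf (Lg F))).trans (Subgroup.subgroupOfEquivOfLe hZL)
  have hcard : Nat.card Z' = Nat.card Z := Nat.card_congr φ.toEquiv
  have key := Cfsg.Agent.S5892.result p hodd h5 Z' hZ'
  unfold ZType
  rcases key with h | ⟨h13, k, hk, ⟨ψ⟩⟩ | ⟨h7, h9, k, hk, ⟨ψ⟩⟩ | ⟨F₀, _, _, hq, ⟨ψ⟩⟩ |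
    ⟨F₀, _, _, r, hr, hro, hq, ⟨ψ⟩⟩ | ⟨h10, hpp, ⟨ψ⟩⟩ | ⟨hqp, h8, hn10, ⟨ψ⟩⟩ | ⟨hqp, h8, ⟨ψ⟩⟩
  · left
    rw [← hcard]
    exact h
  · right; left
    have ψ' : Z ≃* DihedralGroup k := φ.symm.trans ψ
    refine ⟨Or.inl ?_, sq_comm_of_equiv Z ψ' (dih_sq_comm k)⟩
    rw [Nat.card_congr ψ'.toEquiv, DihedralGroup.nat_card]
    exact hk
  · right; left
    have ψ' : Z ≃* DihedralGroup k := φ.symm.trans ψ
    refine ⟨Or.inr ⟨h7, h9, ?_⟩, sq_comm_of_equiv Z ψ' (dih_sq_comm k)⟩
    rw [Nat.card_congr ψ'.toEquiv, DihedralGroup.nat_card]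
    exact hk
  · right; right; left
    have ψ' : Z ≃* Matrix.ProjGenLinGroup (Fin 2) F₀ := φ.symm.trans ψ
    haveI : CharP F₀ p := charP_of_card (F := F) p 2 hq
    refine ⟨Fintype.card F₀, hq, ?_, ?_⟩
    · rw [Nat.card_congr ψ'.toEquiv, card_pgl]
    · exact pow_of_equiv Z ψ' _ _ _ (fun x => hORD F₀ x)
  · right; right; right; left
    have ψ' : Z ≃* Matrix.ProjectiveSpecialLinearGroup (Fin 2) F₀ := φ.symm.trans ψ
    refine ⟨Fintype.card F₀, r, hr, hro, hq, ?_⟩
    rw [Nat.card_congr ψ'.toEquiv]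
    have hc := Cfsg.Agent.Lib.Helper5.SL2Card.card_PSL_two (F := F₀) rfl
    have hodd0 : Odd (Fintype.card F₀) := by
      rw [hq] at hodd
      rw [← Nat.not_even_iff_odd] at hodd ⊢
      intro hev
      exact hodd (Nat.even_pow.2 ⟨hev, hr.ne_zero⟩)
    have hg : Nat.gcd 2 (Fintype.card F₀ - 1) = 2 := by
      apply Nat.gcd_eq_left
      rcases hodd0 with ⟨j, hj⟩
      exact ⟨j, by omega⟩
    rw [hg] at hc
    rw [← hc]
    ring
  · right; right; right; right; left
    have ψ' : Z ≃* alternatingGroup (Fin 5) := φ.symm.trans ψ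
    refine ⟨h10, ?_, ?_, ?_⟩
    · rcases hpp with h | ⟨h, -⟩
      · exact Or.inl h
      · exact Or.inr h
    · rw [Nat.card_congr ψ'.toEquiv]
      exact Cfsg.Agent.Lib.Helper6.Mx1.card_A5
    · intro g hg
      have h := (Cfsg.Agent.Lib.Helper6.Mx1.a5_facts ψ').1 ⟨g, hg⟩
      have key : ∀ n : ℕ, (⟨g, hg⟩ : Z) ^ n = 1 → g ^ n = 1 := by
        intro n hn
        have h3 := congrArg Subtype.val hn
        simpa using h3
      rcases h with h | h | h
      · exact Or.inl (key 2 h)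
      · exact Or.inr (Or.inl (key 3 h))
      · exact Or.inr (Or.inr (key 5 h))
  · right; right; right; right; right; left
    have ψ' : Z ≃* alternatingGroup (Fin 4) := φ.symm.trans ψ
    refine ⟨hqp, h8, hn10, ?_, no_six Z ψ'⟩
    rw [Nat.card_congr ψ'.toEquiv]
    exact Cfsg.Agent.Lib.Helper6.Mx4.card_A4
  · right; right; right; right; right; right
    have ψ' : Z ≃* Equiv.Perm (Fin 4) := φ.symm.trans ψ
    refine ⟨hqp, h8, ?_⟩
    rw [Nat.card_congr ψ'.toEquiv]
    exact Cfsg.Agent.Lib.Helper6.Mx4.card_S4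

end Cfsg.Agent.Lib.Helper6.Pq3
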