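import Mathlib
import Cfsg.Agent.Lib.Helper6.Pq1
import Cfsg.Agent.Lib.Helper32.PglG
import Cfsg.Agent.S5891
import Cfsg.Agent.Lib.Helper6.Mx4

/-!
# `M ∩ L` maximal in `L`: the `M` side (helper6)

For a maximal subgroup `M` of `PGL(2, q)` (q odd) not containing `L`, the intersection `M ∩ L`
has `MType` (numerical shadow of the list of statement S5891).
-/

set_option autoImplicit false
set_option linter.unusedSimpArgs false
set_option linter.unusedVariables false
set_option linter.unusedSectionVars false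
set_option linter.style.haveILetI false
set_option linter.unnecessarySeqFocus false
set_option linter.unreachableTactic false
set_option linter.unusedTactic false

namespace Cfsg.Agent.Lib.Helper6.Pq4

open Cfsg.Agent.Lib.Helper6.Pq1 Cfsg.Agent.Lib.Helper32.PglG

section general

variable {G : Type*} [Group G]

/-- the square of a rotation generator of a dihedral group of even degree -/
theorem dih_elt (M : Subgroup G) (n : ℕ) (hn : Even n) (e : M ≃* DihedralGroup n) :
    ∃ x : M, 2 * orderOf ((x * x : M) : G) = n := by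
  refine ⟨e.symm (DihedralGroup.r 1), ?_⟩
  rw [Subgroup.orderOf_coe, ← map_mul, MulEquiv.orderOf_eq]
  have h1 : (DihedralGroup.r 1 * DihedralGroup.r 1 : DihedralGroup n) = DihedralGroup.r 1 ^ 2 :=
    (pow_two _).symm
  rw [h1, orderOf_pow' _ two_ne_zero, DihedralGroup.orderOf_r_one]
  obtain ⟨k, rfl⟩ := hn
  have h2 : Nat.gcd (k + k) 2 = 2 := Nat.gcd_eq_right ⟨k, by ring⟩
  rw [h2]
  omega

/-- two three-cycles with non-commuting squares in a copy of `S₄` -/
theorem s4_elts (M : Subgroup G) (e : M ≃* Equiv.Perm (Fin 4)) :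
    ∃ a b : M, (a * a) * (a * a) = a ∧ (b * b) * (b * b) = b ∧
      (a : G) ^ 2 * (b : G) ^ 2 ≠ (b : G) ^ 2 * (a : G) ^ 2 := by
  refine ⟨e.symm (Equiv.swap 0 1 * Equiv.swap 1 2), e.symm (Equiv.swap 0 1 * Equiv.swap 1 3),
    ?_, ?_, ?_⟩
  · apply e.injective
    simp only [map_mul, MulEquiv.apply_symm_apply]
    decide
  · apply e.injective
    simp only [map_mul, MulEquiv.apply_symm_apply]
    decide
  · intro h
    have h' : (e.symm (Equiv.swap 0 1 * Equiv.swap 1 2)) ^ 2 *
        (e.symm (Equiv.swap 0 1 * Equiv.swap 1 3)) ^ 2 =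
        (e.symm (Equiv.swap 0 1 * Equiv.swap 1 3)) ^ 2 *
        (e.symm (Equiv.swap 0 1 * Equiv.swap 1 2)) ^ 2 := by
      apply Subtype.ext
      simpa using h
    have h'' := congrArg e h'
    simp only [map_mul, map_pow, MulEquiv.apply_symm_apply] at h''
    revert h''
    decide

end general

/-- piece MS: the `M` side -/
theorem M_side {F : Type*} [Field F] [Fintype F] (hodd : Odd (Fintype.card F))
    (h3 : 3 < Fintype.card F) (M : Subgroup (Matrix.ProjGenLinGroup (Fin 2) F)) (hM : IsCoatom M)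
    (hML : ¬ Lg F ≤ M) :
    MType (Fintype.card F) (M ⊓ Lg F) := by
  haveI : Finite (Matrix.ProjGenLinGroup (Fin 2) F) := finite_pgl
  have hidx : (Lg F).index = 2 := index_L hodd
  have hsq : ∀ x : Matrix.ProjGenLinGroup (Fin 2) F, x * x ∈ Lg F :=
    Subgroup.mul_self_mem_of_index_two hidx
  have hnotle : ¬ M ≤ Lg F := by
    intro hle
    have hLtop : Lg F ≠ ⊤ := by
      intro h
      rw [h, Subgroup.index_top] at hidx
      omega
    rcases eq_or_lt_of_le hle with h | h
    · exact hML (le_of_eq h.symm)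
    · exact hLtop (hM.2 _ h)
  have hrel : (Lg F).relIndex M = 2 := by
    haveI : (Lg F).Normal := Subgroup.normal_of_index_eq_two hidx
    have h1 : (Lg F).relIndex M ∣ 2 := by
      have h0 := Subgroup.relIndex_dvd_index_of_normal (Lg F) M
      rwa [hidx] at h0
    have h2 : (Lg F).relIndex M ≠ 1 := by
      rw [Ne, Subgroup.relIndex_eq_one]
      exact hnotle
    rcases (Nat.dvd_prime Nat.prime_two).1 h1 with h | h
    · exact absurd h h2
    · exact h
  have hcard : Nat.card M = 2 * Nat.card (M ⊓ Lg F : Subgroup (Matrix.ProjGenLinGroup (Fin 2) F)) := by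
    have h := card_inf_mul_relIndex (Lg F) M
    rw [hrel, inf_comm] at h
    omega
  have hmemsq : ∀ x : M, ((x * x : M) : Matrix.ProjGenLinGroup (Fin 2) F) ∈ M ⊓ Lg F :=
    fun x => ⟨(x * x).2, hsq x.1⟩
  have hq2 : Fintype.card F % 2 = 1 := Nat.odd_iff.1 hodd
  unfold MType
  rcases Cfsg.Agent.S5891.result hodd h3 M hM hML with h | ⟨h5, ⟨e⟩⟩ | ⟨⟨e⟩⟩ | ⟨hpr, h8, ⟨e⟩⟩ |
    ⟨F₀, _, _, r, hr, hro, hq, ⟨e⟩⟩
  · left
    rw [← hcard]
    exact h
  · right; left
    have hc := Nat.card_congr e.toEquiv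
    rw [DihedralGroup.nat_card] at hc
    refine ⟨h5, by omega, ?_⟩
    obtain ⟨x, hx⟩ := dih_elt M (Fintype.card F - 1) ⟨(Fintype.card F - 1) / 2, by omega⟩ e
    exact ⟨_, hmemsq x, hx⟩
  · right; right; left
    have hc := Nat.card_congr e.toEquiv
    rw [DihedralGroup.nat_card] at hc
    refine ⟨by omega, ?_⟩
    obtain ⟨x, hx⟩ := dih_elt M (Fintype.card F + 1) ⟨(Fintype.card F + 1) / 2, by omega⟩ e
    exact ⟨_, hmemsq x, hx⟩
  · right; right; right; left
    have hc := Nat.card_congr e.toEquiv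
    rw [Cfsg.Agent.Lib.Helper6.Mx4.card_S4] at hc
    refine ⟨hpr, h8, by omega, ?_⟩
    obtain ⟨a, b, ha, hb, hne⟩ := s4_elts M e
    have haL : (a : Matrix.ProjGenLinGroup (Fin 2) F) ∈ M ⊓ Lg F := by
      have h := hmemsq (a * a)
      rwa [ha] at h
    have hbL : (b : Matrix.ProjGenLinGroup (Fin 2) F) ∈ M ⊓ Lg F := by
      have h := hmemsq (b * b)
      rwa [hb] at h
    exact ⟨_, haL, _, hbL, hne⟩
  · right; right; right; right
    have hc := Nat.card_congr e.toEquiv
    rw [card_pgl] at hc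
    refine ⟨Fintype.card F₀, r, hr, hro, hq, ?_⟩
    rw [← hcard, hc]

end Cfsg.Agent.Lib.Helper6.Pq4
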