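import Mathlib
import Cfsg.Agent.Lib.Helper6.Pq1
import Cfsg.Agent.Lib.Helper6.Pq3
import Cfsg.Agent.Lib.Helper32.PglG
import Cfsg.Agent.Lib.Helper97.PglEV
import Cfsg.Agent.Lib.Helper87.PqNT
import Cfsg.Agent.Lib.Helper67.PglOrd

/-!
# `M ∩ L` is maximal in `L` for maximal subgroups `M` of `PGL(2, q)`: assembly (helper6)

Pieces: `Helper97.PglEV.even_case` (even `q`), `Helper6.Pq3.Z_side` (maximal subgroups of `L`),
`Helper67.PglOrd.pgl_orders` (element orders of `PGL(2, q₀)`), `Helper87.PqNT.nt1 … nt5`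
(numerical comparison); the `M` side (from statement S5891) is a hypothesis here.
-/

set_option autoImplicit false
set_option linter.style.haveILetI false

namespace Cfsg.Agent.Lib.Helper6.Pq9

open Cfsg.Agent.Lib.Helper6.Pq1 Cfsg.Agent.Lib.Helper32.PglG

/-- assembly of S5890 -/
theorem pq_final {F : Type*} [Field F] [Fintype F] (h4 : 4 ≤ Fintype.card F)
    (h7 : Fintype.card F ≠ 7) (h9 : Fintype.card F ≠ 9) (h11 : Fintype.card F ≠ 11)
    (h40 : (Fintype.card F).Prime → Fintype.card F % 40 ∉ ({11, 19, 21, 29} : Finset ℕ))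
    (M : Subgroup (Matrix.ProjGenLinGroup (Fin 2) F)) (hM : IsCoatom M)
    (hML : ¬ Lg F ≤ M)
    (hMS : Odd (Fintype.card F) → MType (Fintype.card F) (M ⊓ Lg F)) :
    IsCoatom ((M ⊓ Lg F).subgroupOf (Lg F)) := by
  rcases Nat.even_or_odd (Fintype.card F) with heven | hodd
  · exact Cfsg.Agent.Lib.Helper97.PglEV.even_case heven M hM
  have h5 : 5 ≤ Fintype.card F := by
    rcases hodd with ⟨k, hk⟩
    omega
  obtain ⟨p, hchar⟩ := CharP.exists F
  haveI := hchar
  haveI : Fact p.Prime := ⟨CharP.char_is_prime F p⟩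
  have hp : p.Prime := Fact.out
  have hq : ∃ n, Fintype.card F = p ^ n := by
    obtain ⟨n, -, hn⟩ := FiniteField.card F p
    exact ⟨n, hn⟩
  haveI : Finite (Matrix.ProjGenLinGroup (Fin 2) F) := finite_pgl
  have hMT := hMS hodd
  apply coatom_of_forall (Lg F) (M ⊓ Lg F) inf_le_right
  · intro h
    apply hML
    rw [← h]
    exact inf_le_left
  intro Z hZL hZ hle
  by_contra hne
  have hZT := Cfsg.Agent.Lib.Helper6.Pq3.Z_side p hodd h5 Z hZL hZ
    (fun F₀ _ _ _ g => Cfsg.Agent.Lib.Helper67.PglOrd.pgl_orders p g)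
  rcases hMT with h | h | h | h | h
  · exact Cfsg.Agent.Lib.Helper87.PqNT.nt1 (Fintype.card F) p hp hq hodd h5 h7 h9 h11 h40 _ Z
      hle hne h hZT
  · exact Cfsg.Agent.Lib.Helper87.PqNT.nt2 (Fintype.card F) p hp hq hodd h5 h7 h9 h11 h40 _ Z
      hle hne h hZT
  · exact Cfsg.Agent.Lib.Helper87.PqNT.nt3 (Fintype.card F) p hp hq hodd h5 h7 h9 h11 h40 _ Z
      hle hne h hZT
  · exact Cfsg.Agent.Lib.Helper87.PqNT.nt4 (Fintype.card F) p hp hq hodd h5 h7 h9 h11 h40 _ Z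
      hle hne h hZT
  · exact Cfsg.Agent.Lib.Helper87.PqNT.nt5 (Fintype.card F) p hp hq hodd h5 h7 h9 h11 h40 _ Z
      hle hne h hZT

end Cfsg.Agent.Lib.Helper6.Pq9
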