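import Mathlib

/-!
# Redundant Sylow subgroups: generic lemmas and transfer through a central quotient
-/

set_option autoImplicit false

namespace Cfsg.Agent.Lib.Helper6.Red1

variable {G : Type*} [Group G]

/-- membership in a conjugate Sylow subgroup -/
theorem mem_smul_sylow {p : ℕ} (g x : G) (P : Sylow p G) :
    x ∈ ((g • P : Sylow p G) : Subgroup G) ↔ g⁻¹ * x * g ∈ (P : Subgroup G) := by
  rw [Sylow.coe_subgroup_smul, Subgroup.mem_pointwise_smul_iff_inv_smul_mem]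
  have e : (MulAut.conj g)⁻¹ • x = g⁻¹ * x * g := by
    rw [MulAut.smul_def, ← map_inv, MulAut.conj_apply, inv_inv]
  rw [e]

/-- elements of a Sylow `p`-subgroup are `p`-elements -/
theorem orderOf_of_mem {p : ℕ} [Fact p.Prime] (P : Sylow p G) {x : G} (hx : x ∈ P) :
    ∃ k : ℕ, orderOf x = p ^ k := by
  obtain ⟨k, hk⟩ := P.isPGroup' ⟨x, hx⟩
  have h1 : x ^ (p ^ k) = 1 := by
    have := congrArg Subtype.val hk
    simpa using this
  obtain ⟨i, -, hi⟩ := (Nat.dvd_prime_pow Fact.out).1 (orderOf_dvd_of_pow_eq_one h1)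
  exact ⟨i, hi⟩

/-- a Sylow subgroup contained in another one is equal to it -/
theorem sylow_eq_of_le {p : ℕ} {P Q : Sylow p G} (h : (P : Subgroup G) ≤ Q) : P = Q :=
  Sylow.ext (P.is_maximal' Q.isPGroup' h).symm

/-- a `p`-element lies in a Sylow `p`-subgroup -/
theorem exists_sylow_mem [Finite G] {p : ℕ} [Fact p.Prime] (x : G)
    (hx : ∃ k : ℕ, orderOf x = p ^ k) : ∃ P : Sylow p G, x ∈ P := by
  obtain ⟨k, hk⟩ := hx
  have h : IsPGroup p (Subgroup.zpowers x) := by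
    apply IsPGroup.of_card (n := k)
    rw [Nat.card_zpowers, hk]
  obtain ⟨P, hP⟩ := h.exists_le_sylow
  exact ⟨P, hP (Subgroup.mem_zpowers x)⟩

/-- a `p`-element is conjugate into any given Sylow `p`-subgroup -/
theorem exists_conj_mem [Finite G] {p : ℕ} [Fact p.Prime] (x : G)
    (hx : ∃ k : ℕ, orderOf x = p ^ k) (Q : Sylow p G) : ∃ g : G, g * x * g⁻¹ ∈ Q := by
  obtain ⟨P, hP⟩ := exists_sylow_mem x hx
  obtain ⟨g, hg⟩ := MulAction.exists_smul_eq G P Q
  refine ⟨g, ?_⟩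
  rw [← hg]
  show g * x * g⁻¹ ∈ ((g • P : Sylow p G) : Subgroup G)
  rw [mem_smul_sylow]
  have e : g⁻¹ * (g * x * g⁻¹) * g = x := by group
  rw [e]; exact hP

/-- a central `p`-element lies in every Sylow `p`-subgroup -/
theorem central_mem [Finite G] {p : ℕ} [Fact p.Prime] (z : G) (hz : ∀ g : G, g * z = z * g)
    (hx : ∃ k : ℕ, orderOf z = p ^ k) (Q : Sylow p G) : z ∈ Q := by
  obtain ⟨g, hg⟩ := exists_conj_mem z hx Q
  have e : g * z * g⁻¹ = z := by rw [hz g, mul_inv_cancel_right]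
  rwa [e] at hg

/-- lifting `p`-elements through a surjection -/
theorem lift_pelt [Finite G] {H : Type*} [Group H] (f : G →* H) (hf : Function.Surjective f)
    {p : ℕ} [Fact p.Prime] (y : H) (hy : ∃ k : ℕ, orderOf y = p ^ k) :
    ∃ x : G, f x = y ∧ ∃ k : ℕ, orderOf x = p ^ k := by
  have hp : p.Prime := Fact.out
  obtain ⟨k, hk⟩ := hy
  obtain ⟨g, rfl⟩ := hf y
  rcases Nat.eq_zero_or_pos k with rfl | hk0
  · refine ⟨1, ?_, 0, by simp⟩
    rw [pow_zero, orderOf_eq_one_iff] at hk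
    rw [map_one, hk]
  have hpos : 0 < orderOf g := orderOf_pos g
  obtain ⟨j, m, hm, hgm⟩ := Nat.exists_eq_pow_mul_and_not_dvd hpos.ne' p hp.ne_one
  have hcop : Nat.Coprime m (p ^ k) :=
    (((Nat.Prime.coprime_iff_not_dvd hp).2 hm).pow_left k).symm
  have h1 : 1 < p ^ k := Nat.one_lt_pow hk0.ne' hp.one_lt
  obtain ⟨c, -, hc⟩ := Nat.exists_mul_mod_eq_one_of_coprime hcop h1
  refine ⟨g ^ (m * c), ?_, ?_⟩
  · rw [map_pow, ← pow_mod_orderOf, hk, hc, pow_one]
  · have h2 : (g ^ (m * c)) ^ (p ^ j) = 1 := by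
      rw [← pow_mul, show m * c * p ^ j = (p ^ j * m) * c by ring, ← hgm, pow_mul,
        pow_orderOf_eq_one, one_pow]
    obtain ⟨i, -, hi⟩ := (Nat.dvd_prime_pow hp).1 (orderOf_dvd_of_pow_eq_one h2)
    exact ⟨i, hi⟩

/-- a `p`-element whose image lies in the image of a Sylow subgroup lies in that Sylow subgroup,
if the kernel is central -/
theorem mem_of_map_mem [Finite G] {H : Type*} [Group H] (f : G →* H)
    (hker : ∀ z : G, f z = 1 → ∀ g : G, g * z = z * g) {p : ℕ} [Fact p.Prime] (P : Sylow p G)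
    (x : G) (hx : ∃ k : ℕ, orderOf x = p ^ k) (h : f x ∈ (P : Subgroup G).map f) : x ∈ P := by
  have hp : p.Prime := Fact.out
  obtain ⟨y, hy, hyx⟩ := h
  have hz : f (y⁻¹ * x) = 1 := by rw [map_mul, map_inv, hyx, inv_mul_cancel]
  have hzc := hker _ hz
  have hcomm : Commute y x := by
    have h1 := hzc y
    have h2 : x = y⁻¹ * x * y := by
      rw [← h1]; group
    show y * x = x * y
    conv_lhs => rw [h2]
    group
  obtain ⟨k, hk⟩ := hx
  obtain ⟨k', hk'⟩ := orderOf_of_mem P hy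
  have hzp : (y⁻¹ * x) ^ (p ^ (k + k')) = 1 := by
    rw [(hcomm.inv_left).mul_pow, inv_pow, pow_add]
    have h1 : y ^ (p ^ k * p ^ k') = 1 := by
      rw [mul_comm, pow_mul, ← hk', pow_orderOf_eq_one, one_pow]
    have h2 : x ^ (p ^ k * p ^ k') = 1 := by
      rw [pow_mul, ← hk, pow_orderOf_eq_one, one_pow]
    rw [h1, h2, inv_one, one_mul]
  obtain ⟨i, -, hi⟩ := (Nat.dvd_prime_pow hp).1 (orderOf_dvd_of_pow_eq_one hzp)
  have hzP : y⁻¹ * x ∈ P := central_mem _ hzc ⟨i, hi⟩ P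
  have e : x = y * (y⁻¹ * x) := by group
  rw [e]
  exact mul_mem hy hzP

/-- **Transfer**: the redundancy property passes through a surjection with central kernel. -/
theorem red_iff [Finite G] {H : Type*} [Group H] (f : G →* H) (hf : Function.Surjective f)
    (hker : ∀ z : G, f z = 1 → ∀ g : G, g * z = z * g) (p : ℕ) [Fact p.Prime] :
    (∃ Q : Sylow p H, ∀ x : H, (∃ k : ℕ, orderOf x = p ^ k) →
        ∃ P : Sylow p H, P ≠ Q ∧ x ∈ P) ↔
    (∃ Q : Sylow p G, ∀ x : G, (∃ k : ℕ, orderOf x = p ^ k) →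
        ∃ P : Sylow p G, P ≠ Q ∧ x ∈ P) := by
  have hp : p.Prime := Fact.out
  have : Finite H := Finite.of_surjective f hf
  constructor
  · rintro ⟨Q', hQ'⟩
    obtain ⟨Q, rfl⟩ := Sylow.mapSurjective_surjective hf p Q'
    refine ⟨Q, fun x hx => ?_⟩
    obtain ⟨k, hk⟩ := hx
    have hfx : ∃ k', orderOf (f x) = p ^ k' := by
      have : orderOf (f x) ∣ p ^ k := by rw [← hk]; exact orderOf_map_dvd f x
      obtain ⟨i, -, hi⟩ := (Nat.dvd_prime_pow hp).1 this
      exact ⟨i, hi⟩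
    obtain ⟨P', hne, hmem⟩ := hQ' (f x) hfx
    obtain ⟨P, rfl⟩ := Sylow.mapSurjective_surjective hf p P'
    refine ⟨P, ?_, mem_of_map_mem f hker P x ⟨k, hk⟩ hmem⟩
    rintro rfl; exact hne rfl
  · rintro ⟨Q, hQ⟩
    refine ⟨Sylow.mapSurjective hf Q, fun y hy => ?_⟩
    obtain ⟨x, rfl, hx⟩ := lift_pelt f hf y hy
    obtain ⟨P, hne, hmem⟩ := hQ x hx
    refine ⟨Sylow.mapSurjective hf P, ?_, ?_⟩
    · intro heq
      apply hne
      apply sylow_eq_of_le
      intro x' hx'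
      apply mem_of_map_mem f hker Q x' (orderOf_of_mem P hx')
      have h1 : f x' ∈ ((Sylow.mapSurjective hf P : Sylow p H) : Subgroup H) :=
        ⟨x', hx', rfl⟩
      rw [heq] at h1
      exact h1
    · exact ⟨x, hmem, rfl⟩

/-- a nontrivial Sylow subgroup has a nontrivial central element -/
theorem exists_central [Finite G] {p : ℕ} [Fact p.Prime] (Q : Sylow p G)
    (hQ : ∃ x ∈ Q, x ≠ 1) : ∃ z ∈ Q, z ≠ 1 ∧ ∀ y ∈ Q, y * z = z * y := by
  obtain ⟨x, hx, hx1⟩ := hQ
  have : Nontrivial (Q : Subgroup G) :=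
    ⟨⟨⟨x, hx⟩, 1, fun h => hx1 (congrArg Subtype.val h)⟩⟩
  have hnt := IsPGroup.center_nontrivial Q.isPGroup'
  obtain ⟨z, hz⟩ := exists_ne (1 : Subgroup.center (Q : Subgroup G))
  refine ⟨z.1.1, z.1.2, ?_, ?_⟩
  · intro h
    apply hz
    exact Subtype.ext (Subtype.ext h)
  · intro y hy
    have := Subgroup.mem_center_iff.1 z.2 ⟨y, hy⟩
    exact congrArg Subtype.val this

/-- two Sylow subgroups that commute elementwise are equal -/
theorem eq_of_commute {p : ℕ} (P Q : Sylow p G)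
    (h : ∀ y ∈ P, ∀ x ∈ Q, y * x = x * y) : P = Q := by
  have hle : (P : Subgroup G) ≤ Subgroup.normalizer ((Q : Subgroup G) : Set G) := by
    intro y hy
    rw [Subgroup.mem_normalizer_iff]
    intro x
    constructor
    · intro hx
      rw [h y hy x hx, mul_inv_cancel_right]; exact hx
    · intro hx
      have h1 := h y hy _ hx
      have h2 : x = y * x * y⁻¹ := by
        have : y * (y * x * y⁻¹) = y * x := by rw [h1]; group
        exact (mul_left_cancel this).symm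
      rw [h2]; exact hx
  have hsup := IsPGroup.to_sup_of_normal_right' P.isPGroup' Q.isPGroup' hle
  have h1 : (P : Subgroup G) ⊔ Q = Q := Q.is_maximal' hsup le_sup_right
  apply sylow_eq_of_le
  rw [← h1]; exact le_sup_left

/-- the order of a Sylow `2`-subgroup -/
theorem sylow_card_of_eq [Finite G] (P : Sylow 2 G) (i m : ℕ)
    (hG : Nat.card G = 2 ^ i * m) (hm : Odd m) : Nat.card P = 2 ^ i := by
  obtain ⟨j, hj⟩ := P.isPGroup'.exists_card_eq
  have hidx := Subgroup.card_mul_index (P : Subgroup G)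
  have hnd := P.not_dvd_index
  have hj' : Nat.card (P : Subgroup G) = 2 ^ j := hj
  rw [hj', hG] at hidx
  have hio : Odd (P : Subgroup G).index := by
    rw [← Nat.not_even_iff_odd, even_iff_two_dvd]; exact hnd
  have h1 : 2 ^ j ∣ 2 ^ i := by
    have : 2 ^ j ∣ 2 ^ i * m := ⟨_, hidx.symm⟩
    exact Nat.Coprime.dvd_of_dvd_mul_right (Nat.Coprime.pow_left j (Nat.coprime_two_left.mpr hm))
      this
  have h2 : 2 ^ i ∣ 2 ^ j := by
    have : 2 ^ i ∣ 2 ^ j * (P : Subgroup G).index := ⟨_, hidx⟩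
    exact Nat.Coprime.dvd_of_dvd_mul_right (Nat.Coprime.pow_left i (Nat.coprime_two_left.mpr hio))
      this
  have h3 : j ≤ i := (Nat.pow_dvd_pow_iff_le_right (by norm_num)).1 h1
  have h4 : i ≤ j := (Nat.pow_dvd_pow_iff_le_right (by norm_num)).1 h2
  show Nat.card (P : Subgroup G) = 2 ^ i
  rw [hj', le_antisymm h3 h4]

end Cfsg.Agent.Lib.Helper6.Red1
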