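import Mathlib
import Cfsg.Agent.Lib.Helper98.SL2Tor
import Cfsg.Agent.Lib.Helper38.SLCard
import Cfsg.Agent.Lib.Helper21.W3Sylow
import Cfsg.Agent.Lib.Helper42.SL2Even
import Cfsg.Agent.Lib.Helper6.Red1

/-!
# Redundant Sylow subgroups of `SL(2, q)`
-/

set_option autoImplicit false

namespace Cfsg.Agent.Lib.Helper6.Red2

open Matrix MatrixGroups
open Cfsg.Agent.Lib.Helper53.SL2Inv Cfsg.Agent.Lib.Helper53.SL2Unip
open Cfsg.Agent.Lib.Helper98.SL2Core Cfsg.Agent.Lib.Helper98.SL2Tor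
open Cfsg.Agent.Lib.Helper6.Red1

variable {F : Type*} [Field F] [Fintype F]

/-- **Abelian-centraliser case**: if no nontrivial `p`-element is `-1`, every Sylow `p`-subgroup
contains a `p`-element lying in no other Sylow `p`-subgroup. -/
theorem unique_of_ne (p : ℕ) [Fact p.Prime]
    (hne : ∀ z : SL(2, F), (∃ k : ℕ, orderOf z = p ^ k) → z ≠ 1 → z ≠ negOne)
    (Q : Sylow p SL(2, F)) :
    ∃ x : SL(2, F), (∃ k : ℕ, orderOf x = p ^ k) ∧ ∀ P : Sylow p SL(2, F), x ∈ P → P = Q := by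
  have : Finite SL(2, F) := Cfsg.Agent.Lib.Helper98.PSL2Max.finite_SL
  by_cases hQ : ∃ x ∈ Q, x ≠ 1
  · obtain ⟨z, hzQ, hz1, hzc⟩ := exists_central Q hQ
    have hzp := orderOf_of_mem Q hzQ
    have hzn := hne z hzp hz1
    refine ⟨z, hzp, fun P hzP => ?_⟩
    obtain ⟨z', hz'P, hz'1, hz'c⟩ := exists_central P ⟨z, hzP, hz1⟩
    have hz'n := hne z' (orderOf_of_mem P hz'P) hz'1
    have hab' := abelian_centralizer z' hz'1 hz'n
    have hab := abelian_centralizer z hz1 hzn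
    have hPc : ∀ y ∈ P, y ∈ Subgroup.centralizer {z'} := fun y hy =>
      Subgroup.mem_centralizer_singleton_iff.2 (hz'c y hy)
    apply eq_of_commute
    intro y hy x hx
    have h1 : y ∈ Subgroup.centralizer {z} :=
      Subgroup.mem_centralizer_singleton_iff.2 (hab' y (hPc y hy) z (hPc z hzP))
    have h2 : x ∈ Subgroup.centralizer {z} :=
      Subgroup.mem_centralizer_singleton_iff.2 (hzc x hx)
    exact hab y h1 x h2
  · push Not at hQ
    refine ⟨1, ⟨0, by simp⟩, fun P _ => (sylow_eq_of_le ?_).symm⟩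
    intro x hx
    rw [hQ x hx]; exact one_mem _

omit [Fintype F] in
theorem negOne_orderOf_dvd : orderOf (negOne : SL(2, F)) ∣ 2 := by
  apply orderOf_dvd_of_pow_eq_one
  rw [pow_two]; exact negOne_mul_negOne

omit [Fintype F] in
theorem W_ne_one : (W : SL(2, F)) ≠ 1 := by
  intro h
  have h00 : (W : SL(2, F)) 0 0 = (1 : SL(2, F)) 0 0 := by rw [h]
  rw [W_entries.1, one_entries.1] at h00
  exact zero_ne_one h00

omit [Fintype F] in
theorem W_ne_negOne : (W : SL(2, F)) ≠ negOne := by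
  intro h
  have h00 : (W : SL(2, F)) 0 0 = (negOne : SL(2, F)) 0 0 := by rw [h]
  rw [W_entries.1, negOne_entries.1] at h00
  have : (1 : F) = 0 := by linear_combination h00
  exact one_ne_zero this

section odd
variable (h2 : (2 : F) ≠ 0)

omit [Fintype F] in
include h2 in
theorem coprime_two (p₀ : ℕ) [Fact p₀.Prime] [CharP F p₀] (k : ℕ) : (2 ^ k).Coprime p₀ := by
  have hp : p₀.Prime := Fact.out
  apply Nat.Coprime.pow_left
  rw [Nat.coprime_primes Nat.prime_two hp]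
  rintro rfl
  apply h2
  have := CharP.cast_eq_zero F 2
  exact_mod_cast this

include h2 in
/-- a non-central `2`-element is semisimple -/
theorem tr_ne {x : SL(2, F)} (hx : ∃ k : ℕ, orderOf x = 2 ^ k) (h1 : x ≠ 1)
    (hn : x ≠ negOne) : (x.1 0 0 + x.1 1 1) ^ 2 ≠ 4 := by
  obtain ⟨p₀, hp₀⟩ := CharP.exists F
  have := hp₀
  have : Fact p₀.Prime := ⟨CharP.char_is_prime F p₀⟩
  obtain ⟨k, hk⟩ := hx
  have hc : (orderOf x).Coprime p₀ := by rw [hk]; exact coprime_two h2 p₀ k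
  exact tr_sq_ne_four p₀ h2 x hc h1 hn

include h2 in
/-- a conjugate of a non-central `2`-element inside its centraliser -/
theorem conj_eq_or' {x : SL(2, F)} (y : SL(2, F)) (hx : ∃ k : ℕ, orderOf x = 2 ^ k)
    (h1 : x ≠ 1) (hn : x ≠ negOne) (hc : (y * x * y⁻¹) * x = x * (y * x * y⁻¹)) :
    y * x * y⁻¹ = x ∨ y * x * y⁻¹ = x⁻¹ := by
  obtain ⟨p₀, hp₀⟩ := CharP.exists F
  have := hp₀
  have : Fact p₀.Prime := ⟨CharP.char_is_prime F p₀⟩
  obtain ⟨k, hk⟩ := hx
  have hcop : (orderOf x).Coprime p₀ := by rw [hk]; exact coprime_two h2 p₀ k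
  exact conj_eq_or p₀ h2 x y hcop h1 hn hc

include h2 in
theorem odd_card : Odd (Fintype.card F) := by
  rw [← Nat.not_even_iff_odd]
  intro he
  have := Cfsg.Agent.Lib.Helper42.SL2Even.charP_two_of_even (F := F) (even_iff_two_dvd.1 he)
  exact h2 (CharTwo.two_eq_zero)

omit [Fintype F] in
include h2 in
theorem orderOf_W : orderOf (W : SL(2, F)) = 2 ^ 2 := by
  apply orderOf_eq_prime_pow
  · rw [pow_one, pow_two, W_mul_W]; exact negOne_ne_one h2
  · have e : (W : SL(2, F)) ^ 2 ^ (1 + 1) = (W * W) * (W * W) := by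
      rw [show 2 ^ (1 + 1) = 2 + 2 by norm_num, pow_add, pow_two]
    rw [e, W_mul_W, negOne_mul_negOne]

omit [Fintype F] in
include h2 in
/-- a `2`-element other than `±1` has order divisible by `4` -/
theorem four_dvd_orderOf {x : SL(2, F)} (hx : ∃ k : ℕ, orderOf x = 2 ^ k) (h1 : x ≠ 1)
    (hn : x ≠ negOne) : 4 ∣ orderOf x := by
  obtain ⟨k, hk⟩ := hx
  rcases k with _ | _ | k
  · rw [pow_zero, orderOf_eq_one_iff] at hk; exact absurd hk h1
  · have h := pow_orderOf_eq_one x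
    rw [hk, zero_add, pow_one, pow_two] at h
    rcases sq_eq_one h2 x h with h | h
    · exact absurd h h1
    · exact absurd h hn
  · rw [hk]; exact ⟨2 ^ k, by ring⟩

include h2 in
theorem card_cent_cases {x : SL(2, F)} (hx : ∃ k : ℕ, orderOf x = 2 ^ k) (h1 : x ≠ 1)
    (hn : x ≠ negOne) :
    (Nat.card (Subgroup.centralizer {x}) = Fintype.card F - 1 ∨
      Nat.card (Subgroup.centralizer {x}) = Fintype.card F + 1) ∧
      4 ∣ Nat.card (Subgroup.centralizer {x}) := by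
  refine ⟨card_centralizer_cases h2 x (tr_ne h2 hx h1 hn), ?_⟩
  exact (four_dvd_orderOf h2 hx h1 hn).trans
    (Subgroup.orderOf_dvd_natCard _ (Subgroup.mem_centralizer_singleton_iff.2 rfl))

include h2 in
/-- **Redundant case, key step.** -/
theorem red_aux (hq1 : ¬ ∃ k : ℕ, Fintype.card F + 1 = 2 ^ k)
    (hq2 : ¬ ∃ k : ℕ, Fintype.card F - 1 = 2 ^ k)
    (Q : Sylow 2 SL(2, F)) (x : SL(2, F)) (hx : ∃ k : ℕ, orderOf x = 2 ^ k) (hx1 : x ≠ 1)
    (hxn : x ≠ negOne) (hxQ : x ∈ Q) (huniq : ∀ P : Sylow 2 SL(2, F), x ∈ P → P = Q) :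
    False := by
  have : Finite SL(2, F) := Cfsg.Agent.Lib.Helper98.PSL2Max.finite_SL
  have hodd : Odd (Fintype.card F) := odd_card h2
  have hq : 2 ≤ Fintype.card F := Fintype.one_lt_card
  have hab := abelian_centralizer x hx1 hxn
  obtain ⟨hcard, -⟩ := card_cent_cases h2 hx hx1 hxn
  -- an odd prime dividing the order of the centraliser
  obtain ⟨r, hr, hr2, hrT⟩ : ∃ r : ℕ, r.Prime ∧ r ≠ 2 ∧
      r ∣ Nat.card (Subgroup.centralizer {x}) := by
    by_contra hcon
    push Not at hcon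
    have hpos : Nat.card (Subgroup.centralizer {x}) ≠ 0 := Nat.card_pos.ne'
    have := Nat.eq_prime_pow_of_unique_prime_dvd hpos (p := 2) (fun {d} hd hdvd => by
      by_contra hd2; exact hcon d hd hd2 hdvd)
    rcases hcard with h | h
    · exact hq2 ⟨_, h ▸ this⟩
    · exact hq1 ⟨_, h ▸ this⟩
  have : Fact r.Prime := ⟨hr⟩
  obtain ⟨t', ht'⟩ := exists_prime_orderOf_dvd_card' r hrT
  obtain ⟨t, htT, hto⟩ : ∃ t : SL(2, F), t ∈ Subgroup.centralizer {x} ∧ orderOf t = r :=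
    ⟨t'.1, t'.2, by rw [← ht']; exact Subgroup.orderOf_coe t'⟩
  have htx : t * x = x * t := Subgroup.mem_centralizer_singleton_iff.1 htT
  have ht1 : t ≠ 1 := by
    intro h; rw [h, orderOf_one] at hto; exact hr.one_lt.ne hto
  have htn : t ≠ negOne := by
    intro h
    have h3 := negOne_orderOf_dvd (F := F)
    rw [← h, hto] at h3
    exact hr2 ((Nat.prime_dvd_prime_iff_eq hr Nat.prime_two).1 h3)
  -- `t` normalises `Q`
  have htQ : ∀ h ∈ Q, t * h * t⁻¹ ∈ Q := by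
    have hsm : t • Q = Q := by
      apply huniq
      show x ∈ ((t • Q : Sylow 2 SL(2, F)) : Subgroup SL(2, F))
      rw [mem_smul_sylow]
      have e : t⁻¹ * x * t = x := by rw [mul_assoc, ← htx, inv_mul_cancel_left]
      rw [e]; exact hxQ
    intro h hh
    have : t * h * t⁻¹ ∈ ((t • Q : Sylow 2 SL(2, F)) : Subgroup SL(2, F)) := by
      rw [mem_smul_sylow]
      have e : t⁻¹ * (t * h * t⁻¹) * t = h := by group
      rw [e]; exact hh
    rw [hsm] at this
    exact this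
  -- `Q` is not contained in the centraliser
  have hq2' : Fintype.card F ^ 2 - 1 = (Fintype.card F - 1) * (Fintype.card F + 1) := by
    obtain ⟨m, hm⟩ : ∃ m, Fintype.card F = m + 1 := ⟨Fintype.card F - 1, by omega⟩
    rw [hm]
    apply Nat.sub_eq_of_eq_add
    simp only [Nat.add_sub_cancel]
    ring
  have hnot : ¬ ∀ y ∈ Q, y ∈ Subgroup.centralizer {x} := by
    intro hall
    have hdvd : Nat.card (Q : Subgroup SL(2, F)) ∣ Nat.card (Subgroup.centralizer {x}) :=
      Subgroup.card_dvd_of_le hall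
    have hG : Nat.card SL(2, F) = Fintype.card F * (Fintype.card F ^ 2 - 1) :=
      Cfsg.Agent.Lib.Helper38.SLCard.card_SL2
    have h2dvd : Nat.card (Q : Subgroup SL(2, F)) * 2 ∣ Nat.card SL(2, F) := by
      rw [hG, hq2']
      obtain ⟨a, ha⟩ := hodd
      rcases hcard with h | h
      · rw [h] at hdvd
        have h2' : 2 ∣ Fintype.card F + 1 := ⟨a + 1, by omega⟩
        exact Dvd.dvd.mul_left (Nat.mul_dvd_mul hdvd h2') _
      · rw [h] at hdvd
        have h2' : 2 ∣ Fintype.card F - 1 := ⟨a, by omega⟩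
        rw [mul_comm (Fintype.card F - 1)]
        exact Dvd.dvd.mul_left (Nat.mul_dvd_mul hdvd h2') _
    rw [← Subgroup.card_mul_index (Q : Subgroup SL(2, F))] at h2dvd
    exact Q.not_dvd_index (Nat.dvd_of_mul_dvd_mul_left Nat.card_pos h2dvd)
  -- normaliser growth
  obtain ⟨y, hyQ, hyT, hyx⟩ : ∃ y : SL(2, F), y ∈ Q ∧ y ∉ Subgroup.centralizer {x} ∧
      y * x * y⁻¹ ∈ Subgroup.centralizer {x} := by
    have : Group.IsNilpotent (Q : Subgroup SL(2, F)) := Q.isPGroup'.isNilpotent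
    have hnc := Group.normalizerCondition_of_isNilpotent (G := (Q : Subgroup SL(2, F)))
    have hlt : (Subgroup.centralizer {x}).subgroupOf (Q : Subgroup SL(2, F)) < ⊤ := by
      rw [lt_top_iff_ne_top]
      intro htop
      apply hnot
      intro y hy
      have : (⟨y, hy⟩ : (Q : Subgroup SL(2, F))) ∈
          (Subgroup.centralizer {x}).subgroupOf (Q : Subgroup SL(2, F)) := by
        rw [htop]; trivial
      exact Subgroup.mem_subgroupOf.1 this
    obtain ⟨y, hyN, hyH⟩ := SetLike.exists_of_lt (hnc _ hlt)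
    refine ⟨y.1, y.2, fun h => hyH (Subgroup.mem_subgroupOf.2 h), ?_⟩
    have hxH : (⟨x, hxQ⟩ : (Q : Subgroup SL(2, F))) ∈
        (Subgroup.centralizer {x}).subgroupOf (Q : Subgroup SL(2, F)) :=
      Subgroup.mem_subgroupOf.2 (Subgroup.mem_centralizer_singleton_iff.2 rfl)
    have := (Subgroup.mem_normalizer_iff.1 hyN ⟨x, hxQ⟩).1 hxH
    exact Subgroup.mem_subgroupOf.1 this
  -- `y` inverts `x`
  rw [Subgroup.mem_centralizer_singleton_iff] at hyx
  have hinv : y * x * y⁻¹ = x⁻¹ := by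
    rcases conj_eq_or' h2 y hx hx1 hxn hyx with h | h
    · exfalso
      apply hyT
      rw [Subgroup.mem_centralizer_singleton_iff]
      exact mul_inv_eq_iff_eq_mul.1 h
    · exact h
  -- `y t y⁻¹` centralises `x`
  have hyt : (y * t * y⁻¹) * x = x * (y * t * y⁻¹) := by
    have e1 : y⁻¹ * x * y = x⁻¹ := by
      have : y * x⁻¹ * y⁻¹ = x := by
        have e : y * x⁻¹ * y⁻¹ = (y * x * y⁻¹)⁻¹ := by group
        rw [e, hinv, inv_inv]
      calc y⁻¹ * x * y = y⁻¹ * (y * x⁻¹ * y⁻¹) * y := by rw [this]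
        _ = x⁻¹ := by group
    have e2 : t * x⁻¹ = x⁻¹ * t := by
      rw [eq_inv_mul_iff_mul_eq, ← mul_assoc, ← htx, mul_inv_cancel_right]
    calc (y * t * y⁻¹) * x = y * (t * (y⁻¹ * x * y)) * y⁻¹ := by group
      _ = y * (x⁻¹ * t) * y⁻¹ := by rw [e1, e2]
      _ = (y * x * y⁻¹)⁻¹ * (y * t * y⁻¹) := by group
      _ = x * (y * t * y⁻¹) := by rw [hinv, inv_inv]
  -- the commutator
  have hcQ : y * t * y⁻¹ * t⁻¹ ∈ Q := by
    have h1 : t * y⁻¹ * t⁻¹ ∈ Q := htQ _ (inv_mem hyQ)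
    have e : y * t * y⁻¹ * t⁻¹ = y * (t * y⁻¹ * t⁻¹) := by group
    rw [e]; exact mul_mem hyQ h1
  have hcomm : (y * t * y⁻¹) * t⁻¹ = t⁻¹ * (y * t * y⁻¹) :=
    hab _ (Subgroup.mem_centralizer_singleton_iff.2 hyt) _
      (inv_mem htT)
  have hcr : (y * t * y⁻¹ * t⁻¹) ^ r = 1 := by
    have hc' : Commute (y * t * y⁻¹) t⁻¹ := hcomm
    rw [hc'.mul_pow, inv_pow, ← hto, pow_orderOf_eq_one, inv_one, mul_one]
    have e : (y * t * y⁻¹) ^ orderOf t = y * t ^ orderOf t * y⁻¹ := by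
      rw [conj_pow]
    rw [e, pow_orderOf_eq_one]; group
  have hc1 : y * t * y⁻¹ * t⁻¹ = 1 := by
    obtain ⟨j, hj⟩ := orderOf_of_mem Q hcQ
    have hdvd : orderOf (y * t * y⁻¹ * t⁻¹) ∣ r := orderOf_dvd_of_pow_eq_one hcr
    rcases (Nat.dvd_prime hr).1 hdvd with h | h
    · exact orderOf_eq_one_iff.1 h
    · exfalso
      rw [h] at hj
      rcases j with _ | j
      · rw [pow_zero] at hj; exact hr.one_lt.ne' hj
      · have : 2 ∣ r := by rw [hj]; exact Dvd.intro_left _ rfl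
        exact hr2 ((Nat.prime_dvd_prime_iff_eq Nat.prime_two hr).1 this).symm
  have hyt' : y * t = t * y := by
    have : y * t * y⁻¹ = t := mul_inv_eq_one.1 hc1
    exact mul_inv_eq_iff_eq_mul.1 this
  apply hyT
  rw [Subgroup.mem_centralizer_singleton_iff]
  exact abelian_centralizer t ht1 htn y (Subgroup.mem_centralizer_singleton_iff.2 hyt') x
    (Subgroup.mem_centralizer_singleton_iff.2 htx.symm)

include h2 in
/-- **Redundant case.** -/
theorem red_of_not_pow (hq1 : ¬ ∃ k : ℕ, Fintype.card F + 1 = 2 ^ k)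
    (hq2 : ¬ ∃ k : ℕ, Fintype.card F - 1 = 2 ^ k)
    (Q : Sylow 2 SL(2, F)) (x : SL(2, F)) (hx : ∃ k : ℕ, orderOf x = 2 ^ k) :
    ∃ P : Sylow 2 SL(2, F), P ≠ Q ∧ x ∈ P := by
  have : Finite SL(2, F) := Cfsg.Agent.Lib.Helper98.PSL2Max.finite_SL
  by_contra hcon
  push Not at hcon
  have huniq : ∀ P : Sylow 2 SL(2, F), x ∈ P → P = Q := by
    intro P hP
    by_contra hne
    exact hcon P hne hP
  obtain ⟨P₀, hP₀⟩ := exists_sylow_mem x hx
  have hxQ : x ∈ Q := by rw [← huniq P₀ hP₀]; exact hP₀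
  by_cases hc : x ≠ 1 ∧ x ≠ negOne
  · exact red_aux h2 hq1 hq2 Q x hx hc.1 hc.2 hxQ huniq
  · have hxc : ∀ g : SL(2, F), g * x = x * g := by
      intro g
      by_cases h1 : x = 1
      · rw [h1, mul_one, one_mul]
      · have hn : x = negOne := by
          by_contra hn; exact hc ⟨h1, hn⟩
        rw [hn]; exact (negOne_comm g).symm
    have hall : ∀ P : Sylow 2 SL(2, F), P = Q := fun P => huniq P (central_mem x hxc hx P)
    obtain ⟨P₁, hP₁⟩ := exists_sylow_mem (W : SL(2, F)) ⟨2, orderOf_W h2⟩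
    have hWQ : (W : SL(2, F)) ∈ Q := by rw [← hall P₁]; exact hP₁
    exact red_aux h2 hq1 hq2 Q W ⟨2, orderOf_W h2⟩ W_ne_one W_ne_negOne hWQ
      (fun P _ => hall P)

include h2 in
/-- when `q - 1` or `q + 1` is `2 ^ k`, non-central `2`-elements have centraliser of order
`2 ^ k` -/
theorem card_cent_pow (k : ℕ) (hk : 2 ≤ k)
    (hn : Fintype.card F - 1 = 2 ^ k ∨ Fintype.card F + 1 = 2 ^ k)
    {x : SL(2, F)} (hx : ∃ j : ℕ, orderOf x = 2 ^ j) (h1 : x ≠ 1) (hxn : x ≠ negOne) :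
    Nat.card (Subgroup.centralizer {x}) = 2 ^ k := by
  obtain ⟨hc, h4⟩ := card_cent_cases h2 hx h1 hxn
  have h4k : 4 ∣ 2 ^ k := by
    obtain ⟨i, rfl⟩ : ∃ i, k = i + 2 := ⟨k - 2, by omega⟩
    exact ⟨2 ^ i, by ring⟩
  have hq : 2 ≤ Fintype.card F := Fintype.one_lt_card
  rcases hn with hn | hn <;> rcases hc with hc | hc
  · rw [hc, hn]
  · exfalso
    rw [hc] at h4
    rw [← hn] at h4k
    omega
  · exfalso
    rw [hc] at h4
    rw [← hn] at h4k
    omega
  · rw [hc, hn]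

/-- the order of `SL(2, q)` when `q - 1` or `q + 1` is `2 ^ k` -/
theorem card_eq_pow_mul (q k : ℕ) (hk : 2 ≤ k) (hq : 2 ≤ q) (hodd : Odd q)
    (hn : q - 1 = 2 ^ k ∨ q + 1 = 2 ^ k) :
    ∃ m : ℕ, Odd m ∧ q * (q ^ 2 - 1) = 2 ^ (k + 1) * m := by
  obtain ⟨i, rfl⟩ : ∃ i, k = i + 2 := ⟨k - 2, by omega⟩
  rcases hn with hn | hn
  · have hq' : q = 2 ^ (i + 2) + 1 := by omega
    refine ⟨q * (2 ^ (i + 1) + 1), hodd.mul ?_, ?_⟩
    · exact Even.add_one ((Nat.even_pow).2 ⟨even_two, by omega⟩)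
    · have e : q ^ 2 - 1 = 2 ^ (i + 2 + 1) * (2 ^ (i + 1) + 1) := by
        apply Nat.sub_eq_of_eq_add
        rw [hq']; ring
      rw [e]; ring
  · obtain ⟨s, hs⟩ : ∃ s, 2 ^ i = s + 1 := ⟨2 ^ i - 1, by
      have : 0 < 2 ^ i := by positivity
      omega⟩
    have h4 : 2 ^ (i + 2) = 4 * 2 ^ i := by ring
    have hq' : q = 4 * s + 3 := by omega
    refine ⟨q * (2 * s + 1), hodd.mul ⟨s, rfl⟩, ?_⟩
    have e : q ^ 2 - 1 = 2 ^ (i + 2 + 1) * (2 * s + 1) := by
      apply Nat.sub_eq_of_eq_add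
      rw [hq', show 2 ^ (i + 2 + 1) = 8 * 2 ^ i by ring, hs]; ring
    rw [e]; ring

include h2 in
/-- an element of order `2 ^ k` -/
theorem exists_orderOf (k : ℕ) (hk : 2 ≤ k)
    (hn : Fintype.card F - 1 = 2 ^ k ∨ Fintype.card F + 1 = 2 ^ k) :
    ∃ x₀ : SL(2, F), orderOf x₀ = 2 ^ k := by
  have : Finite SL(2, F) := Cfsg.Agent.Lib.Helper98.PSL2Max.finite_SL
  have hcard := card_cent_pow h2 k hk hn ⟨2, orderOf_W h2⟩ W_ne_one W_ne_negOne
  have hP : IsPGroup 2 (Subgroup.centralizer {(W : SL(2, F))}) := IsPGroup.of_card hcard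
  have hcyc : IsCyclic (Subgroup.centralizer {(W : SL(2, F))}) := by
    apply Cfsg.Agent.Lib.Helper21.W3Sylow.cyclic_of_unique_involution hP
      (c := ⟨W, Subgroup.mem_centralizer_singleton_iff.2 rfl⟩)
    · intro x y hx hy hx1 hy1
      have hx' : x.1 * x.1 = 1 := congrArg Subtype.val hx
      have hy' : y.1 * y.1 = 1 := congrArg Subtype.val hy
      have hxn : x.1 = negOne :=
        (sq_eq_one h2 x.1 hx').resolve_left (fun h => hx1 (Subtype.ext h))
      have hyn : y.1 = negOne :=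
        (sq_eq_one h2 y.1 hy').resolve_left (fun h => hy1 (Subtype.ext h))
      exact Subtype.ext (hxn.trans hyn.symm)
    · intro x
      apply Subtype.ext
      exact (Subgroup.mem_centralizer_singleton_iff.1 x.2).symm
    · intro h
      have : (W : SL(2, F)) * W = 1 := congrArg Subtype.val h
      rw [W_mul_W] at this
      exact negOne_ne_one h2 this
  obtain ⟨g, hg⟩ := hcyc.exists_generator
  refine ⟨g.1, ?_⟩
  rw [Subgroup.orderOf_coe, orderOf_eq_card_of_forall_mem_zpowers hg, hcard]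

include h2 in
/-- **Non-redundant case** `q ± 1 = 2 ^ k`. -/
theorem unique_of_pow (k : ℕ) (hk : 2 ≤ k)
    (hn : Fintype.card F - 1 = 2 ^ k ∨ Fintype.card F + 1 = 2 ^ k) (Q : Sylow 2 SL(2, F)) :
    ∃ x : SL(2, F), (∃ j : ℕ, orderOf x = 2 ^ j) ∧
      ∀ P : Sylow 2 SL(2, F), x ∈ P → P = Q := by
  have : Finite SL(2, F) := Cfsg.Agent.Lib.Helper98.PSL2Max.finite_SL
  have hq : 2 ≤ Fintype.card F := Fintype.one_lt_card
  obtain ⟨x₀, hx₀⟩ := exists_orderOf h2 k hk hn
  obtain ⟨g, hg⟩ := exists_conj_mem x₀ ⟨k, hx₀⟩ Q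
  obtain ⟨x, hxdef⟩ : ∃ x, x = g * x₀ * g⁻¹ := ⟨_, rfl⟩
  rw [← hxdef] at hg
  have hxo : orderOf x = 2 ^ k := by
    rw [hxdef, ← hx₀]; exact (MulAut.conj g).orderOf_eq x₀
  have h4 : 4 ≤ 2 ^ k := by
    calc 4 = 2 ^ 2 := by norm_num
      _ ≤ 2 ^ k := Nat.pow_le_pow_right (by norm_num) hk
  have hx1 : x ≠ 1 := by
    intro h; rw [h, orderOf_one] at hxo; omega
  have hxn : x ≠ negOne := by
    intro h
    rw [h] at hxo
    have := Nat.le_of_dvd (by norm_num) (negOne_orderOf_dvd (F := F))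
    omega
  have hcard := card_cent_pow h2 k hk hn ⟨k, hxo⟩ hx1 hxn
  have hzp : Subgroup.zpowers x = Subgroup.centralizer {x} := by
    apply Subgroup.eq_of_le_of_card_ge
    · rw [Subgroup.zpowers_le]; exact Subgroup.mem_centralizer_singleton_iff.2 rfl
    · rw [Nat.card_zpowers, hxo, hcard]
  obtain ⟨m, hm, hGm⟩ := card_eq_pow_mul (Fintype.card F) k hk hq (odd_card h2) hn
  have key : ∀ P : Sylow 2 SL(2, F), x ∈ P → (P : Subgroup SL(2, F)) = NorInv x := by
    intro P hP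
    have hPcard : Nat.card (P : Subgroup SL(2, F)) = 2 ^ (k + 1) :=
      sylow_card_of_eq P (k + 1) m
        (by rw [Cfsg.Agent.Lib.Helper38.SLCard.card_SL2, hGm]) hm
    have hle : Subgroup.centralizer {x} ≤ (P : Subgroup SL(2, F)) := by
      rw [← hzp, Subgroup.zpowers_le]; exact hP
    have hidx : ((Subgroup.centralizer {x}).subgroupOf (P : Subgroup SL(2, F))).index = 2 := by
      have h := Subgroup.card_mul_index
        ((Subgroup.centralizer {x}).subgroupOf (P : Subgroup SL(2, F)))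
      rw [Nat.card_congr (Subgroup.subgroupOfEquivOfLe hle).toEquiv, hcard, hPcard,
        pow_succ] at h
      exact Nat.eq_of_mul_eq_mul_left (by positivity) h
    have hnorm := Subgroup.normal_of_index_eq_two hidx
    apply Subgroup.eq_of_le_of_card_ge
    · intro y hy
      have hmem : (⟨y, hy⟩ : (P : Subgroup SL(2, F))) * ⟨x, hP⟩ * (⟨y, hy⟩)⁻¹ ∈
          (Subgroup.centralizer {x}).subgroupOf (P : Subgroup SL(2, F)) :=
        hnorm.conj_mem _
          (Subgroup.mem_subgroupOf.2 (Subgroup.mem_centralizer_singleton_iff.2 rfl)) _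
      have hmem' : y * x * y⁻¹ ∈ Subgroup.centralizer {x} := Subgroup.mem_subgroupOf.1 hmem
      rw [Subgroup.mem_centralizer_singleton_iff] at hmem'
      exact mem_norInv.2 (conj_eq_or' h2 y ⟨k, hxo⟩ hx1 hxn hmem')
    · have := card_norInv_dvd x
      rw [hcard] at this
      rw [hPcard, pow_succ, mul_comm]
      exact Nat.le_of_dvd (by positivity) this
  refine ⟨x, ⟨k, hxo⟩, fun P hP => ?_⟩
  exact Sylow.ext ((key P hP).trans (key Q hg).symm)

end odd

/-- **Redundant Sylow subgroups of `SL(2, q)`.** -/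
theorem sl2_red (p : ℕ) [Fact p.Prime] :
    (∃ Q : Sylow p SL(2, F), ∀ x : SL(2, F),
        (∃ k : ℕ, orderOf x = p ^ k) → ∃ P : Sylow p SL(2, F), P ≠ Q ∧ x ∈ P) ↔
      (p = 2 ∧ (¬ ∃ k : ℕ, Fintype.card F + 1 = 2 ^ k) ∧ (¬ ∃ k : ℕ, Fintype.card F = 2 ^ k) ∧
        ¬ ∃ k : ℕ, Fintype.card F = 2 ^ k + 1) := by
  have hfin : Finite SL(2, F) := Cfsg.Agent.Lib.Helper98.PSL2Max.finite_SL
  have hp : p.Prime := Fact.out
  have hq : 2 ≤ Fintype.card F := Fintype.one_lt_card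
  constructor
  · rintro ⟨Q, hQ⟩
    -- some nontrivial `p`-element is `-1`
    have hex : ∃ z : SL(2, F), (∃ k : ℕ, orderOf z = p ^ k) ∧ z ≠ 1 ∧ z = negOne := by
      by_contra hcon
      push Not at hcon
      obtain ⟨x, hx, hxu⟩ := unique_of_ne p hcon Q
      obtain ⟨P, hne, hxP⟩ := hQ x hx
      exact hne (hxu P hxP)
    obtain ⟨z, ⟨k, hk⟩, hz1, hzn⟩ := hex
    have hn1 : (negOne : SL(2, F)) ≠ 1 := hzn ▸ hz1
    have h2 : (2 : F) ≠ 0 := by
      intro h
      apply hn1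
      apply ext2
      · rw [negOne_entries.1, one_entries.1]; linear_combination -h
      · rw [negOne_entries.2.1, one_entries.2.1]
      · rw [negOne_entries.2.2.1, one_entries.2.2.1]
      · rw [negOne_entries.2.2.2, one_entries.2.2.2]; linear_combination -h
    have hp2 : p = 2 := by
      have ho : orderOf (negOne : SL(2, F)) = 2 :=
        orderOf_eq_prime (by rw [pow_two]; exact negOne_mul_negOne) hn1
      rw [hzn, ho] at hk
      rcases k with _ | k
      · rw [pow_zero] at hk; omega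
      · have : p ∣ 2 := by rw [hk]; exact Dvd.intro_left _ rfl
        exact (Nat.prime_dvd_prime_iff_eq hp Nat.prime_two).1 this
    subst hp2
    have hodd := odd_card h2
    refine ⟨rfl, ?_, ?_, ?_⟩
    · rintro ⟨k, hk⟩
      have hk2 : 2 ≤ k := by
        by_contra hlt
        have : k = 0 ∨ k = 1 := by omega
        rcases this with rfl | rfl <;> omega
      obtain ⟨x, hx, hxu⟩ := unique_of_pow h2 k hk2 (Or.inr hk) Q
      obtain ⟨P, hne, hxP⟩ := hQ x hx
      exact hne (hxu P hxP)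
    · rintro ⟨k, hk⟩
      rcases k with _ | k
      · rw [pow_zero] at hk; omega
      · rw [hk] at hodd
        exact (Nat.not_even_iff_odd.2 hodd) ((Nat.even_pow).2 ⟨even_two, by omega⟩)
    · rintro ⟨k, hk⟩
      rcases k with _ | _ | k
      · rw [hk] at hodd
        exact absurd hodd (by decide)
      · have hk' : Fintype.card F + 1 = 2 ^ 2 := by rw [hk]; norm_num
        obtain ⟨x, hx, hxu⟩ := unique_of_pow h2 2 le_rfl (Or.inr hk') Q
        obtain ⟨P, hne, hxP⟩ := hQ x hx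
        exact hne (hxu P hxP)
      · have hk' : Fintype.card F - 1 = 2 ^ (k + 1 + 1) := by rw [hk]; omega
        obtain ⟨x, hx, hxu⟩ := unique_of_pow h2 (k + 1 + 1) (by omega) (Or.inl hk') Q
        obtain ⟨P, hne, hxP⟩ := hQ x hx
        exact hne (hxu P hxP)
  · rintro ⟨rfl, hq1, hq0, hq2⟩
    have hodd : Odd (Fintype.card F) := by
      rw [← Nat.not_even_iff_odd]
      intro he
      have := Cfsg.Agent.Lib.Helper42.SL2Even.charP_two_of_even (F := F) (even_iff_two_dvd.1 he)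
      obtain ⟨n, -, hn⟩ := FiniteField.card F 2
      exact hq0 ⟨n, hn⟩
    have h2 : (2 : F) ≠ 0 := two_ne_zero_of_odd hodd
    have hq2' : ¬ ∃ k : ℕ, Fintype.card F - 1 = 2 ^ k := by
      rintro ⟨k, hk⟩
      exact hq2 ⟨k, by omega⟩
    obtain ⟨Q⟩ : Nonempty (Sylow 2 SL(2, F)) := Sylow.nonempty
    exact ⟨Q, fun x hx => red_of_not_pow h2 hq1 hq2' Q x hx⟩

end Cfsg.Agent.Lib.Helper6.Red2
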