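import Mathlib
import Cfsg.Agent.Lib.Helper22.S56Stmt

set_option autoImplicit false

/-! S1356 piece CNILK1 (helper6, extra seat): `K ≠ 1`: `C_M(M_F)` is nilpotent. -/

namespace Cfsg.Agent.Lib.Helper6.S56CNILK1

open Cfsg.Agent.Lib.Helper22.S56Stmt

universe u

theorem main (hC : CLe.{u}) (hN : NilQF.{u}) : CNilK1.{u} := by
  intro G _ _ hG M K U hM hKU hK
  have h1 := hC hG M K U hM hKU hK
  have h2 := hN hG M hM
  -- `C' ≤ commutator ↥M`
  have hmap : (commutator ↥M).map M.subtype = ⁅M, M⁆ := by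
    rw [commutator_def, Subgroup.map_commutator, ← MonoidHom.range_eq_map, Subgroup.range_subtype]
  have hle : Subgroup.centralizer ((Cfsg.fittingHall ↥M : Subgroup ↥M) : Set ↥M) ≤
      commutator ↥M := by
    intro c hc
    have hcG : (c : G) ∈ M ⊓ Subgroup.centralizer ((Cfsg.fittingHallOf M : Subgroup G) : Set G) := by
      refine Subgroup.mem_inf.mpr ⟨c.2, ?_⟩
      rw [Subgroup.mem_centralizer_iff]
      intro y hy
      obtain ⟨y', hy', rfl⟩ := hy
      have := Subgroup.mem_centralizer_iff.mp hc y' hy'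
      exact congrArg (Subtype.val) this
    have hc2 : (c : G) ∈ (commutator ↥M).map M.subtype := by
      rw [hmap]; exact h1 hcG
    obtain ⟨c', hc', hcc⟩ := hc2
    have : c' = c := Subtype.ext hcc
    rw [← this]; exact hc'
  let π := QuotientGroup.mk' (Cfsg.fittingHall ↥M)
  let f : ↥(Subgroup.centralizer ((Cfsg.fittingHall ↥M : Subgroup ↥M) : Set ↥M)) →*
      ↥((commutator ↥M).map π) :=
    (π.comp (Subgroup.subtype _)).codRestrict ((commutator ↥M).map π)
      (fun c => ⟨(c : ↥M), hle c.2, rfl⟩)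
  haveI hnil := h2
  refine Subgroup.isNilpotent_of_ker_le_center f ?_
  intro x hx
  rw [Subgroup.mem_center_iff]
  intro g
  have hx1 : π (x : ↥M) = 1 := by
    have := (MonoidHom.mem_ker).mp hx
    exact congrArg Subtype.val this
  have hxF : (x : ↥M) ∈ Cfsg.fittingHall ↥M := by
    exact (QuotientGroup.eq_one_iff (x : ↥M)).mp hx1
  have := Subgroup.mem_centralizer_iff.mp g.2 (x : ↥M) hxF
  exact Subtype.ext this.symm

end Cfsg.Agent.Lib.Helper6.S56CNILK1
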