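import Mathlib
import Cfsg.Agent.Lib.Helper62.S57Stmt

set_option autoImplicit false

/-! S1357 piece NILCOMM (helper6, third seat): elements of coprime orders in a nilpotent group
commute.  Induction on the nilpotency class (`Group.nilpotent_center_quotient_ind`): the
commutator `c` is central, and `c ^ orderOf a = 1 = c ^ orderOf b`. -/

namespace Cfsg.Agent.Lib.Helper6.S57NILCOMM

open Cfsg.Agent.Lib.Helper62.S57Stmt

universe u

theorem comm_of_coprime (F : Type u) [Group F] [Group.IsNilpotent F] :
    ∀ a b : F, (orderOf a).Coprime (orderOf b) → a * b = b * a := by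
  refine Group.nilpotent_center_quotient_ind
    (P := fun G _ _ => ∀ a b : G, (orderOf a).Coprime (orderOf b) → a * b = b * a) F ?_ ?_
  · intro G _ _ a b _
    exact Subsingleton.elim _ _
  · intro G _ _ ih a b hcop
    have hcop' : (orderOf (QuotientGroup.mk' (Subgroup.center G) a)).Coprime
        (orderOf (QuotientGroup.mk' (Subgroup.center G) b)) :=
      Nat.Coprime.coprime_dvd_left (orderOf_map_dvd _ a)
        (Nat.Coprime.coprime_dvd_right (orderOf_map_dvd _ b) hcop)
    have hq := ih _ _ hcop'
    have hc : a * b * a⁻¹ * b⁻¹ ∈ Subgroup.center G := by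
      rw [← QuotientGroup.eq_one_iff (N := Subgroup.center G)]
      have h1 : ((a * b * a⁻¹ * b⁻¹ : G) : G ⧸ Subgroup.center G) =
          QuotientGroup.mk' (Subgroup.center G) a * QuotientGroup.mk' (Subgroup.center G) b *
            (QuotientGroup.mk' (Subgroup.center G) a)⁻¹ *
            (QuotientGroup.mk' (Subgroup.center G) b)⁻¹ := by
        simp
      rw [h1, hq]
      group
    obtain ⟨c, hcdef⟩ : ∃ c : G, c = a * b * a⁻¹ * b⁻¹ := ⟨_, rfl⟩
    rw [← hcdef] at hc
    have hcc : ∀ g : G, Commute c g := fun g => (Subgroup.mem_center_iff.mp hc g).symm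
    -- `c ^ orderOf b = 1`
    have e1 : a * b * a⁻¹ = c * b := by rw [hcdef]; group
    have p1 : c ^ orderOf b = 1 := by
      have h2 : (a * b * a⁻¹) ^ orderOf b = 1 := by
        rw [conj_pow, pow_orderOf_eq_one, mul_one, mul_inv_cancel]
      rw [e1, (hcc b).mul_pow, pow_orderOf_eq_one, mul_one] at h2
      exact h2
    -- `c ^ orderOf a = 1`
    have e2 : b * a * b⁻¹ = c⁻¹ * a := by rw [hcdef]; group
    have p2 : c ^ orderOf a = 1 := by
      have h2 : (b * a * b⁻¹) ^ orderOf a = 1 := by
        rw [conj_pow, pow_orderOf_eq_one, mul_one, mul_inv_cancel]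
      rw [e2, ((hcc a).inv_left).mul_pow, pow_orderOf_eq_one, mul_one, inv_pow, inv_eq_one] at h2
      exact h2
    have hd : orderOf c ∣ Nat.gcd (orderOf a) (orderOf b) :=
      Nat.dvd_gcd (orderOf_dvd_of_pow_eq_one p2) (orderOf_dvd_of_pow_eq_one p1)
    have hg : Nat.gcd (orderOf a) (orderOf b) = 1 := hcop
    rw [hg] at hd
    have hc1 : c = 1 := orderOf_eq_one_iff.mp (Nat.dvd_one.mp hd)
    rw [hcdef] at hc1
    have : a * b = (a * b * a⁻¹ * b⁻¹) * (b * a) := by group
    rw [this, hc1, one_mul]

theorem main : NilComm.{u} := by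
  intro F _ _ hF a b hcop
  haveI := hF
  exact comm_of_coprime F a b hcop

end Cfsg.Agent.Lib.Helper6.S57NILCOMM
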