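import Mathlib
import Cfsg.Agent.Lib.Helper23.S64Stmt

set_option autoImplicit false

/-! S1364 piece CYCHALL: a cyclic normal Hall subgroup `N` of `X` meets `X''` trivially
(`X' ≤ C_X(N)`, transfer of `X'` into its centre). -/

namespace Cfsg.Agent.Lib.Helper6.S64CYCHALL

open Cfsg.Agent.Lib.Helper23.S64Stmt

open scoped commutatorElement

universe u

theorem comm_le_cent {X : Type u} [Group X] (N : Subgroup X) (hN : N.Normal) (hcyc : IsCyclic N) :
    (⁅(⊤ : Subgroup X), (⊤ : Subgroup X)⁆ : Subgroup X) ≤ Subgroup.centralizer (N : Set X) := by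
  haveI := hN
  haveI : IsCyclic N := hcyc
  -- conjugation acts on `N` by power maps
  have hpow : ∀ x : X, ∃ m : ℤ, ∀ g ∈ N, x * g * x⁻¹ = g ^ m := by
    intro x
    obtain ⟨m, hm⟩ := MonoidHom.map_cyclic ((MulAut.conjNormal x : MulAut N).toMonoidHom)
    refine ⟨m, fun g hg => ?_⟩
    have h2 := congrArg Subtype.val (hm ⟨g, hg⟩)
    simpa [MulAut.conjNormal_apply] using h2
  -- the commutator subgroup centralizes `N`
  have hD : (⁅(⊤ : Subgroup X), (⊤ : Subgroup X)⁆ : Subgroup X) ≤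
      Subgroup.centralizer (N : Set X) := by
    rw [Subgroup.commutator_le]
    intro x _ y _
    rw [Subgroup.mem_centralizer_iff]
    intro z hz
    obtain ⟨m, hm⟩ := hpow x
    obtain ⟨n, hn⟩ := hpow y
    obtain ⟨m', hm'⟩ := hpow x⁻¹
    obtain ⟨n', hn'⟩ := hpow y⁻¹
    have h1 : y⁻¹ * z * y⁻¹⁻¹ = z ^ n' := hn' z hz
    have hz1 : z ^ n' ∈ N := N.zpow_mem hz _
    have h2 : x⁻¹ * (z ^ n') * x⁻¹⁻¹ = (z ^ n') ^ m' := hm' _ hz1
    have hz2 : (z ^ n') ^ m' ∈ N := N.zpow_mem hz1 _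
    have h3 : y * ((z ^ n') ^ m') * y⁻¹ = ((z ^ n') ^ m') ^ n := hn _ hz2
    have hz3 : ((z ^ n') ^ m') ^ n ∈ N := N.zpow_mem hz2 n
    have h4 : x * (((z ^ n') ^ m') ^ n) * x⁻¹ = (((z ^ n') ^ m') ^ n) ^ m := hm _ hz3
    have hx : ∀ w ∈ N, (w ^ m') ^ m = w := by
      intro w hw
      have a := hm' w hw
      have b := hm (w ^ m') (N.zpow_mem hw _)
      rw [← b, ← a]
      group
    have hy : ∀ w ∈ N, (w ^ n') ^ n = w := by
      intro w hw
      have a := hn' w hw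
      have b := hn (w ^ n') (N.zpow_mem hw _)
      rw [← b, ← a]
      group
    have hc : ⁅x, y⁆ * z * ⁅x, y⁆⁻¹ = (((z ^ n') ^ m') ^ n) ^ m := by
      rw [← h4, ← h3, ← h2, ← h1, commutatorElement_def]
      group
    have he : (((z ^ n') ^ m') ^ n) ^ m = z := by
      rw [← zpow_mul (z ^ n') m' n, zpow_mul' (z ^ n') m' n, hy z hz, hx z hz]
    rw [he] at hc
    calc z * ⁅x, y⁆ = (⁅x, y⁆ * z * ⁅x, y⁆⁻¹) * ⁅x, y⁆ := by rw [hc]
      _ = ⁅x, y⁆ * z := by group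
  exact hD

theorem main : CycHall.{u} := by
  intro X _ _ N hN hcyc hcop
  haveI := hN
  have hD := comm_le_cent N hN hcyc
  -- transfer
  rw [eq_bot_iff]
  intro z hz
  obtain ⟨hzN, hzD2⟩ := Subgroup.mem_inf.1 hz
  rw [Subgroup.mem_bot]
  rw [← Subgroup.map_subtype_commutator (⁅(⊤ : Subgroup X), (⊤ : Subgroup X)⁆ : Subgroup X)]
    at hzD2
  obtain ⟨z', hz', rfl⟩ := hzD2
  have hT : ∀ w ∈ commutator ↥(⁅(⊤ : Subgroup X), (⊤ : Subgroup X)⁆ : Subgroup X),
      MonoidHom.transferCenterPow ↥(⁅(⊤ : Subgroup X), (⊤ : Subgroup X)⁆ : Subgroup X) w = 1 := by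
    intro w hw
    rw [commutator_eq_closure] at hw
    refine Subgroup.closure_induction
      (p := fun w _ => MonoidHom.transferCenterPow ↥(⁅(⊤ : Subgroup X), (⊤ : Subgroup X)⁆ : Subgroup X) w = 1) ?_ ?_ ?_ ?_ hw
    · rintro _ ⟨p, q, rfl⟩
      rw [map_commutatorElement, commutatorElement_eq_one_iff_commute]
      show MonoidHom.transferCenterPow ↥(⁅(⊤ : Subgroup X), (⊤ : Subgroup X)⁆ : Subgroup X) p * MonoidHom.transferCenterPow ↥(⁅(⊤ : Subgroup X), (⊤ : Subgroup X)⁆ : Subgroup X) q =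
        MonoidHom.transferCenterPow ↥(⁅(⊤ : Subgroup X), (⊤ : Subgroup X)⁆ : Subgroup X) q * MonoidHom.transferCenterPow ↥(⁅(⊤ : Subgroup X), (⊤ : Subgroup X)⁆ : Subgroup X) p
      apply Subtype.ext
      exact Subgroup.mem_center_iff.1 (MonoidHom.transferCenterPow ↥(⁅(⊤ : Subgroup X), (⊤ : Subgroup X)⁆ : Subgroup X) q).2
        (MonoidHom.transferCenterPow ↥(⁅(⊤ : Subgroup X), (⊤ : Subgroup X)⁆ : Subgroup X) p).1
    · exact map_one _
    · intro a b _ _ ha hb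
      rw [map_mul, ha, hb, one_mul]
    · intro a _ ha
      rw [map_inv, ha, inv_one]
  have h1 : MonoidHom.transferCenterPow ↥(⁅(⊤ : Subgroup X), (⊤ : Subgroup X)⁆ : Subgroup X) z' = 1 := hT z' hz'
  have h2 : z' ^ (Subgroup.center ↥(⁅(⊤ : Subgroup X), (⊤ : Subgroup X)⁆ : Subgroup X)).index
      = 1 := by
    have h5 := congrArg Subtype.val h1
    rwa [MonoidHom.transferCenterPow_apply] at h5
  have hle : N.subgroupOf (⁅(⊤ : Subgroup X), (⊤ : Subgroup X)⁆ : Subgroup X) ≤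
      Subgroup.center ↥(⁅(⊤ : Subgroup X), (⊤ : Subgroup X)⁆ : Subgroup X) := by
    intro w hw
    rw [Subgroup.mem_center_iff]
    intro g
    apply Subtype.ext
    have hg := hD g.2
    rw [Subgroup.mem_centralizer_iff] at hg
    exact (hg ↑w (Subgroup.mem_subgroupOf.1 hw)).symm
  have hdvd : (Subgroup.center ↥(⁅(⊤ : Subgroup X), (⊤ : Subgroup X)⁆ : Subgroup X)).index ∣
      N.index :=
    (Subgroup.index_dvd_of_le hle).trans (Subgroup.relIndex_dvd_index_of_normal N _)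
  have ho1 : orderOf ((⁅(⊤ : Subgroup X), (⊤ : Subgroup X)⁆ : Subgroup X).subtype z') ∣
      (Subgroup.center ↥(⁅(⊤ : Subgroup X), (⊤ : Subgroup X)⁆ : Subgroup X)).index := by
    rw [Subgroup.coe_subtype, Subgroup.orderOf_coe]
    exact orderOf_dvd_of_pow_eq_one h2
  have ho2 : orderOf ((⁅(⊤ : Subgroup X), (⊤ : Subgroup X)⁆ : Subgroup X).subtype z') ∣
      Nat.card N := Subgroup.orderOf_dvd_natCard N hzN
  have ho3 : orderOf ((⁅(⊤ : Subgroup X), (⊤ : Subgroup X)⁆ : Subgroup X).subtype z') = 1 :=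
    Nat.eq_one_of_dvd_coprimes hcop ho2 (ho1.trans hdvd)
  exact orderOf_eq_one_iff.1 ho3

end Cfsg.Agent.Lib.Helper6.S64CYCHALL
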