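import Mathlib
import Cfsg.Agent.Lib.Helper22.S81Stmt

set_option autoImplicit false

/-! S1381 piece UNIL (helper6, third seat): a commutative subgroup is nilpotent. -/

namespace Cfsg.Agent.Lib.Helper6.S81UNIL

open Cfsg.Agent.Lib.Helper22.S81Stmt

universe u

theorem main : UNil.{u} := by
  intro G _ U hU
  let _ : CommGroup ↥U :=
    { (inferInstance : Group ↥U) with mul_comm := fun a b => hU.is_comm.comm a b }
  exact CommGroup.isNilpotent

end Cfsg.Agent.Lib.Helper6.S81UNIL
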