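import Mathlib
import Cfsg.Agent.Lib.Helper45.S9Stmt
import Cfsg.Agent.Lib.Helper45.S8Dvd
import Cfsg.Agent.Lib.Helper20.EOCOMB
import Cfsg.Agent.Lib.Helper97.EOPWR
import Cfsg.Agent.Lib.Helper97.EORCMIN

set_option autoImplicit false

/-! S3590 piece ODDPART: the odd part of the order of an isometry in characteristic 2, with the
algebraic multiplicity of the eigenvalue `1` taken off the degree budget. -/

namespace Cfsg.Agent.Lib.Helper6.S9ODDPART

open Polynomial
open Cfsg.Agent.Lib.Helper45.S9Stmt Cfsg.Agent.Lib.Helper45.EOStmt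

universe u

theorem main : ODDPART.{u} := by
  intro F _ _ _ ι _ _ J g hJ hg
  obtain ⟨hμ0, hrc, hc0, hdeg⟩ := Cfsg.Agent.Lib.Helper97.EORCMIN.main F ι J g hJ hg
  obtain ⟨ep, em, ν, hsplit, hcop1, -, hem, -⟩ :=
    Cfsg.Agent.Lib.Helper20.EOCOMB.split 2 (minpoly F g) hμ0
  have hem0 : em = 0 := hem rfl
  subst hem0
  have hrcν : RC ν := Cfsg.Agent.Lib.Helper20.EOCOMB.rc_split hμ0 hsplit hrc
  rw [pow_zero, mul_one] at hsplit
  have hν0 : ν ≠ 0 := by
    rintro rfl
    rw [mul_zero] at hsplit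
    exact hμ0 hsplit
  have hνc : ν.coeff 0 ≠ 0 := by
    intro h0
    apply hc0
    rw [hsplit, mul_coeff_zero, h0, mul_zero]
  obtain ⟨DA, DB, ep', em', E, d, hDA, hDB, hd, hbud, -, hem', hdvd, -⟩ :=
    Cfsg.Agent.Lib.Helper45.S8Dvd.dvd F 2 ν hν0 hrcν hνc
  have hem'0 : em' = 0 := hem' rfl
  subst hem'0
  set L := Nat.lcm (SA (Fintype.card F) DA) (SB (Fintype.card F) DB) with hL
  set c' := Nat.clog 2 (max E (max ep' 0)) with hc'
  have hKK : KK (Fintype.card F) 2 DA DB ep' 0 E = L * 2 ^ c' := by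
    simp [KK, sgn, hL, hc']
  rw [hKK] at hdvd
  -- the exponent
  refine ⟨DA, DB, c' + ep, hDA, hDB, ?_, ?_⟩
  · -- degree bound
    have hχ0 : g.charpoly ≠ 0 := (Matrix.charpoly_monic g).ne_zero
    obtain ⟨χ₁, hχ, hnd⟩ := exists_eq_pow_rootMultiplicity_mul_and_not_dvd g.charpoly hχ0 1
    rw [C_1] at hχ hnd
    have hχ₁0 : χ₁ ≠ 0 := by
      rintro rfl
      rw [mul_zero] at hχ
      exact hχ0 hχ
    have h1 : ν ∣ (X - 1 : F[X]) ^ g.charpoly.rootMultiplicity 1 * χ₁ := by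
      rw [← hχ]
      exact (Dvd.intro_left _ hsplit.symm).trans (Matrix.minpoly_dvd_charpoly g)
    have h2 : ν ∣ χ₁ := (hcop1.pow_right).dvd_of_dvd_mul_left h1
    have h3 : ν.natDegree ≤ χ₁.natDegree := natDegree_le_of_dvd h2 hχ₁0
    have h4 : g.charpoly.natDegree = g.charpoly.rootMultiplicity 1 + χ₁.natDegree := by
      conv_lhs => rw [hχ]
      rw [natDegree_mul (pow_ne_zero _ (X_sub_C_ne_zero (1 : F) |> fun h => by simpa using h)) hχ₁0,
        natDegree_pow]
      have : (X - 1 : F[X]).natDegree = 1 := by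
        have := natDegree_X_sub_C (1 : F)
        rwa [C_1] at this
      rw [this, mul_one]
    rw [Matrix.charpoly_natDegree_eq_dim] at h4
    omega
  · -- the power
    have hpw := Cfsg.Agent.Lib.Helper97.EOPWR.main F 2 (X - 1 : F[X]) L ep (c' + ep)
      (by simpa using sub_dvd_pow_sub_pow (X : F[X]) 1 L)
      (le_trans (Nat.lt_two_pow_self).le (Nat.pow_le_pow_right (by norm_num) (by omega)))
    have hν : ν ∣ X ^ (L * 2 ^ (c' + ep)) - 1 := by
      have h8 : L * 2 ^ (c' + ep) = (L * 2 ^ c') * 2 ^ ep := by rw [pow_add]; ring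
      have h9 := sub_dvd_pow_sub_pow ((X : F[X]) ^ (L * 2 ^ c')) 1 (2 ^ ep)
      rw [one_pow, ← pow_mul, ← h8] at h9
      exact hdvd.trans h9
    have hμ : minpoly F g ∣ X ^ (L * 2 ^ (c' + ep)) - 1 := by
      rw [hsplit]
      exact (hcop1.symm.pow_left).mul_dvd hpw hν
    obtain ⟨r, hr⟩ := hμ
    have h5 := congrArg (Polynomial.aeval g) hr
    rw [map_mul, minpoly.aeval, zero_mul] at h5
    simp only [map_sub, map_pow, aeval_X, map_one] at h5
    exact sub_eq_zero.1 h5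
end Cfsg.Agent.Lib.Helper6.S9ODDPART
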