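import Mathlib
import Cfsg.Agent.Lib.Helper45.S9Stmt

set_option autoImplicit false

/-! S3590 piece SEMI: the semidirect product `V^k ⋊ G`, `V = F^ι`, `G ≤ GL ι F`, and its element
orders. -/

namespace Cfsg.Agent.Lib.Helper6.S9SEMI

open Cfsg.Agent.Lib.Helper45.S9Stmt Matrix

universe u

variable {F : Type u} [Field F] {ι : Type} [Fintype ι] [DecidableEq ι]

/-- the underlying type of `V^k ⋊ G` -/
@[ext]
structure SD (G : Subgroup (GL ι F)) (k : ℕ) where
  /-- translation part -/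
  w : Fin k → ι → F
  /-- linear part -/
  g : G

variable {G : Subgroup (GL ι F)} {k : ℕ}

/-- the matrix of the linear part -/
def SD.mat (x : SD G k) : Matrix ι ι F := ((x.g : GL ι F) : Matrix ι ι F)

instance : Mul (SD G k) := ⟨fun x y => ⟨fun l => x.w l + x.mat *ᵥ y.w l, x.g * y.g⟩⟩
instance : One (SD G k) := ⟨⟨fun _ => 0, 1⟩⟩
instance : Inv (SD G k) := ⟨fun x => ⟨fun l => -((x.g⁻¹ : G) : GL ι F).1 *ᵥ x.w l, x.g⁻¹⟩⟩

theorem mul_w (x y : SD G k) (l : Fin k) : (x * y).w l = x.w l + x.mat *ᵥ y.w l := rfl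
theorem mul_g (x y : SD G k) : (x * y).g = x.g * y.g := rfl
theorem one_w (l : Fin k) : (1 : SD G k).w l = 0 := rfl
theorem one_g : (1 : SD G k).g = 1 := rfl
theorem inv_w (x : SD G k) (l : Fin k) :
    (x⁻¹).w l = -((x.g⁻¹ : G) : GL ι F).1 *ᵥ x.w l := rfl
theorem inv_g (x : SD G k) : (x⁻¹).g = x.g⁻¹ := rfl
theorem mul_mat (x y : SD G k) : (x * y).mat = x.mat * y.mat := rfl
theorem one_mat : (1 : SD G k).mat = 1 := rfl

instance : Group (SD G k) :=
  Group.ofLeftAxioms
    (by
      intro x y z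
      apply SD.ext
      · funext l
        rw [mul_w, mul_w, mul_w, mul_w, mul_mat, Matrix.mulVec_add, Matrix.mulVec_mulVec,
          add_assoc]
      · rw [mul_g, mul_g, mul_g, mul_g, mul_assoc])
    (by
      intro x
      apply SD.ext
      · funext l
        rw [mul_w, one_w, one_mat, Matrix.one_mulVec, zero_add]
      · rw [mul_g, one_g, one_mul])
    (by
      intro x
      apply SD.ext
      · funext l
        rw [mul_w, inv_w, one_w]
        have : (x⁻¹).mat = ((x.g⁻¹ : G) : GL ι F).1 := rfl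
        rw [this, Matrix.neg_mulVec, neg_add_cancel]
      · rw [mul_g, inv_g, one_g, inv_mul_cancel])

theorem pow_g (x : SD G k) (j : ℕ) : (x ^ j).g = x.g ^ j := by
  induction j with
  | zero => rw [pow_zero, pow_zero]; rfl
  | succ j ih => rw [pow_succ, pow_succ, mul_g, ih]

theorem pow_mat (x : SD G k) (j : ℕ) : (x ^ j).mat = x.mat ^ j := by
  induction j with
  | zero => rw [pow_zero, pow_zero]; rfl
  | succ j ih => rw [pow_succ, pow_succ, mul_mat, ih]

theorem pow_w (x : SD G k) (j : ℕ) (l : Fin k) :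
    (x ^ j).w l = (∑ i ∈ Finset.range j, x.mat ^ i) *ᵥ x.w l := by
  induction j with
  | zero => rw [pow_zero, Finset.range_zero, Finset.sum_empty, Matrix.zero_mulVec]; rfl
  | succ j ih =>
    rw [pow_succ, mul_w, ih, pow_mat, Finset.sum_range_succ, Matrix.add_mulVec]

theorem pow_eq_one_iff (x : SD G k) (j : ℕ) :
    x ^ j = 1 ↔ (x.mat ^ j = 1 ∧ ∀ l, (∑ i ∈ Finset.range j, x.mat ^ i) *ᵥ x.w l = 0) := by
  constructor
  · intro h
    refine ⟨?_, ?_⟩
    · rw [← pow_mat, h]; rfl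
    · intro l
      rw [← pow_w, h]; rfl
  · rintro ⟨h1, h2⟩
    apply SD.ext
    · funext l
      rw [pow_w, h2 l]; rfl
    · rw [pow_g, one_g]
      apply Subtype.ext
      apply Units.ext
      have : x.mat ^ j = (((x.g ^ j : G) : GL ι F) : Matrix ι ι F) := by
        simp [SD.mat]
      rw [← this, h1]
      rfl

/-- the underlying equivalence -/
def sdEquiv (G : Subgroup (GL ι F)) (k : ℕ) : SD G k ≃ (Fin k → ι → F) × G where
  toFun x := (x.w, x.g)
  invFun p := ⟨p.1, p.2⟩
  left_inv _ := rfl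
  right_inv _ := rfl

theorem main : SEMI.{u} := by
  intro F _ _ ι _ _ G k
  haveI : Finite (SD G k) := Finite.of_equiv _ (sdEquiv G k).symm
  refine ⟨SD G k, inferInstance, inferInstance, ?_, ?_⟩
  · rw [Nat.card_congr (sdEquiv G k), Nat.card_prod, Nat.card_fun, Nat.card_fun,
      Nat.card_eq_fintype_card, Nat.card_eq_fintype_card, Nat.card_eq_fintype_card,
      Fintype.card_fin, ← pow_mul]
  · intro n
    constructor
    · rintro ⟨x, rfl⟩
      refine ⟨(x.g : GL ι F), x.g.2, x.w, ?_⟩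
      intro j
      rw [orderOf_dvd_iff_pow_eq_one, pow_eq_one_iff]
      rfl
    · rintro ⟨g, hg, w, h⟩
      refine ⟨⟨w, ⟨g, hg⟩⟩, ?_⟩
      have key : ∀ j : ℕ, (⟨w, ⟨g, hg⟩⟩ : SD G k) ^ j = 1 ↔ n ∣ j := by
        intro j
        rw [pow_eq_one_iff]
        exact h j
      apply Nat.dvd_antisymm
      · rw [orderOf_dvd_iff_pow_eq_one, key]
      · rw [← key]
        exact pow_orderOf_eq_one _

end Cfsg.Agent.Lib.Helper6.S9SEMI
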