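import Mathlib
import Cfsg.Agent.Lib.Helper98.DOdd10

/-!
# Solubilizers in `PSL(2, 3 ^ p)`: generic tools (helper6)

* `card_fiber`: counting preimages under a surjective homomorphism
* `K3_tr_closure`: if `tr A`, `tr B`, `tr (A B)` lie in the prime field (characteristic 3) then so
  does the trace of every element of `⟨A, B, -1⟩`
* `proper_tri`: the proper subgroups of `SL(2, 3 ^ p)` containing `-1`
* `sol_iff`, `card_sol`: reduction of the solubilizer to `SL(2, F)`
-/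

set_option autoImplicit false
set_option linter.unusedSectionVars false
set_option linter.unusedVariables false

namespace Cfsg.Agent.Lib.Helper6.Sb1

open Matrix MatrixGroups
open Cfsg.Agent.Lib.Helper53.SL2Inv Cfsg.Agent.Lib.Helper53.SL2Unip
open Cfsg.Agent.Lib.Helper98.SL2Sub Cfsg.Agent.Lib.Helper98.SL2Core
open Cfsg.Agent.Lib.Helper98.SL2Tor Cfsg.Agent.Lib.Helper98.DicksonB
open Cfsg.Agent.Lib.Helper98.PSL2Max
open Cfsg.Agent.S5941 (Pk Sk_le_Pk)

section generic

/-- counting preimages under a surjective homomorphism -/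
theorem card_fiber {G H : Type*} [Group G] [Group H] [Finite G] (f : G →* H)
    (hf : Function.Surjective f) (P : H → Prop) :
    Nat.card {g : G // P (f g)} = Nat.card f.ker * Nat.card {h : H // P h} := by
  classical
  have : Finite H := Finite.of_surjective f hf
  let e : {g : G // P (f g)} ≃ Σ h : {h : H // P h}, {g : G // f g = h.1} :=
    { toFun := fun g => ⟨⟨f g.1, g.2⟩, ⟨g.1, rfl⟩⟩
      invFun := fun s => ⟨s.2.1, by rw [s.2.2]; exact s.1.2⟩
      left_inv := fun g => rfl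
      right_inv := by
        rintro ⟨⟨h, hh⟩, ⟨g, hg⟩⟩
        exact Sigma.subtype_ext (Subtype.ext hg) rfl }
  have hfib : ∀ h : {h : H // P h}, Nat.card {g : G // f g = h.1} = Nat.card f.ker := by
    intro h
    obtain ⟨g₀, hg₀⟩ := hf h.1
    exact Nat.card_congr
      { toFun := fun g => ⟨g₀⁻¹ * g.1, by
          rw [MonoidHom.mem_ker, map_mul, map_inv, g.2, hg₀, inv_mul_cancel]⟩
        invFun := fun k => ⟨g₀ * k.1, by rw [map_mul, MonoidHom.mem_ker.1 k.2, mul_one, hg₀]⟩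
        left_inv := fun g => by simp
        right_inv := fun k => by simp }
  have := Fintype.ofFinite {h : H // P h}
  rw [Nat.card_congr e, Nat.card_sigma]
  simp only [hfib]
  rw [Finset.sum_const, Finset.card_univ, smul_eq_mul, Fintype.card_eq_nat_card, mul_comm]

end generic

variable {F : Type*} [Field F]

/-- membership in the prime field, characteristic `3` -/
def K3 (t : F) : Prop := t ^ 3 = t

lemma K3_zero : K3 (0 : F) := by unfold K3; ring
lemma K3_one : K3 (1 : F) := by unfold K3; ring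
lemma K3_mul {s t : F} (hs : K3 s) (ht : K3 t) : K3 (s * t) := by
  unfold K3 at *; rw [mul_pow, hs, ht]
lemma K3_neg {t : F} (ht : K3 t) : K3 (-t) := by
  unfold K3 at *
  have : (-t) ^ 3 = -(t ^ 3) := by ring
  rw [this, ht]

lemma K3_cases {t : F} (ht : K3 t) : t = 0 ∨ t = 1 ∨ t = -1 := by
  have : t * (t - 1) * (t + 1) = 0 := by unfold K3 at ht; linear_combination ht
  rcases mul_eq_zero.1 this with h | h
  · rcases mul_eq_zero.1 h with h | h
    · left; exact h
    · right; left; exact sub_eq_zero.1 h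
  · right; right; exact eq_neg_of_add_eq_zero_left h

section char3
variable [CharP F 3]

lemma three_zero : (3 : F) = 0 := by
  have := CharP.cast_eq_zero F 3
  exact_mod_cast this

lemma K3_add {s t : F} (hs : K3 s) (ht : K3 t) : K3 (s + t) := by
  unfold K3 at *; rw [add_pow_char, hs, ht]

lemma K3_sub {s t : F} (hs : K3 s) (ht : K3 t) : K3 (s - t) := by
  rw [sub_eq_add_neg]; exact K3_add hs (K3_neg ht)

lemma K3_two : K3 (2 : F) := by
  have := K3_add (K3_one (F := F)) K3_one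
  rwa [one_add_one_eq_two] at this

end char3

/-- the span of `1, A, B, A B` over the prime field -/
def Sp (A B : Matrix (Fin 2) (Fin 2) F) : Set (Matrix (Fin 2) (Fin 2) F) :=
  {M | ∃ c₀ c₁ c₂ c₃ : F, K3 c₀ ∧ K3 c₁ ∧ K3 c₂ ∧ K3 c₃ ∧
    M = c₀ • (1 : Matrix (Fin 2) (Fin 2) F) + c₁ • A + c₂ • B + c₃ • (A * B)}

lemma Sp_smul {A B M : Matrix (Fin 2) (Fin 2) F} {c : F} (hc : K3 c) (hM : M ∈ Sp A B) :
    c • M ∈ Sp A B := by
  obtain ⟨c₀, c₁, c₂, c₃, h₀, h₁, h₂, h₃, rfl⟩ := hM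
  exact ⟨c * c₀, c * c₁, c * c₂, c * c₃, K3_mul hc h₀, K3_mul hc h₁, K3_mul hc h₂,
    K3_mul hc h₃, by module⟩

lemma Sp_one {A B : Matrix (Fin 2) (Fin 2) F} : (1 : Matrix (Fin 2) (Fin 2) F) ∈ Sp A B :=
  ⟨1, 0, 0, 0, K3_one, K3_zero, K3_zero, K3_zero, by module⟩

lemma Sp_A {A B : Matrix (Fin 2) (Fin 2) F} : A ∈ Sp A B :=
  ⟨0, 1, 0, 0, K3_zero, K3_one, K3_zero, K3_zero, by module⟩

lemma Sp_B {A B : Matrix (Fin 2) (Fin 2) F} : B ∈ Sp A B :=
  ⟨0, 0, 1, 0, K3_zero, K3_zero, K3_one, K3_zero, by module⟩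

lemma id3 (A B : SL(2, F)) :
    B.1 * A.1 = -(A.1 * B.1) + tr A • B.1 + tr B • A.1 +
      (tr (A * B) - tr A * tr B) • (1 : Matrix (Fin 2) (Fin 2) F) := by
  ext i j
  fin_cases i <;> fin_cases j <;>
    simp [Matrix.mul_apply, Fin.sum_univ_two, tr] <;> ring

lemma id4 (A B : SL(2, F)) :
    A.1 * B.1 * A.1 = B.1 + tr (A * B) • A.1 - tr B • (1 : Matrix (Fin 2) (Fin 2) F) := by
  have hd := det_eq A
  ext i j
  fin_cases i <;> fin_cases j
  · simp [Matrix.mul_apply, Fin.sum_univ_two, tr]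
    linear_combination (-(B.1 1 1)) * hd
  · simp [Matrix.mul_apply, Fin.sum_univ_two, tr]
    linear_combination (B.1 0 1) * hd
  · simp [Matrix.mul_apply, Fin.sum_univ_two, tr]
    linear_combination (B.1 1 0) * hd
  · simp [Matrix.mul_apply, Fin.sum_univ_two, tr]
    linear_combination (-(B.1 0 0)) * hd

section char3
variable [CharP F 3]

lemma Sp_add {A B M N : Matrix (Fin 2) (Fin 2) F} (hM : M ∈ Sp A B) (hN : N ∈ Sp A B) :
    M + N ∈ Sp A B := by
  obtain ⟨c₀, c₁, c₂, c₃, h₀, h₁, h₂, h₃, rfl⟩ := hM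
  obtain ⟨d₀, d₁, d₂, d₃, k₀, k₁, k₂, k₃, rfl⟩ := hN
  exact ⟨c₀ + d₀, c₁ + d₁, c₂ + d₂, c₃ + d₃, K3_add h₀ k₀, K3_add h₁ k₁, K3_add h₂ k₂,
    K3_add h₃ k₃, by module⟩

lemma Sp_mul_A (A B : SL(2, F)) (hA : K3 (tr A)) (hB : K3 (tr B)) (hAB : K3 (tr (A * B)))
    {M : Matrix (Fin 2) (Fin 2) F} (hM : M ∈ Sp A.1 B.1) : M * A.1 ∈ Sp A.1 B.1 := by
  obtain ⟨c₀, c₁, c₂, c₃, h₀, h₁, h₂, h₃, rfl⟩ := hM
  refine ⟨-c₁ + c₂ * (tr (A * B) - tr A * tr B) - c₃ * tr B,
    c₀ + c₁ * tr A + c₂ * tr B + c₃ * tr (A * B), c₂ * tr A + c₃, -c₂, ?_, ?_, ?_, ?_, ?_⟩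
  · exact K3_sub (K3_add (K3_neg h₁) (K3_mul h₂ (K3_sub hAB (K3_mul hA hB)))) (K3_mul h₃ hB)
  · exact K3_add (K3_add (K3_add h₀ (K3_mul h₁ hA)) (K3_mul h₂ hB)) (K3_mul h₃ hAB)
  · exact K3_add (K3_mul h₂ hA) h₃
  · exact K3_neg h₂
  · have e1 := mul_self_eq A
    have e3 := id3 A B
    have e4 := id4 A B
    simp only [add_mul, smul_mul_assoc, one_mul]
    rw [e1, e3, e4]
    module

lemma Sp_mul_B (A B : SL(2, F)) (hA : K3 (tr A)) (hB : K3 (tr B)) (hAB : K3 (tr (A * B)))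
    {M : Matrix (Fin 2) (Fin 2) F} (hM : M ∈ Sp A.1 B.1) : M * B.1 ∈ Sp A.1 B.1 := by
  obtain ⟨c₀, c₁, c₂, c₃, h₀, h₁, h₂, h₃, rfl⟩ := hM
  refine ⟨-c₂, -c₃, c₀ + c₂ * tr B, c₁ + c₃ * tr B, ?_, ?_, ?_, ?_, ?_⟩
  · exact K3_neg h₂
  · exact K3_neg h₃
  · exact K3_add h₀ (K3_mul h₂ hB)
  · exact K3_add h₁ (K3_mul h₃ hB)
  · have e2 := mul_self_eq B
    simp only [add_mul, smul_mul_assoc, one_mul, mul_assoc]
    rw [e2]
    simp only [mul_sub, mul_smul_comm, mul_one]
    module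

lemma Sp_mul (A B : SL(2, F)) (hA : K3 (tr A)) (hB : K3 (tr B)) (hAB : K3 (tr (A * B)))
    {M N : Matrix (Fin 2) (Fin 2) F} (hM : M ∈ Sp A.1 B.1) (hN : N ∈ Sp A.1 B.1) :
    M * N ∈ Sp A.1 B.1 := by
  obtain ⟨d₀, d₁, d₂, d₃, k₀, k₁, k₂, k₃, rfl⟩ := hN
  have e : M * (d₀ • (1 : Matrix (Fin 2) (Fin 2) F) + d₁ • A.1 + d₂ • B.1 + d₃ • (A.1 * B.1)) =
      d₀ • M + d₁ • (M * A.1) + d₂ • (M * B.1) + d₃ • (M * A.1 * B.1) := by
    simp only [mul_add, mul_smul_comm, mul_one, mul_assoc]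
  rw [e]
  exact Sp_add (Sp_add (Sp_add (Sp_smul k₀ hM) (Sp_smul k₁ (Sp_mul_A A B hA hB hAB hM)))
    (Sp_smul k₂ (Sp_mul_B A B hA hB hAB hM)))
    (Sp_smul k₃ (Sp_mul_B A B hA hB hAB (Sp_mul_A A B hA hB hAB hM)))

lemma K3_tr_of_Sp (A B : SL(2, F)) (hA : K3 (tr A)) (hB : K3 (tr B)) (hAB : K3 (tr (A * B)))
    {M : Matrix (Fin 2) (Fin 2) F} (hM : M ∈ Sp A.1 B.1) : K3 (M 0 0 + M 1 1) := by
  obtain ⟨c₀, c₁, c₂, c₃, h₀, h₁, h₂, h₃, rfl⟩ := hM
  have e : (c₀ • (1 : Matrix (Fin 2) (Fin 2) F) + c₁ • A.1 + c₂ • B.1 + c₃ • (A.1 * B.1)) 0 0 +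
      (c₀ • (1 : Matrix (Fin 2) (Fin 2) F) + c₁ • A.1 + c₂ • B.1 + c₃ • (A.1 * B.1)) 1 1 =
      c₀ * 2 + c₁ * tr A + c₂ * tr B + c₃ * tr (A * B) := by
    simp [tr, Matrix.add_apply, Matrix.smul_apply, Matrix.mul_apply, Fin.sum_univ_two]
    ring
  rw [e]
  exact K3_add (K3_add (K3_add (K3_mul h₀ K3_two) (K3_mul h₁ hA)) (K3_mul h₂ hB)) (K3_mul h₃ hAB)

/-- **Trace field lemma.** -/
theorem K3_tr_closure (A B : SL(2, F)) (hA : K3 (tr A)) (hB : K3 (tr B))
    (hAB : K3 (tr (A * B))) :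
    ∀ g ∈ Subgroup.closure ({A, B, negOne} : Set SL(2, F)), K3 (tr g) := by
  have key : ∀ g ∈ Subgroup.closure ({A, B, negOne} : Set SL(2, F)), g.1 ∈ Sp A.1 B.1 := by
    intro g hg
    induction hg using Subgroup.closure_induction with
    | mem x hx =>
      rcases hx with rfl | rfl | rfl
      · exact Sp_A
      · exact Sp_B
      · refine ⟨-1, 0, 0, 0, K3_neg K3_one, K3_zero, K3_zero, K3_zero, ?_⟩
        ext i j
        fin_cases i <;> fin_cases j <;> simp [negOne]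
    | one => exact Sp_one
    | mul x y _ _ hx hy =>
      rw [show (x * y).1 = x.1 * y.1 from rfl]
      exact Sp_mul A B hA hB hAB hx hy
    | inv x _ hx =>
      have hinv : (x⁻¹).1 = tr x • (1 : Matrix (Fin 2) (Fin 2) F) + (-1 : F) • x.1 := by
        ext i j
        fin_cases i <;> fin_cases j <;>
          simp [tr, Matrix.SpecialLinearGroup.coe_inv, Matrix.adjugate_fin_two]
      rw [hinv]
      have ht := K3_tr_of_Sp A B hA hB hAB hx
      exact Sp_add (Sp_smul ht Sp_one) (Sp_smul (K3_neg K3_one) hx)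
  intro g hg
  exact K3_tr_of_Sp A B hA hB hAB (key g hg)

end char3

omit [Field F] in
theorem card_mod_four_aux {p : ℕ} (hodd : Odd p) : 3 ^ p % 4 = 3 := by
  obtain ⟨j, rfl⟩ := hodd
  rw [pow_succ, pow_mul]
  have : (3 ^ 2) ^ j % 4 = 1 := by
    rw [Nat.pow_mod]; norm_num
  omega

lemma tr_negOne_mul (y : SL(2, F)) : tr (negOne * y) = -tr y := by
  obtain ⟨m00, m01, m10, m11⟩ := mul_entries negOne y
  obtain ⟨n00, n01, n10, n11⟩ := negOne_entries (F := F)
  unfold tr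
  rw [m00, m11, n00, n01, n10, n11]; ring

lemma negOne_pow_two : (negOne : SL(2, F)) ^ 2 = 1 := by
  rw [pow_two]; exact negOne_mul_negOne

section char3
variable [CharP F 3]

/-- an element of trace `±2` has sixth power `1` -/
theorem pow_six_of_tr (y : SL(2, F)) (h : tr y = 2 ∨ tr y = -2) : y ^ 6 = 1 := by
  rcases h with h | h
  · have h3 := pow_char_eq_one 3 y h
    rw [show 6 = 3 * 2 by norm_num, pow_mul, h3, one_pow]
  · have h2 : tr (negOne * y) = 2 := by rw [tr_negOne_mul, h, neg_neg]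
    have h3 := pow_char_eq_one 3 (negOne * y) h2
    have hc : Commute (negOne : SL(2, F)) y := negOne_comm y
    have h6 : (negOne * y) ^ 6 = 1 := by
      rw [show 6 = 3 * 2 by norm_num, pow_mul, h3, one_pow]
    rw [hc.mul_pow, show 6 = 2 * 3 by norm_num, pow_mul negOne, negOne_pow_two, one_pow,
      one_mul] at h6
    exact h6

/-- an element with `tr ^ 2 ∈ {0, 1}` has twelfth power `1` -/
theorem pow_twelve_of_tr (g : SL(2, F)) (h : tr g ^ 2 = 0 ∨ tr g ^ 2 = 1) : g ^ 12 = 1 := by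
  have h1 := tr_sq g
  have h6 : (g * g) ^ 6 = 1 := by
    apply pow_six_of_tr
    rcases h with h | h
    · right; rw [h1, h]; ring
    · left; rw [h1, h]; linear_combination -(three_zero (F := F))
  rw [← pow_two, ← pow_mul] at h6
  exact h6

/-- an element with twelfth power `1` has trace in the prime field -/
theorem K3_tr_of_pow_twelve (h2 : (2 : F) ≠ 0) (g : SL(2, F)) (h : g ^ 12 = 1) : K3 (tr g) := by
  have h1 := tr_sq g
  have hy : g ^ 6 * g ^ 6 = 1 := by rw [← pow_add]; exact h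
  have hz : (g * g) ^ 3 = g ^ 6 := by rw [← pow_two, ← pow_mul]
  rcases sq_eq_one h2 (g ^ 6) hy with h6 | h6
  · have h3 : (g * g) ^ (3 ^ 1) = 1 := by rw [pow_one, hz, h6]
    have h4 := tr_eq_two_of_pow 3 (g * g) 1 h3
    rw [h1] at h4
    have h5 : tr g ^ 2 = 1 := by linear_combination h4 + three_zero (F := F)
    unfold K3
    linear_combination (tr g) * h5
  · have hc : Commute (negOne : SL(2, F)) (g * g) := negOne_comm (g * g)
    have h3 : (negOne * (g * g)) ^ (3 ^ 1) = 1 := by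
      rw [pow_one, hc.mul_pow, hz, h6, show 3 = 2 + 1 by norm_num, pow_add, negOne_pow_two,
        one_mul, pow_one, negOne_mul_negOne]
    have h4 := tr_eq_two_of_pow 3 (negOne * (g * g)) 1 h3
    rw [tr_negOne_mul, h1] at h4
    have h5 : tr g ^ 2 = 0 := by linear_combination -h4
    have h7 : tr g = 0 := by
      rcases mul_eq_zero.1 (by rw [← pow_two]; exact h5 : tr g * tr g = 0) with h | h <;> exact h
    rw [h7]; exact K3_zero

variable [Fintype F] {p : ℕ}

theorem card_mod_four (hodd : Odd p) (hF : Fintype.card F = 3 ^ p) : Fintype.card F % 4 = 3 := by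
  rw [hF]; exact card_mod_four_aux hodd

theorem not_sq_neg_one (hodd : Odd p) (hF : Fintype.card F = 3 ^ p) (i : F) : i ^ 2 ≠ -1 := by
  intro hi
  have := (FiniteField.isSquare_neg_one_iff (F := F)).1 ⟨i, by rw [← hi]; ring⟩
  exact this (card_mod_four hodd hF)

theorem two_ne (hF : Fintype.card F = 3 ^ p) : (2 : F) ≠ 0 :=
  two_ne_zero_of_odd (by rw [hF]; exact Odd.pow (by decide))

theorem card_subfield (hp : p.Prime) (hF : Fintype.card F = 3 ^ p) (k : Subfield F)
    (hx : ∃ x, x ∉ k) : Nat.card k = 3 := by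
  obtain ⟨m, hm⟩ := exists_pow k
  rw [Nat.card_eq_fintype_card (α := F), hF] at hm
  obtain ⟨x, hx⟩ := hx
  have hs := card_sq_le k x hx
  rw [Nat.card_eq_fintype_card (α := F), hF] at hs
  have h1p : 1 < 3 ^ p := Nat.one_lt_pow hp.pos.ne' (by norm_num)
  rcases Nat.eq_zero_or_pos m with rfl | hmpos
  · rw [pow_zero] at hm; omega
  · have hdvd : Nat.card k ∣ 3 ^ p := by
      rw [hm]; exact dvd_pow_self _ (by omega)
    obtain ⟨j', hj'r, hj'⟩ := (Nat.dvd_prime_pow Nat.prime_three).1 hdvd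
    rw [hj', ← pow_mul] at hm
    have hjm : p = j' * m := Nat.pow_right_injective (by norm_num : 2 ≤ 3) hm
    have hdj : j' ∣ p := ⟨m, hjm⟩
    rcases (Nat.dvd_prime hp).1 hdj with h1 | h1
    · rw [hj', h1]; norm_num
    · exfalso
      rw [hj', h1] at hs
      nlinarith

theorem tr_sq_of_Pk (k : Subfield F) (hk : Nat.card k = 3) {g : SL(2, F)} (hg : g ∈ Pk k) :
    K3 (tr g ^ 2) := by
  obtain ⟨c, hc, h1, h2, h3, h4⟩ := hg
  have hk3 : ∀ t : F, t ∈ k → K3 t := by
    intro t ht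
    have := Fintype.ofFinite k
    have hpow := FiniteField.pow_card (⟨t, ht⟩ : k)
    rw [← Nat.card_eq_fintype_card, hk] at hpow
    have := congrArg Subtype.val hpow
    unfold K3
    simpa using this
  have hτ : c * tr g ∈ k := by
    have : c * tr g = c * g.1 0 0 + c * g.1 1 1 := by unfold tr; ring
    rw [this]; exact k.add_mem h1 h4
  have hδ : c ^ 2 ∈ k := by
    have hd := det_eq g
    have : c ^ 2 = (c * g.1 0 0) * (c * g.1 1 1) - (c * g.1 0 1) * (c * g.1 1 0) := by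
      linear_combination (-(c ^ 2)) * hd
    rw [this]; exact k.sub_mem (k.mul_mem h1 h4) (k.mul_mem h2 h3)
  have : tr g ^ 2 = (c * tr g) ^ 2 * (c ^ 2)⁻¹ := by field_simp
  rw [this]
  exact hk3 _ (k.mul_mem (k.pow_mem hτ 2) (k.inv_mem hδ))

/-- **The proper subgroups of `SL(2, 3 ^ p)` containing `-1`.** -/
theorem proper_tri (hp : p.Prime) (hodd : Odd p) (hF : Fintype.card F = 3 ^ p)
    (X : Subgroup SL(2, F)) (hneg : negOne ∈ X) (hX : X ≠ ⊤) :
    (∃ g : SL(2, F), ∀ y ∈ X, (g * y * g⁻¹).1 1 0 = 0) ∨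
    (X ≤ Zc ∨ ∃ a ∈ X, (orderOf a).Coprime 3 ∧ a ≠ 1 ∧ a ≠ negOne ∧ X ≤ NorInv a) ∨
    (∀ z ∈ X, K3 (tr z)) := by
  have h2 : (2 : F) ≠ 0 := two_ne hF
  have : Finite SL(2, F) := finite_SL
  rcases proper_cases 3 h2 X hneg hX with ⟨g, hg⟩ | ⟨hp3, hsq⟩ | ⟨hp3, h⟩ |
    ⟨φ, k, hx, h1, h2'⟩ | ⟨h3, φ, i, hi, hle, hne⟩
  · exact Or.inl ⟨g, hg⟩
  · exact Or.inr (Or.inl (sq_comm_le_norInv 3 h2 X hp3 hsq))
  · exfalso
    rcases h with h | h | h <;> (rw [h] at hp3; exact hp3 (by norm_num))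
  · right; right
    intro z hz
    have hk := card_subfield hp hF k hx
    have hmem : φ z ∈ Pk k := h2' ⟨z, hz, rfl⟩
    have h3 := tr_sq_of_Pk k hk hmem
    have h4 : tr (φ z) ^ 2 = 0 ∨ tr (φ z) ^ 2 = 1 := by
      rcases K3_cases h3 with h | h | h
      · left; exact h
      · right; exact h
      · exact absurd h (not_sq_neg_one hodd hF _)
    have h5 := pow_twelve_of_tr (φ z) h4
    have h6 : z ^ 12 = 1 := by
      apply φ.injective; rw [map_pow, h5, map_one]
    exact K3_tr_of_pow_twelve h2 z h6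
  · exact absurd hi (not_sq_neg_one hodd hF i)

/-- the pair `x, y` generates a proper subgroup together with `-1` -/
def Pr (x y : SL(2, F)) : Prop := Subgroup.closure ({x, y, negOne} : Set SL(2, F)) ≠ ⊤

omit [Fintype F] [CharP F 3] in
lemma proj_negOne : proj (negOne : SL(2, F)) = 1 := by
  rw [QuotientGroup.mk'_apply, QuotientGroup.eq_one_iff, center_eq]
  exact Or.inr rfl

omit [Fintype F] [CharP F 3] in
lemma map_closure_eq (x y : SL(2, F)) :
    (Subgroup.closure ({x, y, negOne} : Set SL(2, F))).map proj =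
      Subgroup.closure ({proj x, proj y} :
        Set (Matrix.ProjectiveSpecialLinearGroup (Fin 2) F)) := by
  rw [MonoidHom.map_closure]
  apply le_antisymm
  · rw [Subgroup.closure_le]
    rintro _ ⟨z, hz, rfl⟩
    rcases hz with rfl | rfl | rfl
    · exact Subgroup.subset_closure (by simp)
    · exact Subgroup.subset_closure (by simp)
    · rw [SetLike.mem_coe, proj_negOne]; exact one_mem _
  · apply Subgroup.closure_mono
    rintro _ (rfl | rfl)
    · exact ⟨x, by simp, rfl⟩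
    · exact ⟨y, by simp, rfl⟩

/-- **Reduction of the solubilizer to `SL(2, F)`.** -/
theorem sol_iff (hp : p.Prime) (hodd : Odd p) (hF : Fintype.card F = 3 ^ p) (x y : SL(2, F)) :
    Group.IsSolvable (Subgroup.closure ({proj x, proj y} :
        Set (Matrix.ProjectiveSpecialLinearGroup (Fin 2) F))) ↔ Pr x y := by
  have h2 : (2 : F) ≠ 0 := two_ne hF
  have h27 : 27 ≤ Fintype.card F := by
    have h3 : 3 ≤ p := by
      rcases hp.eq_two_or_odd with h | h
      · rw [h] at hodd; exact absurd hodd (by decide)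
      · have := hp.two_le; omega
    calc 27 = 3 ^ 3 := by norm_num
      _ ≤ 3 ^ p := Nat.pow_le_pow_right (by norm_num) h3
      _ = Fintype.card F := hF.symm
  have hp2 : p ≠ 2 := by
    rintro rfl; exact absurd hodd (by decide)
  have hmin := (Cfsg.Agent.Lib.Helper98.DOdd10.odd_S0810 hF (Odd.pow (by decide))).2
    (Or.inr (Or.inl ⟨p, hp, hp2, rfl⟩))
  rw [← map_closure_eq]
  unfold Pr
  constructor
  · intro hsol htop
    rw [htop, ← MonoidHom.range_eq_map, MonoidHom.range_eq_top.2 proj_surj] at hsol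
    have : Group.IsSolvable (Matrix.ProjectiveSpecialLinearGroup (Fin 2) F) :=
      Group.isSolvable_of_surjective (f := (⊤ : Subgroup
        (Matrix.ProjectiveSpecialLinearGroup (Fin 2) F)).subtype)
        (fun z => ⟨⟨z, Subgroup.mem_top z⟩, rfl⟩)
    exact Cfsg.Agent.Lib.Helper98.DOdd10.not_solvable_psl h2 (by omega) this
  · intro hne
    apply hmin.2.2
    intro htop
    apply hne
    have h1 := congrArg (Subgroup.comap (proj (F := F))) htop
    rw [Subgroup.comap_map_eq, Subgroup.comap_top] at h1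
    have hker : (proj (F := F)).ker ≤ Subgroup.closure ({x, y, negOne} : Set SL(2, F)) := by
      rw [QuotientGroup.ker_mk', center_eq]
      rintro z (rfl | rfl)
      · exact one_mem _
      · exact Subgroup.subset_closure (by simp)
    rw [sup_eq_left.2 hker] at h1
    exact h1

/-- the solubilizer of `proj x` is doubly covered by `{y | Pr x y}` -/
theorem card_sol (hp : p.Prime) (hodd : Odd p) (hF : Fintype.card F = 3 ^ p) (x : SL(2, F)) :
    Nat.card {y : SL(2, F) // Pr x y} =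
      2 * Nat.card {y : Matrix.ProjectiveSpecialLinearGroup (Fin 2) F //
        Group.IsSolvable (Subgroup.closure ({proj x, y} :
          Set (Matrix.ProjectiveSpecialLinearGroup (Fin 2) F)))} := by
  have h2 : (2 : F) ≠ 0 := two_ne hF
  have : Finite SL(2, F) := finite_SL
  have h := card_fiber (proj (F := F)) proj_surj (fun y =>
    Group.IsSolvable (Subgroup.closure ({proj x, y} :
      Set (Matrix.ProjectiveSpecialLinearGroup (Fin 2) F))))
  rw [QuotientGroup.ker_mk', card_center h2] at h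
  rw [← h]
  exact Nat.card_congr (Equiv.subtypeEquivRight (fun y => (sol_iff hp hodd hF x y).symm))

end char3

end Cfsg.Agent.Lib.Helper6.Sb1
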