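import Mathlib
import Cfsg.Agent.Lib.Helper6.Sb1

/-!
# Solubilizers in `PSL(2, 3 ^ p)`: the pairs generating a proper subgroup (helper6)

`Pr x y` (from `Sb1`) says that `x`, `y` and `-1` generate a proper subgroup of `SL(2, F)`.
This file characterises `Pr x y` for `x` nonsplit semisimple, split semisimple (diagonal),
unipotent and of order four.
-/

set_option autoImplicit false
set_option linter.unusedSimpArgs false
set_option linter.unusedVariables false
set_option linter.unusedSectionVars false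

namespace Cfsg.Agent.Lib.Helper6.Sb2

open Matrix MatrixGroups
open Cfsg.Agent.Lib.Helper53.SL2Inv Cfsg.Agent.Lib.Helper53.SL2Unip
open Cfsg.Agent.Lib.Helper98.SL2Sub Cfsg.Agent.Lib.Helper98.SL2Core
open Cfsg.Agent.Lib.Helper98.SL2Tor Cfsg.Agent.Lib.Helper98.DicksonB
open Cfsg.Agent.Lib.Helper98.PSL2Max
open Cfsg.Agent.Lib.Helper6.Sb1

variable {F : Type*} [Field F]

lemma tr_def (x : SL(2, F)) : tr x = x.1 0 0 + x.1 1 1 := rfl

/-- the matrix with given entries -/
def mk4 (a b c e : F) (h : a * e - b * c = 1) : SL(2, F) :=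
  ⟨!![a, b; c, e], by rw [Matrix.det_fin_two_of]; exact h⟩

@[simp] lemma mk4_00 (a b c e : F) (h : a * e - b * c = 1) : (mk4 a b c e h).1 0 0 = a := rfl
@[simp] lemma mk4_01 (a b c e : F) (h : a * e - b * c = 1) : (mk4 a b c e h).1 0 1 = b := rfl
@[simp] lemma mk4_10 (a b c e : F) (h : a * e - b * c = 1) : (mk4 a b c e h).1 1 0 = c := rfl
@[simp] lemma mk4_11 (a b c e : F) (h : a * e - b * c = 1) : (mk4 a b c e h).1 1 1 = e := rfl

lemma n00 : (negOne : SL(2, F)).1 0 0 = -1 := negOne_entries.1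
lemma n01 : (negOne : SL(2, F)).1 0 1 = 0 := negOne_entries.2.1
lemma n10 : (negOne : SL(2, F)).1 1 0 = 0 := negOne_entries.2.2.1
lemma n11 : (negOne : SL(2, F)).1 1 1 = -1 := negOne_entries.2.2.2
lemma W00 : (W : SL(2, F)).1 0 0 = 0 := W_entries.1
lemma W01 : (W : SL(2, F)).1 0 1 = -1 := W_entries.2.1
lemma W10 : (W : SL(2, F)).1 1 0 = 1 := W_entries.2.2.1
lemma W11 : (W : SL(2, F)).1 1 1 = 0 := W_entries.2.2.2

lemma conj10 (g y : SL(2, F)) : (g * y * g⁻¹).1 1 0 =
    g.1 1 0 * g.1 1 1 * y.1 0 0 - g.1 1 0 ^ 2 * y.1 0 1 + g.1 1 1 ^ 2 * y.1 1 0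
      - g.1 1 0 * g.1 1 1 * y.1 1 1 := by
  rw [mul10, mul10, mul11, inv00, inv10]; ring

lemma tr_one : tr (1 : SL(2, F)) = 2 := by
  rw [tr_def, one00, one11]; norm_num

lemma tr_negOne : tr (negOne : SL(2, F)) = -2 := by
  rw [tr_def, n00, n11]; norm_num

lemma tr_W : tr (W : SL(2, F)) = 0 := by
  rw [tr_def, W00, W11]; norm_num

lemma ne_of_tr (a : SL(2, F)) (h : tr a ^ 2 ≠ 4) : a ≠ 1 ∧ a ≠ negOne := by
  constructor
  · rintro rfl; apply h; rw [tr_one]; norm_num
  · rintro rfl; apply h; rw [tr_negOne]; norm_num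

lemma negOne_mem_norInv (a : SL(2, F)) : negOne ∈ NorInv a := by
  left
  rw [conj_eq_iff]; exact negOne_comm a

lemma self_mem_norInv (a : SL(2, F)) : a ∈ NorInv a := by
  left; group

/-! ### Sufficient conditions for `Pr` -/

theorem Pr_of_borel (g x y : SL(2, F)) (hx : (g * x * g⁻¹).1 1 0 = 0)
    (hy : (g * y * g⁻¹).1 1 0 = 0) : Pr x y := by
  intro htop
  let H : Subgroup SL(2, F) := (Bo F).comap (MulAut.conj g).toMonoidHom
  have hle : Subgroup.closure ({x, y, negOne} : Set SL(2, F)) ≤ H := by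
    rw [Subgroup.closure_le]
    rintro z (rfl | rfl | rfl)
    · exact hx
    · exact hy
    · show (g * negOne * g⁻¹).1 1 0 = 0
      rw [conj10, n00, n01, n10, n11]; ring
  rw [htop] at hle
  have h1 : g⁻¹ * l 1 * g ∈ H := hle (Subgroup.mem_top _)
  have h2 : (g * (g⁻¹ * l 1 * g) * g⁻¹).1 1 0 = 0 := h1
  have h3 : g * (g⁻¹ * l 1 * g) * g⁻¹ = l 1 := by group
  rw [h3, l10] at h2
  exact one_ne_zero h2

theorem Pr_of_norInv [Fintype F] (h2 : (2 : F) ≠ 0) (h4 : 4 ≤ Fintype.card F)
    (a x y : SL(2, F)) (ha1 : a ≠ 1) (ha2 : a ≠ negOne)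
    (hx : x ∈ NorInv a) (hy : y ∈ NorInv a) : Pr x y := by
  intro htop
  have : Finite SL(2, F) := finite_SL
  have hle : Subgroup.closure ({x, y, negOne} : Set SL(2, F)) ≤ NorInv a := by
    rw [Subgroup.closure_le]
    rintro z (rfl | rfl | rfl)
    · exact hx
    · exact hy
    · exact negOne_mem_norInv a
  rw [htop] at hle
  haveI := isSolvable_norInv a (abelian_centralizer a ha1 ha2)
  have hsurj : Function.Surjective ((proj (F := F)).comp (NorInv a).subtype) := by
    intro z
    obtain ⟨g, rfl⟩ := proj_surj z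
    exact ⟨⟨g, hle (Subgroup.mem_top g)⟩, rfl⟩
  exact Cfsg.Agent.Lib.Helper98.DOdd10.not_solvable_psl h2 h4
    (Group.isSolvable_of_surjective hsurj)

lemma exists_not_K3 [Fintype F] (h : 3 < Fintype.card F) : ∃ t : F, ¬ K3 t := by
  classical
  by_contra hcon
  have hall : ∀ t : F, K3 t := fun t => by
    by_contra ht; exact hcon ⟨t, ht⟩
  have hsub : (Finset.univ : Finset F) ⊆ {0, 1, -1} := by
    intro t _
    rcases K3_cases (hall t) with h | h | h <;> simp [h]
  have h1 := Finset.card_le_card hsub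
  have h3 : ({0, 1, -1} : Finset F).card ≤ 3 := Finset.card_le_three
  rw [Finset.card_univ] at h1
  omega

theorem Pr_of_K3 [CharP F 3] [Fintype F] (h : 3 < Fintype.card F) (x y : SL(2, F))
    (hx : K3 (tr x)) (hy : K3 (tr y)) (hxy : K3 (tr (x * y))) : Pr x y := by
  intro htop
  obtain ⟨t, ht⟩ := exists_not_K3 h
  have h1 := K3_tr_closure x y hx hy hxy (mk4 t (-1) 1 0 (by ring))
    (by rw [htop]; exact Subgroup.mem_top _)
  apply ht
  have e : tr (mk4 t (-1) 1 0 (by ring)) = t := by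
    rw [tr_def, mk4_00, mk4_11, add_zero]
  rwa [e] at h1

/-! ### Invariance of `Pr` -/

lemma Pr_of_le {x y x' y' : SL(2, F)}
    (hx : x ∈ Subgroup.closure ({x', y', negOne} : Set SL(2, F)))
    (hy : y ∈ Subgroup.closure ({x', y', negOne} : Set SL(2, F)))
    (h : Pr x' y') : Pr x y := by
  intro htop
  apply h
  rw [eq_top_iff, ← htop, Subgroup.closure_le]
  rintro z (rfl | rfl | rfl)
  · exact hx
  · exact hy
  · exact Subgroup.subset_closure (by simp)

lemma Pr_neg_left (x y : SL(2, F)) : Pr (negOne * x) y ↔ Pr x y := by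
  constructor
  · intro h
    refine Pr_of_le ?_ (Subgroup.subset_closure (by simp)) h
    have hmem : negOne * (negOne * x) ∈
        Subgroup.closure ({negOne * x, y, negOne} : Set SL(2, F)) :=
      Subgroup.mul_mem _ (Subgroup.subset_closure (by simp))
        (Subgroup.subset_closure (by simp))
    rwa [← mul_assoc, negOne_mul_negOne, one_mul] at hmem
  · intro h
    refine Pr_of_le ?_ (Subgroup.subset_closure (by simp)) h
    exact Subgroup.mul_mem _ (Subgroup.subset_closure (by simp))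
      (Subgroup.subset_closure (by simp))

lemma Pr_inv_left (x y : SL(2, F)) : Pr x⁻¹ y ↔ Pr x y := by
  constructor
  · intro h
    refine Pr_of_le ?_ (Subgroup.subset_closure (by simp)) h
    have hmem : (x⁻¹)⁻¹ ∈ Subgroup.closure ({x⁻¹, y, negOne} : Set SL(2, F)) :=
      Subgroup.inv_mem _ (Subgroup.subset_closure (by simp))
    rwa [inv_inv] at hmem
  · intro h
    refine Pr_of_le ?_ (Subgroup.subset_closure (by simp)) h
    exact Subgroup.inv_mem _ (Subgroup.subset_closure (by simp))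

lemma Pr_mul_right (x y : SL(2, F)) : Pr x (x * y) ↔ Pr x y := by
  constructor
  · intro h
    refine Pr_of_le (Subgroup.subset_closure (by simp)) ?_ h
    have hmem : x⁻¹ * (x * y) ∈ Subgroup.closure ({x, x * y, negOne} : Set SL(2, F)) :=
      Subgroup.mul_mem _ (Subgroup.inv_mem _ (Subgroup.subset_closure (by simp)))
        (Subgroup.subset_closure (by simp))
    rwa [inv_mul_cancel_left] at hmem
  · intro h
    refine Pr_of_le (Subgroup.subset_closure (by simp)) ?_ h
    exact Subgroup.mul_mem _ (Subgroup.subset_closure (by simp))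
      (Subgroup.subset_closure (by simp))

lemma Pr_conj_imp (g x y : SL(2, F)) (h : Pr (g * x * g⁻¹) (g * y * g⁻¹)) : Pr x y := by
  intro htop
  apply h
  have hle : Subgroup.closure ({x, y, negOne} : Set SL(2, F)) ≤
      (Subgroup.closure ({g * x * g⁻¹, g * y * g⁻¹, negOne} : Set SL(2, F))).comap
        (MulAut.conj g).toMonoidHom := by
    rw [Subgroup.closure_le]
    rintro z (rfl | rfl | rfl)
    · exact Subgroup.subset_closure (by simp)
    · exact Subgroup.subset_closure (by simp)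
    · have e : g * negOne * g⁻¹ = negOne := by
        rw [← negOne_comm, mul_assoc, mul_inv_cancel, mul_one]
      show g * negOne * g⁻¹ ∈ Subgroup.closure
        ({g * x * g⁻¹, g * y * g⁻¹, negOne} : Set SL(2, F))
      rw [e]
      exact Subgroup.subset_closure (by simp)
  rw [htop] at hle
  rw [eq_top_iff]
  intro z _
  have h1 : g⁻¹ * z * g ∈ (Subgroup.closure
      ({g * x * g⁻¹, g * y * g⁻¹, negOne} : Set SL(2, F))).comap
        (MulAut.conj g).toMonoidHom := hle (Subgroup.mem_top _)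
  have h2 : g * (g⁻¹ * z * g) * g⁻¹ ∈ Subgroup.closure
      ({g * x * g⁻¹, g * y * g⁻¹, negOne} : Set SL(2, F)) := h1
  have h3 : g * (g⁻¹ * z * g) * g⁻¹ = z := by group
  rwa [h3] at h2

lemma Pr_conj (g x y : SL(2, F)) : Pr (g * x * g⁻¹) (g * y * g⁻¹) ↔ Pr x y := by
  constructor
  · exact Pr_conj_imp g x y
  · intro h
    apply Pr_conj_imp g⁻¹
    have e1 : g⁻¹ * (g * x * g⁻¹) * g⁻¹⁻¹ = x := by group
    have e2 : g⁻¹ * (g * y * g⁻¹) * g⁻¹⁻¹ = y := by group
    rw [e1, e2]; exact h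

theorem card_Pr_conj (g x : SL(2, F)) :
    Nat.card {y : SL(2, F) // Pr (g * x * g⁻¹) y} = Nat.card {y : SL(2, F) // Pr x y} := by
  symm
  apply Nat.card_congr
  exact Equiv.subtypeEquiv (MulAut.conj g).toEquiv (fun y => (Pr_conj g x y).symm)

theorem card_Pr_neg (x : SL(2, F)) :
    Nat.card {y : SL(2, F) // Pr (negOne * x) y} = Nat.card {y : SL(2, F) // Pr x y} :=
  Nat.card_congr (Equiv.subtypeEquivRight (fun y => Pr_neg_left x y))

theorem card_Pr_inv (x : SL(2, F)) :
    Nat.card {y : SL(2, F) // Pr x⁻¹ y} = Nat.card {y : SL(2, F) // Pr x y} :=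
  Nat.card_congr (Equiv.subtypeEquivRight (fun y => Pr_inv_left x y))

/-! ### Torus normalizers -/

lemma comm_of_norInv (x a : SL(2, F)) (hx1 : x * x ≠ 1) (hx2 : x * x ≠ negOne)
    (h : x ∈ NorInv a) : x * a = a * x := by
  rcases h with h | h
  · exact (conj_eq_iff a x).1 h
  · have h' : (x * x) * a = a * (x * x) := by
      have e1 : x * a⁻¹ * x⁻¹ = a := by
        have : x * a⁻¹ * x⁻¹ = (x * a * x⁻¹)⁻¹ := by group
        rw [this, h, inv_inv]
      have e2 : (x * x) * a * (x * x)⁻¹ = x * (x * a * x⁻¹) * x⁻¹ := by group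
      rw [h, e1] at e2
      exact (conj_eq_iff a (x * x)).1 e2
    exact comm_trans x (x * x) a hx1 hx2 (by group) h'

lemma norInv_of_comm (a x y : SL(2, F)) (ha : tr a ^ 2 ≠ 4) (hx : tr x ^ 2 ≠ 4)
    (hxa : x * a = a * x) (hy : y ∈ NorInv a) : y ∈ NorInv x := by
  obtain ⟨ha1, ha2⟩ := ne_of_tr a ha
  rcases hy with h | h
  · left
    rw [conj_eq_iff] at h ⊢
    exact comm_trans y a x ha1 ha2 h hxa.symm
  · have hz : (y * x * y⁻¹) * a = a * (y * x * y⁻¹) := by
      have h1 : (y * x * y⁻¹) * (y * a * y⁻¹) = (y * a * y⁻¹) * (y * x * y⁻¹) := by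
        have e1 : (y * x * y⁻¹) * (y * a * y⁻¹) = y * (x * a) * y⁻¹ := by group
        have e2 : (y * a * y⁻¹) * (y * x * y⁻¹) = y * (a * x) * y⁻¹ := by group
        rw [e1, e2, hxa]
      rw [h] at h1
      calc (y * x * y⁻¹) * a = a * (a⁻¹ * (y * x * y⁻¹)) * a := by group
        _ = a * ((y * x * y⁻¹) * a⁻¹) * a := by rw [h1]
        _ = a * (y * x * y⁻¹) := by group
    have hzx : x * (y * x * y⁻¹) = (y * x * y⁻¹) * x :=
      comm_trans x a (y * x * y⁻¹) ha1 ha2 hxa hz.symm
    rcases eq_or_of_commute x (y * x * y⁻¹) hzx (tr_conj y x).symm with h4 | h4 | h4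
    · exact absurd h4 hx
    · left; exact h4.symm
    · right; exact eq_inv_of_mul_eq_one_right h4

section char3
variable [CharP F 3] [Fintype F] {p : ℕ}

lemma card_ge (hp : p.Prime) (hodd : Odd p) (hF : Fintype.card F = 3 ^ p) :
    27 ≤ Fintype.card F := by
  have h3 : 3 ≤ p := by
    rcases hp.eq_two_or_odd with h | h
    · rw [h] at hodd; exact absurd hodd (by decide)
    · have := hp.two_le; omega
  calc 27 = 3 ^ 3 := by norm_num
    _ ≤ 3 ^ p := Nat.pow_le_pow_right (by norm_num) h3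
    _ = Fintype.card F := hF.symm

/-- **The three ways for a pair to generate a proper subgroup.** -/
theorem Pr_cases (hp : p.Prime) (hodd : Odd p) (hF : Fintype.card F = 3 ^ p)
    (x y : SL(2, F)) (h : Pr x y) :
    (∃ g : SL(2, F), (g * x * g⁻¹).1 1 0 = 0 ∧ (g * y * g⁻¹).1 1 0 = 0) ∨
    (∃ a : SL(2, F), tr a ^ 2 ≠ 4 ∧ x ∈ NorInv a ∧ y ∈ NorInv a) ∨
    (K3 (tr x) ∧ K3 (tr y) ∧ K3 (tr (x * y))) := by
  have hx : x ∈ Subgroup.closure ({x, y, negOne} : Set SL(2, F)) :=
    Subgroup.subset_closure (by simp)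
  have hy : y ∈ Subgroup.closure ({x, y, negOne} : Set SL(2, F)) :=
    Subgroup.subset_closure (by simp)
  have hn : negOne ∈ Subgroup.closure ({x, y, negOne} : Set SL(2, F)) :=
    Subgroup.subset_closure (by simp)
  have hZ : ∀ z : SL(2, F), z ∈ (Zc : Subgroup SL(2, F)) → ((1 : SL(2, F)) * z * 1⁻¹).1 1 0 = 0 := by
    intro z hz
    rw [one_mul, inv_one, mul_one]
    rcases hz with rfl | rfl
    · exact one10
    · exact n10
  rcases proper_tri hp hodd hF _ hn h with ⟨g, hg⟩ | (hZc | ⟨a, ha, hac, ha1, ha2, hle⟩) | hK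
  · exact Or.inl ⟨g, hg x hx, hg y hy⟩
  · exact Or.inl ⟨1, hZ x (hZc hx), hZ y (hZc hy)⟩
  · right; left
    exact ⟨a, tr_sq_ne_four 3 (two_ne hF) a hac ha1 ha2, hle hx, hle hy⟩
  · right; right
    exact ⟨hK x hx, hK y hy, hK (x * y) (Subgroup.mul_mem _ hx hy)⟩

omit [CharP F 3] [Fintype F] in
lemma exists_mk4 (x : SL(2, F)) : ∃ (a b c e : F) (h : a * e - b * c = 1), x = mk4 a b c e h :=
  ⟨x.1 0 0, x.1 0 1, x.1 1 0, x.1 1 1, det_eq x, by apply sl2_ext <;> rfl⟩

/-! ### Nonsplit semisimple elements -/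

omit [CharP F 3] in
/-- an element inverting a semisimple element with non-zero lower left entry -/
theorem exists_inverting (h2 : (2 : F) ≠ 0) (hodd : Fintype.card F % 2 = 1) (x : SL(2, F))
    (hc : x.1 1 0 ≠ 0) (htr : tr x ^ 2 ≠ 4) : ∃ n : SL(2, F), n * x * n⁻¹ = x⁻¹ := by
  obtain ⟨a, b, c, e, hd, rfl⟩ := exists_mk4 x
  rw [mk4_10] at hc
  rw [tr_def, mk4_00, mk4_11] at htr
  have hD : (a - e) ^ 2 + 4 * b * c ≠ 0 := by
    intro h0
    apply htr
    linear_combination h0 + 4 * hd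
  obtain ⟨Y, γ, hY⟩ := FiniteField.exists_root_sum_quadratic
    (f := Polynomial.C (1 : F) * Polynomial.X ^ 2 + Polynomial.C 0 * Polynomial.X +
      Polynomial.C 0)
    (g := Polynomial.C (-((a - e) ^ 2 + 4 * b * c)) * Polynomial.X ^ 2 +
      Polynomial.C 0 * Polynomial.X + Polynomial.C (4 * c ^ 2))
    (Polynomial.degree_quadratic one_ne_zero) (Polynomial.degree_quadratic (neg_ne_zero.2 hD))
    hodd
  simp only [Polynomial.eval_add, Polynomial.eval_mul, Polynomial.eval_C, Polynomial.eval_pow,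
    Polynomial.eval_X, zero_mul, add_zero, one_mul] at hY
  obtain ⟨α, hα⟩ : ∃ α : F, 2 * c * α = Y + (a - e) * γ :=
    ⟨(Y + (a - e) * γ) / (2 * c), by field_simp⟩
  obtain ⟨β, hβ⟩ : ∃ β : F, c * β = -(α * (a - e) + γ * b) :=
    ⟨-(α * (a - e) + γ * b) / c, by field_simp⟩
  have hdet : α * (-α) - β * γ = 1 := by
    have h4c : (4 * c ^ 2 : F) ≠ 0 := by
      have : (4 : F) = 2 * 2 := by norm_num
      rw [this]
      exact mul_ne_zero (mul_ne_zero h2 h2) (pow_ne_zero 2 hc)
    apply mul_left_cancel₀ h4c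
    linear_combination (-(2 * c * α) - (Y + (a - e) * γ) + 2 * (a - e) * γ) * hα +
      (-4 * c * γ) * hβ - hY
  refine ⟨mk4 α β γ (-α) hdet, ?_⟩
  rw [mul_inv_eq_iff_eq_mul]
  apply sl2_ext
  · rw [mul00, mul00, inv00, inv01]
    simp only [mk4_00, mk4_01, mk4_10, mk4_11]
    linear_combination hβ
  · rw [mul01, mul01, inv00, inv01]
    simp only [mk4_00, mk4_01, mk4_10, mk4_11]
    ring
  · rw [mul10, mul10, inv10, inv11]
    simp only [mk4_00, mk4_01, mk4_10, mk4_11]
    ring
  · rw [mul11, mul11, inv10, inv11]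
    simp only [mk4_00, mk4_01, mk4_10, mk4_11]
    linear_combination hβ

omit [Fintype F] in
lemma not_K3_of_tr {t : F} (h4 : t ^ 2 ≠ 4) (h0 : t ≠ 0) : ¬ K3 t := by
  intro hk
  rcases K3_cases hk with h | h | h
  · exact h0 h
  · apply h4; rw [h]; linear_combination -(three_zero (F := F))
  · apply h4; rw [h]; linear_combination -(three_zero (F := F))

omit [CharP F 3] [Fintype F] in
lemma tr_sq_of_nonsplit (x : SL(2, F)) (hns : ∀ r : F, r ^ 2 - tr x * r + 1 ≠ 0) :
    tr x ^ 2 ≠ 4 := by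
  intro h
  have h' : (tr x - 2) * (tr x + 2) = 0 := by linear_combination h
  rcases mul_eq_zero.1 h' with h1 | h1
  · apply hns 1; linear_combination -h1
  · apply hns (-1); linear_combination h1

omit [CharP F 3] [Fintype F] in
lemma sq_ne_negOne_of_tr (x : SL(2, F)) (h0 : tr x ≠ 0) : x * x ≠ negOne := by
  intro h
  have h1 := tr_sq x
  rw [h, tr_negOne] at h1
  have h4 : tr x ^ 2 = 0 := by linear_combination -h1
  exact h0 (pow_eq_zero_iff (two_ne_zero (α := ℕ)) |>.1 h4)

omit [CharP F 3] [Fintype F] in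
lemma sq_ne_one_of_tr (h2 : (2 : F) ≠ 0) (x : SL(2, F)) (h4 : tr x ^ 2 ≠ 4) : x * x ≠ 1 := by
  intro h
  obtain ⟨h1, h1'⟩ := ne_of_tr x h4
  rcases sq_eq_one h2 x h with h | h
  · exact h1 h
  · exact h1' h

theorem Pr_iff_nonsplit (hp : p.Prime) (hodd : Odd p) (hF : Fintype.card F = 3 ^ p)
    (x y : SL(2, F)) (hns : ∀ r : F, r ^ 2 - tr x * r + 1 ≠ 0) (hK : ¬ K3 (tr x)) :
    Pr x y ↔ y ∈ NorInv x := by
  have h2 : (2 : F) ≠ 0 := two_ne hF
  have h27 := card_ge hp hodd hF
  have htr : tr x ^ 2 ≠ 4 := tr_sq_of_nonsplit x hns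
  obtain ⟨hx1, hx2⟩ := ne_of_tr x htr
  have h0 : tr x ≠ 0 := fun h => hK (by rw [h]; exact K3_zero)
  constructor
  · intro h
    rcases Pr_cases hp hodd hF x y h with ⟨g, hg, -⟩ | ⟨a, ha, hxa, hya⟩ | ⟨hk, -, -⟩
    · exfalso
      have hd := det_eq (g * x * g⁻¹)
      rw [hg] at hd
      have ht := tr_conj g x
      rw [tr_def] at ht
      apply hns ((g * x * g⁻¹).1 0 0)
      rw [← ht]
      linear_combination -hd
    · exact norInv_of_comm a x y ha htr
        (comm_of_norInv x a (sq_ne_one_of_tr h2 x htr) (sq_ne_negOne_of_tr x h0) hxa) hya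
    · exact absurd hk hK
  · intro h
    exact Pr_of_norInv h2 (by omega) x x y hx1 hx2 (self_mem_norInv x) h

theorem card_Pr_nonsplit (hp : p.Prime) (hodd : Odd p) (hF : Fintype.card F = 3 ^ p)
    (x : SL(2, F)) (hns : ∀ r : F, r ^ 2 - tr x * r + 1 ≠ 0) (hK : ¬ K3 (tr x)) :
    Nat.card {y : SL(2, F) // Pr x y} = 2 * (Fintype.card F + 1) := by
  have h2 : (2 : F) ≠ 0 := two_ne hF
  have : Finite SL(2, F) := finite_SL
  have htr : tr x ^ 2 ≠ 4 := tr_sq_of_nonsplit x hns
  have hc : x.1 1 0 ≠ 0 := by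
    intro hc
    have hd := det_eq x
    rw [hc] at hd
    apply hns (x.1 0 0)
    rw [tr_def]
    linear_combination -hd
  have hoddF : Fintype.card F % 2 = 1 := by
    rw [hF]; exact Nat.odd_iff.1 (Odd.pow (by decide))
  obtain ⟨n₀, hn₀⟩ := exists_inverting h2 hoddF x hc htr
  have hne : x ≠ x⁻¹ := by
    intro h
    apply sq_ne_one_of_tr h2 x htr
    calc x * x = x * x⁻¹ := by rw [← h]
      _ = 1 := mul_inv_cancel x
  have h1 : Nat.card {y : SL(2, F) // Pr x y} = Nat.card (NorInv x) :=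
    Nat.card_congr (Equiv.subtypeEquivRight (fun y => Pr_iff_nonsplit hp hodd hF x y hns hK))
  rw [h1, card_norInv_eq x n₀ hn₀ hne, card_centralizer_nonsplit h2 x htr hns]

/-! ### Split semisimple elements -/

omit [CharP F 3] [Fintype F] in
theorem exists_conj_d (x : SL(2, F)) (r : F) (hr : r ^ 2 - tr x * r + 1 = 0)
    (htr : tr x ^ 2 ≠ 4) :
    ∃ (g : SL(2, F)) (lam : F) (hlam : lam ≠ 0), lam ^ 2 ≠ 1 ∧ g * x * g⁻¹ = d lam hlam := by
  obtain ⟨a, b, c, e, hd, rfl⟩ := exists_mk4 x
  rw [tr_def, mk4_00, mk4_11] at hr htr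
  by_cases hc : c = 0
  · subst hc
    have hae : a * e = 1 := by linear_combination hd
    have ha0 : a ≠ 0 := left_ne_zero_of_mul_eq_one hae
    have hne : a - e ≠ 0 := by
      intro h
      apply htr
      have h' : e = a := by linear_combination -h
      rw [h'] at hae ⊢
      linear_combination 4 * hae
    have ha2 : a ^ 2 ≠ 1 := by
      intro h
      apply hne
      have : a * (a - e) = 0 := by linear_combination h - hae
      rcases mul_eq_zero.1 this with h' | h'
      · exact absurd h' ha0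
      · exact h'
    refine ⟨u (b / (a - e)), a, ha0, ha2, ?_⟩
    rw [mul_inv_eq_iff_eq_mul]
    apply sl2_ext
    · rw [mul00, mul00]
      simp only [mk4_00, mk4_01, mk4_10, mk4_11, u00, u01, u10, u11, d00, d01, d10, d11]
      ring
    · rw [mul01, mul01]
      simp only [mk4_00, mk4_01, mk4_10, mk4_11, u00, u01, u10, u11, d00, d01, d10, d11]
      field_simp
      ring
    · rw [mul10, mul10]
      simp only [mk4_00, mk4_01, mk4_10, mk4_11, u00, u01, u10, u11, d00, d01, d10, d11]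
      ring
    · rw [mul11, mul11]
      simp only [mk4_00, mk4_01, mk4_10, mk4_11, u00, u01, u10, u11, d00, d01, d10, d11]
      rw [zero_mul, zero_add, one_mul, zero_mul, zero_add, mul_one]
      exact eq_inv_of_mul_eq_one_right hae
  · obtain ⟨s, hs⟩ : ∃ s : F, s = a + e - r := ⟨_, rfl⟩
    have hrs : r * s = 1 := by rw [hs]; linear_combination -hr
    have hr0 : r ≠ 0 := left_ne_zero_of_mul_eq_one hrs
    have hsinv : r⁻¹ = s := inv_eq_of_mul_eq_one_right hrs
    have hs2 : s ^ 2 - (a + e) * s + 1 = 0 := by rw [hs]; linear_combination hr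
    have hsr : s - r ≠ 0 := by
      intro h
      apply htr
      have h' : s = r := by linear_combination h
      have h'' : a + e = 2 * r := by rw [h'] at hs; linear_combination -hs
      rw [h'] at hrs
      rw [h'']
      linear_combination 4 * hrs
    have hr2 : r ^ 2 ≠ 1 := by
      intro h
      apply hsr
      have : r * (s - r) = 0 := by linear_combination hrs - h
      rcases mul_eq_zero.1 this with h' | h'
      · exact absurd h' hr0
      · exact h'
    have hcs : c * (s - r) ≠ 0 := mul_ne_zero hc hsr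
    obtain ⟨k, hk⟩ : ∃ k : F, c * k * (s - r) = 1 := ⟨(c * (s - r))⁻¹, by field_simp⟩
    refine ⟨mk4 (c * k) ((r - a) * k) c (s - a) (by linear_combination hk), r, hr0, hr2, ?_⟩
    rw [mul_inv_eq_iff_eq_mul]
    apply sl2_ext
    · rw [mul00, mul00]
      simp only [mk4_00, mk4_01, mk4_10, mk4_11, d00, d01, d10, d11]
      ring
    · rw [mul01, mul01]
      simp only [mk4_00, mk4_01, mk4_10, mk4_11, d00, d01, d10, d11]
      linear_combination (-k) * hr - k * hd
    · rw [mul10, mul10]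
      simp only [mk4_00, mk4_01, mk4_10, mk4_11, d00, d01, d10, d11]
      rw [hsinv, hs]; ring
    · rw [mul11, mul11]
      simp only [mk4_00, mk4_01, mk4_10, mk4_11, d00, d01, d10, d11]
      rw [hsinv]
      linear_combination -hs2 - hd

theorem Pr_d_iff (hp : p.Prime) (hodd : Odd p) (hF : Fintype.card F = 3 ^ p)
    (lam : F) (h0 : lam ≠ 0) (h1 : lam ^ 2 ≠ 1) (y : SL(2, F)) :
    Pr (d lam h0) y ↔ y.1 1 0 = 0 ∨ y.1 0 1 = 0 ∨ (y.1 0 0 = 0 ∧ y.1 1 1 = 0) := by
  have h2 : (2 : F) ≠ 0 := two_ne hF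
  have h27 := card_ge hp hodd hF
  have hmul : lam * lam⁻¹ = 1 := mul_inv_cancel₀ h0
  have hne : lam - lam⁻¹ ≠ 0 := by
    intro h
    apply h1
    linear_combination lam * h + hmul
  have hm1 : lam ^ 2 ≠ -1 := not_sq_neg_one hodd hF lam
  have htr : tr (d lam h0) ^ 2 ≠ 4 := by
    rw [tr_def, d00, d11]
    intro h
    apply hne
    have : (lam - lam⁻¹) ^ 2 = 0 := by linear_combination h - 4 * hmul
    exact pow_eq_zero_iff (two_ne_zero (α := ℕ)) |>.1 this
  have htr0 : tr (d lam h0) ≠ 0 := by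
    rw [tr_def, d00, d11]
    intro h
    apply hm1
    linear_combination lam * h - hmul
  obtain ⟨hd1, hd2⟩ := ne_of_tr _ htr
  constructor
  · intro h
    rcases Pr_cases hp hodd hF _ y h with ⟨g, hg1, hg2⟩ | ⟨a, ha, hda, hya⟩ | ⟨hk, -, -⟩
    · rw [conj10] at hg1 hg2
      simp only [d00, d01, d10, d11] at hg1
      have hgd := det_eq g
      have h3 : g.1 1 0 * g.1 1 1 * (lam - lam⁻¹) = 0 := by linear_combination hg1
      rcases mul_eq_zero.1 h3 with h4 | h4
      · rcases mul_eq_zero.1 h4 with h5 | h5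
        · left
          rw [h5] at hg2 hgd
          have h6 : g.1 1 1 ≠ 0 := by
            intro h6; rw [h6] at hgd; simp at hgd
          have h7 : g.1 1 1 ^ 2 * y.1 1 0 = 0 := by linear_combination hg2
          rcases mul_eq_zero.1 h7 with h8 | h8
          · exact absurd (pow_eq_zero_iff (two_ne_zero (α := ℕ)) |>.1 h8) h6
          · exact h8
        · right; left
          rw [h5] at hg2 hgd
          have h6 : g.1 1 0 ≠ 0 := by
            intro h6; rw [h6] at hgd; simp at hgd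
          have h7 : g.1 1 0 ^ 2 * y.1 0 1 = 0 := by linear_combination -hg2
          rcases mul_eq_zero.1 h7 with h8 | h8
          · exact absurd (pow_eq_zero_iff (two_ne_zero (α := ℕ)) |>.1 h8) h6
          · exact h8
      · exact absurd h4 hne
    · have hcomm := comm_of_norInv (d lam h0) a (sq_ne_one_of_tr h2 _ htr)
        (sq_ne_negOne_of_tr _ htr0) hda
      rcases norInv_of_comm a (d lam h0) y ha htr hcomm hya with h3 | h3
      · right; left
        rw [conj_eq_iff] at h3
        have h4 : (y * d lam h0).1 0 1 = (d lam h0 * y).1 0 1 := by rw [h3]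
        rw [mul01, mul01] at h4
        simp only [d00, d01, d10, d11] at h4
        have h5 : y.1 0 1 * (lam - lam⁻¹) = 0 := by linear_combination -h4
        rcases mul_eq_zero.1 h5 with h6 | h6
        · exact h6
        · exact absurd h6 hne
      · right; right
        rw [mul_inv_eq_iff_eq_mul] at h3
        have h4 : (y * d lam h0).1 0 0 = ((d lam h0)⁻¹ * y).1 0 0 := by rw [h3]
        have h4' : (y * d lam h0).1 1 1 = ((d lam h0)⁻¹ * y).1 1 1 := by rw [h3]
        rw [mul00, mul00, inv00, inv01] at h4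
        rw [mul11, mul11, inv10, inv11] at h4'
        simp only [d00, d01, d10, d11] at h4 h4'
        constructor
        · have h5 : y.1 0 0 * (lam - lam⁻¹) = 0 := by linear_combination h4
          rcases mul_eq_zero.1 h5 with h6 | h6
          · exact h6
          · exact absurd h6 hne
        · have h5 : y.1 1 1 * (lam - lam⁻¹) = 0 := by linear_combination -h4'
          rcases mul_eq_zero.1 h5 with h6 | h6
          · exact h6
          · exact absurd h6 hne
    · exact absurd hk (not_K3_of_tr htr htr0)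
  · rintro (h | h | ⟨h3, h4⟩)
    · apply Pr_of_borel 1
      · rw [one_mul, inv_one, mul_one, d10]
      · rw [one_mul, inv_one, mul_one, h]
    · apply Pr_of_borel w
      · rw [conj10]
        simp only [d00, d01, d10, d11, w00, w01, w10, w11]
        ring
      · rw [conj10, h]
        simp only [w00, w01, w10, w11]
        ring
    · apply Pr_of_norInv h2 (by omega) (d lam h0) (d lam h0) y hd1 hd2 (self_mem_norInv _)
      right
      rw [mul_inv_eq_iff_eq_mul]
      apply sl2_ext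
      · rw [mul00, mul00, inv00, inv01, h3]
        simp only [d00, d01, d10, d11]
        ring
      · rw [mul01, mul01, inv00, inv01, h3, h4]
        simp only [d00, d01, d10, d11]
        ring
      · rw [mul10, mul10, inv10, inv11, h3, h4]
        simp only [d00, d01, d10, d11]
        ring
      · rw [mul11, mul11, inv10, inv11, h4]
        simp only [d00, d01, d10, d11]
        ring

/-! ### Unipotent elements -/

omit [CharP F 3] [Fintype F] in
lemma tr_u (b : F) : tr (u b) = 2 := by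
  rw [tr_def, u00, u11]; norm_num

omit [CharP F 3] [Fintype F] in
lemma tr_u_mul (y : SL(2, F)) : tr (u 1 * y) = tr y + y.1 1 0 := by
  rw [tr_def, tr_def, mul00, mul11]
  simp only [u00, u01, u10, u11]
  ring

theorem Pr_u_iff (hp : p.Prime) (hodd : Odd p) (hF : Fintype.card F = 3 ^ p) (y : SL(2, F)) :
    Pr (u 1) y ↔ y.1 1 0 = 0 ∨ (K3 (tr y) ∧ K3 (y.1 1 0)) := by
  have h2 : (2 : F) ≠ 0 := two_ne hF
  have h27 := card_ge hp hodd hF
  have hu1 : (u 1 : SL(2, F)) ≠ 1 := by
    intro h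
    have h' : (u (1 : F)).1 0 1 = (1 : SL(2, F)).1 0 1 := by rw [h]
    rw [u01, one01] at h'
    exact one_ne_zero h'
  have huu1 : (u 1 : SL(2, F)) * u 1 ≠ 1 := by
    intro h
    have h' : ((u (1 : F)) * u 1).1 0 1 = (1 : SL(2, F)).1 0 1 := by rw [h]
    rw [u_mul, u01, one01] at h'
    exact h2 (by linear_combination h')
  have huu2 : (u 1 : SL(2, F)) * u 1 ≠ negOne := by
    intro h
    have h' : ((u (1 : F)) * u 1).1 0 1 = (negOne : SL(2, F)).1 0 1 := by rw [h]
    rw [u_mul, u01, n01] at h'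
    exact h2 (by linear_combination h')
  constructor
  · intro h
    rcases Pr_cases hp hodd hF _ y h with ⟨g, hg1, hg2⟩ | ⟨a, ha, hua, hya⟩ | ⟨-, hk, hk'⟩
    · left
      rw [conj10] at hg1 hg2
      simp only [u00, u01, u10, u11] at hg1
      have hgd := det_eq g
      have h3 : g.1 1 0 ^ 2 = 0 := by linear_combination -hg1
      have h5 : g.1 1 0 = 0 := pow_eq_zero_iff (two_ne_zero (α := ℕ)) |>.1 h3
      rw [h5] at hg2 hgd
      have h6 : g.1 1 1 ≠ 0 := by
        intro h6; rw [h6] at hgd; simp at hgd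
      have h7 : g.1 1 1 ^ 2 * y.1 1 0 = 0 := by linear_combination hg2
      rcases mul_eq_zero.1 h7 with h8 | h8
      · exact absurd (pow_eq_zero_iff (two_ne_zero (α := ℕ)) |>.1 h8) h6
      · exact h8
    · exfalso
      have hcomm := comm_of_norInv (u 1) a huu1 huu2 hua
      exact ha (tr_sq_of_commute_unip h2 (u 1) a (tr_u 1) hu1 hcomm.symm)
    · right
      refine ⟨hk, ?_⟩
      rw [tr_u_mul] at hk'
      have := K3_sub hk' hk
      rwa [add_sub_cancel_left] at this
  · rintro (h | ⟨h3, h4⟩)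
    · apply Pr_of_borel 1
      · rw [one_mul, inv_one, mul_one, u10]
      · rw [one_mul, inv_one, mul_one, h]
    · apply Pr_of_K3 (by omega) (u 1) y
      · rw [tr_u]; exact K3_two
      · exact h3
      · rw [tr_u_mul]; exact K3_add h3 h4

lemma sq_or_neg_sq (hodd : Odd p) (hF : Fintype.card F = 3 ^ p) (b : F) (hb : b ≠ 0) :
    ∃ s : F, s ≠ 0 ∧ (b = s ^ 2 ∨ b = -s ^ 2) := by
  classical
  have hm1 : ¬ IsSquare (-1 : F) := by
    rw [FiniteField.isSquare_neg_one_iff]
    intro h; exact h (card_mod_four hodd hF)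
  by_cases h : IsSquare b
  · obtain ⟨s, hs⟩ := h
    refine ⟨s, ?_, Or.inl (by rw [hs]; ring)⟩
    rintro rfl; apply hb; rw [hs]; ring
  · have h1 : quadraticChar F b = -1 := quadraticChar_neg_one_iff_not_isSquare.2 h
    have h2 : quadraticChar F (-1) = -1 := quadraticChar_neg_one_iff_not_isSquare.2 hm1
    have h3 : quadraticChar F (-b) = 1 := by
      have e : -b = (-1) * b := by ring
      rw [e, map_mul, h1, h2]; norm_num
    have h4 : IsSquare (-b) := (quadraticChar_one_iff_isSquare (neg_ne_zero.2 hb)).1 h3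
    obtain ⟨s, hs⟩ := h4
    refine ⟨s, ?_, Or.inr (by linear_combination -hs)⟩
    rintro rfl; apply hb
    have : -b = 0 := by rw [hs]; ring
    exact neg_eq_zero.1 this

theorem exists_conj_u1 (hodd : Odd p) (hF : Fintype.card F = 3 ^ p) (x : SL(2, F))
    (htr : tr x = 2) (hx : x ≠ 1) :
    ∃ g : SL(2, F), g * x * g⁻¹ = u 1 ∨ g * x * g⁻¹ = (u 1)⁻¹ := by
  obtain ⟨g, b, hb, hg⟩ := exists_conj_u x htr hx
  obtain ⟨s, hs0, hs⟩ := sq_or_neg_sq hodd hF b hb
  have hs1 : s⁻¹ ≠ 0 := inv_ne_zero hs0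
  refine ⟨d s⁻¹ hs1 * g, ?_⟩
  have e : d s⁻¹ hs1 * g * x * (d s⁻¹ hs1 * g)⁻¹ = d s⁻¹ hs1 * (g * x * g⁻¹) * (d s⁻¹ hs1)⁻¹ := by
    group
  rw [e, hg, d_u_d]
  rcases hs with h | h
  · left
    congr 1
    rw [h]; field_simp
  · right
    rw [u_inv]
    congr 1
    rw [h]; field_simp

/-! ### Elements of order four -/

omit [CharP F 3] [Fintype F] in
lemma W_comm_iff (y : SL(2, F)) :
    y * W = W * y ↔ y.1 0 0 = y.1 1 1 ∧ y.1 0 1 + y.1 1 0 = 0 := by
  constructor
  · intro h
    have h1 : (y * W).1 0 0 = (W * y).1 0 0 := by rw [h]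
    have h2 : (y * W).1 1 0 = (W * y).1 1 0 := by rw [h]
    rw [mul00, mul00, W00, W01, W10] at h1
    rw [mul10, mul10, W00, W10, W11] at h2
    exact ⟨by linear_combination -h2, by linear_combination h1⟩
  · rintro ⟨h1, h2⟩
    apply sl2_ext
    · rw [mul00, mul00, W00, W01, W10]; linear_combination h2
    · rw [mul01, mul01, W00, W01, W11]; linear_combination -h1
    · rw [mul10, mul10, W00, W10, W11]; linear_combination -h1
    · rw [mul11, mul11, W01, W10, W11]; linear_combination -h2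

omit [CharP F 3] [Fintype F] in
lemma W_inv_iff (y : SL(2, F)) :
    y * W = W⁻¹ * y ↔ tr y = 0 ∧ y.1 0 1 = y.1 1 0 := by
  rw [tr_def]
  constructor
  · intro h
    have h1 : (y * W).1 0 0 = (W⁻¹ * y).1 0 0 := by rw [h]
    have h2 : (y * W).1 1 0 = (W⁻¹ * y).1 1 0 := by rw [h]
    rw [mul00, mul00, inv00, inv01] at h1
    rw [mul10, mul10, inv10, inv11] at h2
    simp only [W00, W01, W10, W11] at h1 h2
    exact ⟨by linear_combination h2, by linear_combination h1⟩
  · rintro ⟨h1, h2⟩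
    apply sl2_ext
    · rw [mul00, mul00, inv00, inv01]; simp only [W00, W01, W10, W11]; linear_combination h2
    · rw [mul01, mul01, inv00, inv01]; simp only [W00, W01, W10, W11]; linear_combination -h1
    · rw [mul10, mul10, inv10, inv11]; simp only [W00, W01, W10, W11]; linear_combination h1
    · rw [mul11, mul11, inv10, inv11]; simp only [W00, W01, W10, W11]; linear_combination h2

omit [CharP F 3] [Fintype F] in
lemma tr_W_mul (y : SL(2, F)) : tr (W * y) = y.1 0 1 - y.1 1 0 := by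
  rw [tr_def, mul00, mul11, W00, W01, W10, W11]; ring

omit [CharP F 3] [Fintype F] in
lemma sym_of_inv (a : SL(2, F)) (h : W * a * W⁻¹ = a⁻¹) : a.1 0 1 = a.1 1 0 := by
  rw [mul_inv_eq_iff_eq_mul] at h
  have h1 : (W * a).1 0 0 = (a⁻¹ * W).1 0 0 := by rw [h]
  rw [mul00, mul00, inv00, inv01, W00, W01, W10] at h1
  linear_combination h1

omit [CharP F 3] [Fintype F] in
lemma sym_of_comm (a y : SL(2, F)) (ha : tr a ^ 2 ≠ 4) (hsym : a.1 0 1 = a.1 1 0)
    (hc : y * a = a * y) : y.1 0 1 = y.1 1 0 := by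
  by_contra hne
  have hne' : y.1 0 1 - y.1 1 0 ≠ 0 := sub_ne_zero.2 hne
  have h1 : (y * a).1 0 0 = (a * y).1 0 0 := by rw [hc]
  have h2 : (y * a).1 0 1 = (a * y).1 0 1 := by rw [hc]
  have h3 : (y * a).1 1 0 = (a * y).1 1 0 := by rw [hc]
  rw [mul00, mul00] at h1
  rw [mul01, mul01] at h2
  rw [mul10, mul10] at h3
  have h4 : a.1 0 1 * (y.1 0 1 - y.1 1 0) = 0 := by linear_combination h1 + y.1 0 1 * hsym
  have h5 : a.1 0 1 = 0 := by
    rcases mul_eq_zero.1 h4 with h | h
    · exact h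
    · exact absurd h hne'
  have h5' : a.1 1 0 = 0 := by rw [← hsym]; exact h5
  rw [h5] at h2
  rw [h5'] at h3
  have h6 : (a.1 0 0 - a.1 1 1) * (y.1 0 1 - y.1 1 0) = 0 := by linear_combination -h2 - h3
  have h7 : a.1 0 0 = a.1 1 1 := by
    rcases mul_eq_zero.1 h6 with h | h
    · linear_combination h
    · exact absurd h hne'
  have hd := det_eq a
  rw [h5, h5', h7] at hd
  apply ha
  rw [tr_def, h7]
  linear_combination 4 * hd

omit [CharP F 3] [Fintype F] in
lemma sq_of_tr_zero (y : SL(2, F)) (h : tr y = 0) : y * y = negOne := by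
  rw [tr_def] at h
  have hd := det_eq y
  have h11 : y.1 1 1 = -y.1 0 0 := by linear_combination h
  apply sl2_ext
  · rw [mul00, n00]; rw [h11] at hd; linear_combination -hd
  · rw [mul01, n01]; linear_combination y.1 0 1 * h
  · rw [mul10, n10]; linear_combination y.1 1 0 * h
  · rw [mul11, n11]; rw [h11] at hd ⊢; linear_combination -hd

omit [CharP F 3] [Fintype F] in
lemma four_ne (h2 : (2 : F) ≠ 0) : (4 : F) ≠ 0 := by
  have : (4 : F) = 2 * 2 := by norm_num
  rw [this]; exact mul_ne_zero h2 h2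

omit [CharP F 3] [Fintype F] in
lemma tr_W_sq (h2 : (2 : F) ≠ 0) : tr (W : SL(2, F)) ^ 2 ≠ 4 := by
  rw [tr_W]
  intro h
  exact four_ne h2 (by rw [← h]; ring)

omit [CharP F 3] in
/-- an element of trace zero generates a proper subgroup with `W` -/
theorem Pr_W_of_tr (h2 : (2 : F) ≠ 0) (h4 : 4 ≤ Fintype.card F) (y : SL(2, F))
    (h : tr y = 0) : Pr W y := by
  obtain ⟨hW1, hW2⟩ := ne_of_tr (W : SL(2, F)) (tr_W_sq h2)
  have hyy := sq_of_tr_zero y h
  by_cases ha : W * y = 1 ∨ W * y = negOne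
  · apply Pr_of_norInv h2 h4 W W y hW1 hW2 (self_mem_norInv _)
    left
    rw [conj_eq_iff]
    rcases ha with ha | ha
    · have hy : y = W⁻¹ := eq_inv_of_mul_eq_one_right ha
      rw [hy, inv_mul_cancel, mul_inv_cancel]
    · have hy : y = W⁻¹ * negOne := by rw [← ha]; group
      rw [ha, hy, mul_assoc, negOne_comm, ← mul_assoc, inv_mul_cancel, one_mul]
  · have ha1 : W * y ≠ 1 := fun h' => ha (Or.inl h')
    have ha2 : W * y ≠ negOne := fun h' => ha (Or.inr h')
    apply Pr_of_norInv h2 h4 (W * y) W y ha1 ha2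
    · right
      apply eq_inv_of_mul_eq_one_left
      have e : W * (W * y) * W⁻¹ * (W * y) = (W * W) * (y * y) := by group
      rw [e, W_mul_W, hyy, negOne_mul_negOne]
    · right
      apply eq_inv_of_mul_eq_one_left
      have e : y * (W * y) * y⁻¹ * (W * y) = y * (W * W) * y := by group
      rw [e, W_mul_W, ← negOne_comm, mul_assoc, hyy, negOne_mul_negOne]

theorem Pr_W_iff (hp : p.Prime) (hodd : Odd p) (hF : Fintype.card F = 3 ^ p) (y : SL(2, F)) :
    Pr W y ↔ (y.1 0 0 = y.1 1 1 ∧ y.1 0 1 + y.1 1 0 = 0) ∨ tr y = 0 ∨ y.1 0 1 = y.1 1 0 ∨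
      (K3 (tr y) ∧ K3 (y.1 0 1 - y.1 1 0)) := by
  have h2 : (2 : F) ≠ 0 := two_ne hF
  have h27 := card_ge hp hodd hF
  obtain ⟨hW1, hW2⟩ := ne_of_tr (W : SL(2, F)) (tr_W_sq h2)
  constructor
  · intro h
    rcases Pr_cases hp hodd hF _ y h with ⟨g, hg1, -⟩ | ⟨a, ha, hWa, hya⟩ | ⟨-, hk, hk'⟩
    · exfalso
      rw [conj10, W00, W01, W10, W11] at hg1
      have hgd := det_eq g
      have h3 : g.1 1 0 ^ 2 + g.1 1 1 ^ 2 = 0 := by linear_combination hg1
      by_cases h11 : g.1 1 1 = 0
      · rw [h11] at h3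
        have h10 : g.1 1 0 = 0 :=
          pow_eq_zero_iff (two_ne_zero (α := ℕ)) |>.1 (by linear_combination h3)
        rw [h10, h11] at hgd
        simp at hgd
      · apply not_sq_neg_one hodd hF (g.1 1 0 / g.1 1 1)
        field_simp
        linear_combination h3
    · rcases hWa with h3 | h3
      · rw [conj_eq_iff] at h3
        rcases norInv_of_comm a W y ha (tr_W_sq h2) h3 hya with h4 | h4
        · left
          rw [conj_eq_iff] at h4
          exact (W_comm_iff y).1 h4
        · right; left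
          rw [mul_inv_eq_iff_eq_mul] at h4
          exact ((W_inv_iff y).1 h4).1
      · have hsym := sym_of_inv a h3
        rcases hya with h4 | h4
        · right; right; left
          rw [conj_eq_iff] at h4
          exact sym_of_comm a y ha hsym h4
        · right; left
          have h5 : (W⁻¹ * y) * a = a * (W⁻¹ * y) := by
            rw [← conj_eq_iff]
            have e : (W⁻¹ * y) * a * (W⁻¹ * y)⁻¹ = W⁻¹ * (y * a * y⁻¹) * W := by group
            rw [e, h4, ← h3]; group
          have h6 := sym_of_comm a (W⁻¹ * y) ha hsym h5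
          rw [mul01, mul10, inv00, inv01, inv10, inv11, W00, W01, W10, W11] at h6
          rw [tr_def]
          linear_combination h6
    · right; right; right
      rw [tr_W_mul] at hk'
      exact ⟨hk, hk'⟩
  · rintro (h | h | h | ⟨h3, h4⟩)
    · apply Pr_of_norInv h2 (by omega) W W y hW1 hW2 (self_mem_norInv _)
      left
      rw [conj_eq_iff]
      exact (W_comm_iff y).2 h
    · exact Pr_W_of_tr h2 (by omega) y h
    · rw [← Pr_mul_right]
      apply Pr_W_of_tr h2 (by omega)
      rw [tr_W_mul, h, sub_self]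
    · apply Pr_of_K3 (by omega) W y
      · rw [tr_W]; exact K3_zero
      · exact h3
      · rw [tr_W_mul]; exact h4

end char3

end Cfsg.Agent.Lib.Helper6.Sb2
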