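import Mathlib
import Cfsg.Prelude.Def_LieExceptional
import Cfsg.Agent.Lib.Helper6.Sz19

set_option autoImplicit false
set_option linter.unusedSimpArgs false
set_option linter.unusedVariables false

namespace Cfsg.Agent.Lib.Helper6.SzS1

open Cfsg Cfsg.Agent.Lib.Helper6.Sz0 Cfsg.Agent.Lib.Helper6.Sz1 Cfsg.Agent.Lib.Helper6.Sz2
  Cfsg.Agent.Lib.Helper6.Sz3 Cfsg.Agent.Lib.Helper6.Sz4 Cfsg.Agent.Lib.Helper6.Sz5
  Cfsg.Agent.Lib.Helper6.Sz6 Cfsg.Agent.Lib.Helper6.Sz7 Cfsg.Agent.Lib.Helper6.Sz8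
  Cfsg.Agent.Lib.Helper6.Sz9 Cfsg.Agent.Lib.Helper6.Sz10 Cfsg.Agent.Lib.Helper6.Sz11
  Cfsg.Agent.Lib.Helper6.Sz12 Cfsg.Agent.Lib.Helper6.Sz13 Cfsg.Agent.Lib.Helper6.Sz14
  Cfsg.Agent.Lib.Helper6.Sz15 Cfsg.Agent.Lib.Helper6.Sz16 Cfsg.Agent.Lib.Helper6.Sz17
  Cfsg.Agent.Lib.Helper6.Sz18 Cfsg.Agent.Lib.Helper6.Sz19 Matrix
open scoped Pointwise commutatorElement

variable {F : Type*} [Field F] [Fintype F] {m : ℕ}

theorem unit_sq_eq_one (hF : Fintype.card F = 2 ^ (2 * m + 1)) {k : Fˣ} (h : k * k = 1) :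
    k = 1 := by
  apply Units.ext
  rw [Units.val_one]
  apply sq_inj hF
  have h8 : ((k * k : Fˣ) : F) = 1 := by rw [h]; rfl
  rw [Units.val_mul] at h8
  rw [one_pow, pow_two, h8]

/-- uniqueness of the unipotent-torus decomposition -/
theorem uS_hS_inj (hF : Fintype.card F = 2 ^ (2 * m + 1)) {a b a' b' : F} {k k' : Fˣ}
    (h : uS hF a b * hS hF k = uS hF a' b' * hS hF k') : a = a' ∧ b = b' ∧ k = k' :=
  UH_inj hF (congrArg Subtype.val h)

/-- an involution fixing the point at infinity is a central unipotent element -/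
theorem invol_ainf (hm : 1 ≤ m) (hF : Fintype.card F = 2 ^ (2 * m + 1)) {t : Cfsg.Sz F m}
    (h1 : t ≠ 1) (h2 : t * t = 1) (hf : t • ainf F m = ainf F m) :
    ∃ b : F, b ≠ 0 ∧ t = uS hF 0 b := by
  have two := two_eq_zero hF
  obtain ⟨c, d, j, rfl⟩ := uS_mul_hS_eq hm hF hf
  have e : uS hF c d * hS hF j * (uS hF c d * hS hF j) =
      uS hF (c + j * c) (d + sg m (j : F) * j * d + sg m c * (j * c)) * hS hF (j * j) := by
    calc uS hF c d * hS hF j * (uS hF c d * hS hF j)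
        = uS hF c d * (hS hF j * uS hF c d) * hS hF j := by group
      _ = uS hF c d * (uS hF (j * c) (sg m (j : F) * j * d) * hS hF j) * hS hF j := by
          rw [hS_mul_uS]
      _ = (uS hF c d * uS hF (j * c) (sg m (j : F) * j * d)) * (hS hF j * hS hF j) := by group
      _ = _ := by rw [uS_mul, hS_mul]
  rw [e] at h2
  have h3 : uS hF (c + j * c) (d + sg m (j : F) * j * d + sg m c * (j * c)) * hS hF (j * j) =
      uS hF 0 0 * hS hF 1 := by rw [h2, uS_zero, hS_one, one_mul]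
  obtain ⟨e1, e2, e3⟩ := uS_hS_inj hF h3
  have hj : j = 1 := unit_sq_eq_one hF e3
  subst hj
  rw [Units.val_one, sg_one] at e2
  have hc : c = 0 := by
    have h4 : sg m c * c = 0 := by linear_combination e2 - d * two
    rcases mul_eq_zero.1 h4 with h5 | h5
    · exact sg_eq_zero.1 h5
    · exact h5
  subst hc
  refine ⟨d, ?_, by rw [hS_one, mul_one]⟩
  rintro rfl
  apply h1
  rw [hS_one, mul_one, uS_zero]

/-- the centraliser of a central involution of the unipotent group is the unipotent group -/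
theorem cent_center (hm : 1 ≤ m) (hF : Fintype.card F = 2 ^ (2 * m + 1)) {b : F} (hb : b ≠ 0)
    {g : Cfsg.Sz F m} (hg : g * uS hF 0 b = uS hF 0 b * g) : ∃ c d : F, g = uS hF c d := by
  have hfix : g • ainf F m = ainf F m := by
    have h2 : uS hF 0 b • (g • ainf F m) = g • ainf F m := by
      rw [← mul_smul, ← hg, mul_smul, uS_ainf]
    exact fix_uS hF (fun h => hb h.2) h2
  obtain ⟨x, y, j, hxy, hconj⟩ := conj_uS hm hF hfix
  have h3 : g * uS hF 0 b * g⁻¹ = uS hF 0 b := by rw [hg]; group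
  rw [hconj] at h3
  have h4 := (uS_inj hF h3).2
  rw [mul_zero, mul_zero, sg_zero, zero_mul, add_zero, add_zero] at h4
  have h5 : sg m (j : F) * j = 1 := by
    have : (sg m (j : F) * j - 1) * b = 0 := by linear_combination h4
    rcases mul_eq_zero.1 this with h6 | h6
    · linear_combination h6
    · exact absurd h6 hb
  have hj : j = 1 := by
    apply sg_mul_self_inj hF
    rw [h5, Units.val_one, sg_one, one_mul]
  subst hj
  exact ⟨x, y, by rw [hxy, hS_one, mul_one]⟩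

/-- the product of two involutions with different fixed points has odd order -/
theorem odd_mul_invol (hm : 1 ≤ m) (hF : Fintype.card F = 2 ^ (2 * m + 1))
    {t t' : Cfsg.Sz F m} (h1 : t ≠ 1) (h2 : t * t = 1) (h1' : t' ≠ 1) (h2' : t' * t' = 1)
    {a a' : Cfsg.suzukiOvoid F m} (ha : t • a = a) (ha' : t' • a' = a') (hne : a ≠ a') :
    Odd (orderOf (t * t')) := by
  rw [← Nat.not_even_iff_odd]
  rintro ⟨k, hk⟩
  have hpos : 0 < orderOf (t * t') := orderOf_pos _
  have hk0 : 0 < k := by omega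
  set z := (t * t') ^ k with hz
  have hz1 : z ≠ 1 := pow_ne_one_of_lt_orderOf (by omega) (by omega)
  have hzz : z * z = 1 := by
    rw [hz, ← pow_add, ← hk, pow_orderOf_eq_one]
  have hti : t⁻¹ = t := inv_eq_of_mul_eq_one_right h2
  have hti' : t'⁻¹ = t' := inv_eq_of_mul_eq_one_right h2'
  have hzi : z⁻¹ = z := inv_eq_of_mul_eq_one_right hzz
  have hconj : t * z * t⁻¹ = z := by
    have e1 : t * (t * t') * t⁻¹ = (t * t')⁻¹ := by
      rw [_root_.mul_inv_rev, hti, hti', ← mul_assoc, h2, one_mul]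
    rw [hz, ← conj_pow, e1, inv_pow, ← hz, hzi]
  have hconj' : t' * z * t'⁻¹ = z := by
    have e1 : t' * (t * t') * t'⁻¹ = (t * t')⁻¹ := by
      rw [_root_.mul_inv_rev, hti, hti', mul_assoc, mul_assoc, h2', mul_one]
    rw [hz, ← conj_pow, e1, inv_pow, ← hz, hzi]
  have hc : t * z = z * t := by
    calc t * z = t * z * t⁻¹ * t := by group
      _ = z * t := by rw [hconj]
  have hc' : t' * z = z * t' := by
    calc t' * z = t' * z * t'⁻¹ * t' := by group
      _ = z * t' := by rw [hconj']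
  have hza : z • a = a := by
    have h3 : t • (z • a) = z • a := by rw [← mul_smul, hc, mul_smul, ha]
    exact unique_fix_of_sq hm hF h1 (by rw [pow_two, h2]) ha h3
  have hza' : z • a' = a' := by
    have h3 : t' • (z • a') = z • a' := by rw [← mul_smul, hc', mul_smul, ha']
    exact unique_fix_of_sq hm hF h1' (by rw [pow_two, h2']) ha' h3
  exact hne (unique_fix_of_sq hm hF hz1 (by rw [pow_two, hzz]) hza hza').symm

/-- two involutions whose product has odd order are conjugate by an involution -/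
theorem swap_invol {G : Type*} [Group G] (t t' : G) (ht : t * t = 1) (ht' : t' * t' = 1) (k : ℕ)
    (hk : (t * t') ^ (2 * k + 1) = 1) :
    (t * (t * t') ^ (k + 1)) * (t * (t * t') ^ (k + 1)) = 1 ∧
      (t * (t * t') ^ (k + 1)) * t * (t * (t * t') ^ (k + 1))⁻¹ = t' := by
  have hti : t⁻¹ = t := inv_eq_of_mul_eq_one_right ht
  have hti' : t'⁻¹ = t' := inv_eq_of_mul_eq_one_right ht'
  have e1 : t * (t * t') * t⁻¹ = (t * t')⁻¹ := by
    rw [_root_.mul_inv_rev, hti, hti', ← mul_assoc, ht, one_mul]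
  have e2 : ∀ j : ℕ, t * (t * t') ^ j * t = ((t * t') ^ j)⁻¹ := by
    intro j
    have := conj_pow (a := t) (b := t * t') (i := j)
    rw [e1, hti] at this
    rw [← this, inv_pow]
  have huu : (t * (t * t') ^ (k + 1)) * (t * (t * t') ^ (k + 1)) = 1 := by
    calc (t * (t * t') ^ (k + 1)) * (t * (t * t') ^ (k + 1))
        = (t * (t * t') ^ (k + 1) * t) * (t * t') ^ (k + 1) := by group
      _ = 1 := by rw [e2, inv_mul_cancel]
  refine ⟨huu, ?_⟩
  rw [inv_eq_of_mul_eq_one_right huu]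
  calc t * (t * t') ^ (k + 1) * t * (t * (t * t') ^ (k + 1))
      = t * (t * t') ^ (k + 1) * (t * t) * (t * t') ^ (k + 1) := by group
    _ = t * ((t * t') ^ (k + 1) * (t * t') ^ (k + 1)) := by rw [ht]; group
    _ = t * ((t * t') ^ (2 * k + 1) * (t * t')) := by
        rw [← pow_add, ← pow_succ]; congr 2; ring
    _ = t' := by rw [hk, one_mul, ← mul_assoc, ht, one_mul]

/-- elements of 2-power order in the point stabiliser are unipotent -/
theorem two_pow_mem_U (hm : 1 ≤ m) (hF : Fintype.card F = 2 ^ (2 * m + 1)) {g : Cfsg.Sz F m}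
    (hf : g • ainf F m = ainf F m) {j : ℕ} (hg : g ^ (2 ^ j) = 1) : ∃ c d : F, g = uS hF c d := by
  have hk : (chi hm hF ⟨g, hf⟩) ^ (2 ^ j) = 1 := by
    rw [← map_pow]
    have : (⟨g, hf⟩ : Bt F m) ^ (2 ^ j) = 1 := Subtype.ext (by
      rw [Subgroup.coe_pow]; exact hg)
    rw [this, map_one]
  have h1 : orderOf (chi hm hF ⟨g, hf⟩) ∣ 2 ^ j := orderOf_dvd_of_pow_eq_one hk
  have h2 : orderOf (chi hm hF ⟨g, hf⟩) ∣ 2 ^ (2 * m + 1) - 1 := by
    have := orderOf_dvd_natCard (chi hm hF ⟨g, hf⟩)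
    rwa [Nat.card_units, Nat.card_eq_fintype_card, hF] at this
  have hcop : Nat.Coprime (2 ^ j) (2 ^ (2 * m + 1) - 1) := by
    apply Nat.Coprime.pow_left
    rw [Nat.coprime_two_left, Nat.odd_iff]
    have : 2 ∣ 2 ^ (2 * m + 1) := dvd_pow_self 2 (by omega)
    have := q_ge_two m
    omega
  have h3 := Nat.eq_one_of_dvd_coprimes hcop h1 h2
  rw [orderOf_eq_one_iff] at h3
  obtain ⟨a, b, hab⟩ := mem_ker_chi hm hF ⟨g, hf⟩ (MonoidHom.mem_ker.2 h3)
  exact ⟨a, b, Subtype.ext hab⟩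

end Cfsg.Agent.Lib.Helper6.SzS1
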