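import Mathlib
import Cfsg.Prelude.Def_LieExceptional
import Cfsg.Agent.Lib.Helper6.SzS1

set_option autoImplicit false
set_option linter.unusedSimpArgs false
set_option linter.unusedVariables false

namespace Cfsg.Agent.Lib.Helper6.SzS2

open Cfsg Cfsg.Agent.Lib.Helper6.Sz0 Cfsg.Agent.Lib.Helper6.Sz1 Cfsg.Agent.Lib.Helper6.Sz2
  Cfsg.Agent.Lib.Helper6.Sz3 Cfsg.Agent.Lib.Helper6.Sz4 Cfsg.Agent.Lib.Helper6.Sz5
  Cfsg.Agent.Lib.Helper6.Sz6 Cfsg.Agent.Lib.Helper6.Sz7 Cfsg.Agent.Lib.Helper6.Sz8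
  Cfsg.Agent.Lib.Helper6.Sz9 Cfsg.Agent.Lib.Helper6.Sz10 Cfsg.Agent.Lib.Helper6.Sz11
  Cfsg.Agent.Lib.Helper6.Sz12 Cfsg.Agent.Lib.Helper6.Sz13 Cfsg.Agent.Lib.Helper6.Sz14
  Cfsg.Agent.Lib.Helper6.Sz15 Cfsg.Agent.Lib.Helper6.Sz16 Cfsg.Agent.Lib.Helper6.Sz17
  Cfsg.Agent.Lib.Helper6.Sz18 Cfsg.Agent.Lib.Helper6.Sz19 Cfsg.Agent.Lib.Helper6.SzS1 Matrix
open scoped Pointwise commutatorElement

variable {F : Type*} [Field F] [Fintype F] {m : ℕ}

/-- the members of the partition: Sylow 2-subgroups and the three kinds of cyclic tori -/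
def IsComp (m : ℕ) (X : Subgroup (Cfsg.Sz F m)) : Prop :=
  (∃ P : Sylow 2 (Cfsg.Sz F m), X = (P : Subgroup (Cfsg.Sz F m))) ∨
    (IsCyclic X ∧ Nat.card X ∈ ({2 ^ (2 * m + 1) - 1, 2 ^ (2 * m + 1) + 2 ^ (m + 1) + 1,
        2 ^ (2 * m + 1) - 2 ^ (m + 1) + 1} : Set ℕ))

theorem IsComp.map {X : Subgroup (Cfsg.Sz F m)} (h : IsComp m X)
    (φ : Cfsg.Sz F m ≃* Cfsg.Sz F m) : IsComp m (X.map φ.toMonoidHom) := by
  have : Fact (Nat.Prime 2) := ⟨Nat.prime_two⟩
  rcases h with ⟨P, rfl⟩ | ⟨hc, hcard⟩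
  · exact Or.inl ⟨P.mapSurjective (f := φ.toMonoidHom) φ.surjective, rfl⟩
  · refine Or.inr ⟨?_, ?_⟩
    · exact isCyclic_of_surjective (φ.toMonoidHom.subgroupMap X)
        (MonoidHom.subgroupMap_surjective _ _)
    · rw [Subgroup.card_map_of_injective φ.injective]
      exact hcard

/-- the Sylow 2-subgroup of unipotent elements -/
noncomputable def P0 (hm : 1 ≤ m) (hF : Fintype.card F = 2 ^ (2 * m + 1)) :
    Sylow 2 (Cfsg.Sz F m) :=
  haveI : Fact (Nat.Prime 2) := ⟨Nat.prime_two⟩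
  Sylow.ofCard (Usub hF) (by
    rw [card_Usub, factorization_card_Sz hm hF, pow_mul, pow_right_comm])

theorem coe_P0 (hm : 1 ≤ m) (hF : Fintype.card F = 2 ^ (2 * m + 1)) :
    ((P0 hm hF : Sylow 2 (Cfsg.Sz F m)) : Subgroup (Cfsg.Sz F m)) = Usub hF := rfl

/-- every non-identity element lies in a member of the partition containing its centraliser -/
theorem component (hm : 1 ≤ m) (hF : Fintype.card F = 2 ^ (2 * m + 1)) (z : Cfsg.Sz F m)
    (hz : z ≠ 1) :
    ∃ X : Subgroup (Cfsg.Sz F m), IsComp m X ∧ z ∈ X ∧ ∀ y, y * z = z * y → y ∈ X := by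
  classical
  have : Fact (Nat.Prime 2) := ⟨Nat.prime_two⟩
  by_cases hfix : ∃ a : Cfsg.suzukiOvoid F m, z • a = a
  · obtain ⟨a, ha⟩ := hfix
    obtain ⟨t, hta, h | h⟩ := conj_cases hm hF hz a ha
    · obtain ⟨c, d, hcd, e⟩ := h
      have hmem : ∀ x, x ∈ (Usub hF).map (MulAut.conj t).toMonoidHom ↔ t⁻¹ * x * t ∈ Usub hF := by
        intro x
        rw [Subgroup.mem_map_equiv, MulAut.conj_symm_apply]
      refine ⟨(Usub hF).map (MulAut.conj t).toMonoidHom, ?_, ?_, ?_⟩
      · have h1 : IsComp m (Usub (m := m) hF) := Or.inl ⟨P0 hm hF, rfl⟩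
        exact h1.map (MulAut.conj t)
      · rw [hmem, e]
        exact ⟨c, d, rfl⟩
      · intro y hy
        rw [hmem]
        have hy' : (t⁻¹ * y * t) * uS hF c d = uS hF c d * (t⁻¹ * y * t) := by
          rw [← e]
          calc t⁻¹ * y * t * (t⁻¹ * z * t) = t⁻¹ * (y * z) * t := by group
            _ = t⁻¹ * (z * y) * t := by rw [hy]
            _ = t⁻¹ * z * t * (t⁻¹ * y * t) := by group
        have hfix : (t⁻¹ * y * t) • ainf F m = ainf F m := by
          have h2 : uS hF c d • ((t⁻¹ * y * t) • ainf F m) = (t⁻¹ * y * t) • ainf F m := by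
            rw [← mul_smul, ← hy', mul_smul, uS_ainf]
          exact fix_uS hF hcd h2
        obtain ⟨x, w, j, hxy, hconj⟩ := conj_uS hm hF hfix
        have h3 : (t⁻¹ * y * t) * uS hF c d * (t⁻¹ * y * t)⁻¹ = uS hF c d := by
          rw [hy']; group
        rw [hconj] at h3
        obtain ⟨h4, h5⟩ := uS_inj hF h3
        have hj : j = 1 := by
          by_cases hc : c = 0
          · subst hc
            have hd : d ≠ 0 := fun h => hcd ⟨rfl, h⟩
            rw [mul_zero, mul_zero, sg_zero, zero_mul, add_zero, add_zero] at h5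
            have h6 : sg m (j : F) * j = 1 := by
              have : (sg m (j : F) * j - 1) * d = 0 := by linear_combination h5
              rcases mul_eq_zero.1 this with h6 | h6
              · linear_combination h6
              · exact absurd h6 hd
            apply sg_mul_self_inj hF
            rw [h6, Units.val_one, sg_one, one_mul]
          · apply Units.ext
            rw [Units.val_one]
            have : ((j : F) - 1) * c = 0 := by linear_combination h4
            rcases mul_eq_zero.1 this with h6 | h6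
            · linear_combination h6
            · exact absurd h6 hc
        subst hj
        exact ⟨x, w, by rw [hxy, hS_one, mul_one]⟩
    · obtain ⟨k, hk1, e⟩ := h
      have hmem : ∀ x, x ∈ (torusHom (m := m) hF).range.map (MulAut.conj t).toMonoidHom ↔
          t⁻¹ * x * t ∈ (torusHom (m := m) hF).range := by
        intro x
        rw [Subgroup.mem_map_equiv, MulAut.conj_symm_apply]
      refine ⟨(torusHom (m := m) hF).range.map (MulAut.conj t).toMonoidHom, ?_, ?_, ?_⟩
      · have h1 : IsComp m (torusHom (m := m) hF).range :=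
          Or.inr ⟨torus_cyclic hF, Or.inl (card_torus hF)⟩
        exact h1.map (MulAut.conj t)
      · rw [hmem, e]
        exact ⟨k, rfl⟩
      · intro y hy
        rw [hmem]
        apply centralizer_hS_le hm hF hk1
        rw [Subgroup.mem_centralizer_iff]
        intro u hu
        rw [Set.mem_singleton_iff] at hu
        rw [hu, ← e]
        calc t⁻¹ * z * t * (t⁻¹ * y * t) = t⁻¹ * (z * y) * t := by group
          _ = t⁻¹ * (y * z) * t := by rw [hy]
          _ = t⁻¹ * y * t * (t⁻¹ * z * t) := by group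
  · have hf : Fpf z := fun a ha => hfix ⟨a, ha⟩
    have hT := IsT.of_fpf hf
    obtain ⟨A, B, hA, hB, cA, cB, nA, nB, hall⟩ := tori hm hF
    refine ⟨Subgroup.centralizer ({z} : Set (Cfsg.Sz F m)), Or.inr ⟨hT.cyclic hm hF, ?_⟩, ?_, ?_⟩
    · rcases hall _ hT with h | h
      · right; left
        rw [h.card_eq, cA]
      · right; right
        rw [h.card_eq, cB]
        rfl
    · rw [Subgroup.mem_centralizer_iff]
      intro y hy
      rw [Set.mem_singleton_iff] at hy
      rw [hy]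
    · intro y hy
      rw [Subgroup.mem_centralizer_iff]
      intro u hu
      rw [Set.mem_singleton_iff] at hu
      rw [hu, hy]

/-- a subgroup with a non-trivial abelian normal subgroup normalises a member of the partition -/
theorem normalizer_of_abelian (hm : 1 ≤ m) (hF : Fintype.card F = 2 ^ (2 * m + 1))
    (M : Subgroup (Cfsg.Sz F m)) (N : Subgroup (Cfsg.Sz F m))
    (hNc : ∀ a ∈ N, ∀ b ∈ N, a * b = b * a) (hNn : ∀ g ∈ M, ∀ a ∈ N, g * a * g⁻¹ ∈ N)
    {z : Cfsg.Sz F m} (hzN : z ∈ N) (hz : z ≠ 1) :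
    ∃ X : Subgroup (Cfsg.Sz F m), IsComp m X ∧
      M ≤ Subgroup.normalizer (X : Set (Cfsg.Sz F m)) := by
  obtain ⟨X, hX, hzX, hcent⟩ := component hm hF z hz
  refine ⟨X, hX, ?_⟩
  intro g hg
  have hz'N : g * z * g⁻¹ ∈ N := hNn g hg z hzN
  have hz'X : g * z * g⁻¹ ∈ X := hcent _ (hNc _ hz'N _ hzN)
  have hz'1 : g * z * g⁻¹ ≠ 1 := by
    intro h
    apply hz
    calc z = g⁻¹ * (g * z * g⁻¹) * g := by group
      _ = 1 := by rw [h]; group
  have hX' : IsComp m (X.map (MulAut.conj g).toMonoidHom) := hX.map (MulAut.conj g)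
  have hz'X' : g * z * g⁻¹ ∈ X.map (MulAut.conj g).toMonoidHom :=
    ⟨z, hzX, by rw [MulEquiv.coe_toMonoidHom, MulAut.conj_apply]⟩
  obtain ⟨U, hU, huniq⟩ := partition hm hF (g * z * g⁻¹) hz'1
  have e1 : X = U := huniq X ⟨hX, hz'X⟩
  have e2 : X.map (MulAut.conj g).toMonoidHom = U := huniq _ ⟨hX', hz'X'⟩
  have e3 : X.map (MulAut.conj g).toMonoidHom = X := e2.trans e1.symm
  rw [Subgroup.mem_normalizer_iff]
  intro h
  constructor
  · intro hh
    rw [← e3]
    exact ⟨h, hh, by rw [MulEquiv.coe_toMonoidHom, MulAut.conj_apply]⟩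
  · intro hh
    rw [← e3] at hh
    obtain ⟨h', hh', e⟩ := hh
    rw [MulEquiv.coe_toMonoidHom, MulAut.conj_apply] at e
    have : h' = h := mul_left_cancel (mul_right_cancel e)
    rw [← this]
    exact hh'

/-- a non-trivial subgroup all of whose Sylow subgroups are cyclic normalises a member of the
partition -/
theorem zgroup_case (hm : 1 ≤ m) (hF : Fintype.card F = 2 ^ (2 * m + 1))
    (M : Subgroup (Cfsg.Sz F m)) (hM1 : M ≠ ⊥) (hZ : IsZGroup M) :
    ∃ X : Subgroup (Cfsg.Sz F m), IsComp m X ∧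
      M ≤ Subgroup.normalizer (X : Set (Cfsg.Sz F m)) := by
  have hcyc : IsCyclic (commutator M) := IsZGroup.isCyclic_commutator M
  by_cases hc : commutator M = ⊥
  · -- M is abelian
    obtain ⟨z, hzM, hz1⟩ : ∃ z : Cfsg.Sz F m, z ∈ M ∧ z ≠ 1 := by
      obtain ⟨z, hz⟩ := (Subgroup.ne_bot_iff_exists_ne_one (H := M)).1 hM1
      exact ⟨z.1, z.2, fun h => hz (Subtype.ext h)⟩
    refine normalizer_of_abelian hm hF M M ?_ ?_ hzM hz1
    · intro a ha b hb
      have h1 : ⁅(⟨a, ha⟩ : M), ⟨b, hb⟩⁆ ∈ commutator M :=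
        Subgroup.commutator_mem_commutator (Subgroup.mem_top _) (Subgroup.mem_top _)
      rw [hc, Subgroup.mem_bot, commutatorElement_eq_one_iff_mul_comm] at h1
      exact congrArg Subtype.val h1
    · intro g hg a ha
      exact M.mul_mem (M.mul_mem hg ha) (M.inv_mem hg)
  · obtain ⟨⟨z, hzM⟩, hzc, hz1⟩ : ∃ z : M, z ∈ commutator M ∧ z ≠ 1 := by
      obtain ⟨z, hz⟩ := (Subgroup.ne_bot_iff_exists_ne_one (H := commutator M)).1 hc
      exact ⟨z.1, z.2, fun h => hz (Subtype.ext h)⟩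
    refine normalizer_of_abelian hm hF M ((commutator M).map M.subtype) ?_ ?_
      (Subgroup.mem_map_of_mem _ hzc) (fun h => hz1 (Subtype.ext h))
    · rintro _ ⟨a, ha, rfl⟩ _ ⟨b, hb, rfl⟩
      have h1 := comm_of_cyclic (⟨a, ha⟩ : commutator M) ⟨b, hb⟩
      have h2 : a * b = b * a := congrArg Subtype.val h1
      exact congrArg Subtype.val h2
    · rintro g hg _ ⟨a, ha, rfl⟩
      have hn : (commutator M).Normal := inferInstance
      have h1 := hn.conj_mem a ha ⟨g, hg⟩
      exact ⟨_, h1, rfl⟩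

/-- Sylow subgroups of a subgroup for odd primes are cyclic -/
theorem zgroup_of_two (hm : 1 ≤ m) (hF : Fintype.card F = 2 ^ (2 * m + 1))
    (M : Subgroup (Cfsg.Sz F m)) (h2 : ∀ P : Sylow 2 M, IsCyclic P) : IsZGroup M := by
  refine ⟨fun p hp P => ?_⟩
  have : Fact p.Prime := ⟨hp⟩
  by_cases hp2 : p = 2
  · subst hp2
    exact h2 P
  · have hP : IsPGroup p ((P : Subgroup M).map M.subtype) := P.isPGroup'.map _
    obtain ⟨P', hP'⟩ := hP.exists_le_sylow
    have hc : IsCyclic P' := sylow_odd_cyclic hm hF hp2 P'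
    have hc2 : IsCyclic ((P : Subgroup M).map M.subtype) := Subgroup.isCyclic_of_le hP'
    exact isCyclic_of_surjective
      ((P : Subgroup M).equivMapOfInjective M.subtype M.subtype_injective).symm.toMonoidHom
      ((P : Subgroup M).equivMapOfInjective M.subtype M.subtype_injective).symm.surjective

end Cfsg.Agent.Lib.Helper6.SzS2
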