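import Mathlib
import Cfsg.Prelude.Def_LieExceptional
import Cfsg.Agent.Lib.Helper6.SzS2

set_option autoImplicit false
set_option linter.unusedSimpArgs false
set_option linter.unusedVariables false

namespace Cfsg.Agent.Lib.Helper6.SzS3

open Cfsg Cfsg.Agent.Lib.Helper6.Sz0 Cfsg.Agent.Lib.Helper6.Sz1 Cfsg.Agent.Lib.Helper6.Sz2
  Cfsg.Agent.Lib.Helper6.Sz3 Cfsg.Agent.Lib.Helper6.Sz4 Cfsg.Agent.Lib.Helper6.Sz5
  Cfsg.Agent.Lib.Helper6.Sz6 Cfsg.Agent.Lib.Helper6.Sz7 Cfsg.Agent.Lib.Helper6.Sz8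
  Cfsg.Agent.Lib.Helper6.Sz9 Cfsg.Agent.Lib.Helper6.Sz10 Cfsg.Agent.Lib.Helper6.Sz11
  Cfsg.Agent.Lib.Helper6.Sz12 Cfsg.Agent.Lib.Helper6.Sz13 Cfsg.Agent.Lib.Helper6.Sz14
  Cfsg.Agent.Lib.Helper6.Sz15 Cfsg.Agent.Lib.Helper6.Sz16 Cfsg.Agent.Lib.Helper6.Sz17
  Cfsg.Agent.Lib.Helper6.Sz18 Cfsg.Agent.Lib.Helper6.Sz19 Cfsg.Agent.Lib.Helper6.SzS1
  Cfsg.Agent.Lib.Helper6.SzS2 Matrix
open scoped Pointwise commutatorElement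

variable {F : Type*} [Field F] [Fintype F] {m : ℕ}

/-- the orbit of the point at infinity under a subgroup -/
def Om (M : Subgroup (Cfsg.Sz F m)) : Set (Cfsg.suzukiOvoid F m) :=
  {p | ∃ g ∈ M, g • ainf F m = p}

theorem uS_zero_sq (hF : Fintype.card F = 2 ^ (2 * m + 1)) (b : F) :
    uS hF 0 b * uS hF 0 b = 1 := by
  rw [uS_mul, sg_zero, zero_mul, add_zero, add_zero, add_self hF, uS_zero]

theorem conj_sq {G : Type*} [Group G] {g t : G} (h : t * t = 1) :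
    (g * t * g⁻¹) * (g * t * g⁻¹) = 1 := by
  calc (g * t * g⁻¹) * (g * t * g⁻¹) = g * (t * t) * g⁻¹ := by group
    _ = 1 := by rw [h]; group

theorem conj_ne {G : Type*} [Group G] {g t : G} (h : t ≠ 1) : g * t * g⁻¹ ≠ 1 := by
  intro h'
  apply h
  calc t = g⁻¹ * (g * t * g⁻¹) * g := by group
    _ = 1 := by rw [h']; group

/-- two involutions of a subgroup with different fixed points are conjugate by an involution of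
the subgroup exchanging the fixed points -/
theorem conj_invol (hm : 1 ≤ m) (hF : Fintype.card F = 2 ^ (2 * m + 1))
    (M : Subgroup (Cfsg.Sz F m)) {t t' : Cfsg.Sz F m} (htM : t ∈ M) (ht'M : t' ∈ M)
    (h1 : t ≠ 1) (h2 : t * t = 1) (h1' : t' ≠ 1) (h2' : t' * t' = 1)
    {a a' : Cfsg.suzukiOvoid F m} (ha : t • a = a) (ha' : t' • a' = a') (hne : a ≠ a') :
    ∃ u ∈ M, u * u = 1 ∧ u * t * u⁻¹ = t' ∧ u • a = a' ∧ u • a' = a := by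
  obtain ⟨k, hk⟩ := odd_mul_invol hm hF h1 h2 h1' h2' ha ha' hne
  have hpow : (t * t') ^ (2 * k + 1) = 1 := by rw [← hk]; exact pow_orderOf_eq_one _
  obtain ⟨huu, hconj⟩ := swap_invol t t' h2 h2' k hpow
  have huM : t * (t * t') ^ (k + 1) ∈ M := M.mul_mem htM (M.pow_mem (M.mul_mem htM ht'M) _)
  generalize t * (t * t') ^ (k + 1) = u at huu hconj huM
  have hua : u • a = a' := by
    have h3 : (u * t * u⁻¹) • (u • a) = u • a := by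
      rw [← mul_smul, inv_mul_cancel_right, mul_smul, ha]
    rw [hconj] at h3
    exact unique_fix_of_sq hm hF h1' (by rw [pow_two, h2']) ha' h3
  refine ⟨u, huM, huu, hconj, hua, ?_⟩
  rw [← hua, ← mul_smul, huu, one_smul]

/-- the fixed point of an involution of `M` lies in the orbit of infinity -/
theorem fix_mem_Om (hm : 1 ≤ m) (hF : Fintype.card F = 2 ^ (2 * m + 1))
    (M : Subgroup (Cfsg.Sz F m)) {b₀ : F} (hb₀ : b₀ ≠ 0) (ht₀ : uS hF 0 b₀ ∈ M)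
    {t : Cfsg.Sz F m} (htM : t ∈ M) (h1 : t ≠ 1) (h2 : t * t = 1)
    {a : Cfsg.suzukiOvoid F m} (ha : t • a = a) : a ∈ Om M := by
  by_cases hne : a = ainf F m
  · exact ⟨1, M.one_mem, by rw [one_smul, hne]⟩
  · obtain ⟨u, huM, -, -, hua, -⟩ := conj_invol hm hF M ht₀ htM (uS_zero_ne_one hF hb₀)
      (uS_zero_sq hF b₀) h1 h2 (uS_ainf hF 0 b₀) ha (Ne.symm hne)
    exact ⟨u, huM, hua⟩

/-- an involution of `M` exchanging infinity with a given point of its orbit -/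
theorem swap_pt (hm : 1 ≤ m) (hF : Fintype.card F = 2 ^ (2 * m + 1))
    (M : Subgroup (Cfsg.Sz F m)) {b₀ : F} (hb₀ : b₀ ≠ 0) (ht₀ : uS hF 0 b₀ ∈ M)
    {p : Cfsg.suzukiOvoid F m} (hp : p ∈ Om M) (hpne : p ≠ ainf F m) :
    ∃ u ∈ M, u * u = 1 ∧ u • ainf F m = p ∧ u • p = ainf F m := by
  obtain ⟨g, hg, rfl⟩ := hp
  have h3 : (g * uS hF 0 b₀ * g⁻¹) • (g • ainf F m) = g • ainf F m := by
    rw [← mul_smul, inv_mul_cancel_right, mul_smul, uS_ainf]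
  obtain ⟨u, huM, huu, -, hua, hua'⟩ := conj_invol hm hF M ht₀
    (M.mul_mem (M.mul_mem hg ht₀) (M.inv_mem hg)) (uS_zero_ne_one hF hb₀)
    (uS_zero_sq hF b₀) (conj_ne (uS_zero_ne_one hF hb₀)) (conj_sq (uS_zero_sq hF b₀))
    (uS_ainf hF 0 b₀) h3 (Ne.symm hpne)
  exact ⟨u, huM, huu, hua, hua'⟩

/-- the point stabiliser in `M` is transitive on the central involutions -/
theorem IQ_trans (hm : 1 ≤ m) (hF : Fintype.card F = 2 ^ (2 * m + 1))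
    (M : Subgroup (Cfsg.Sz F m)) {b₀ : F} (hb₀ : b₀ ≠ 0) (ht₀ : uS hF 0 b₀ ∈ M)
    (hmove : ∃ g ∈ M, g • ainf F m ≠ ainf F m) {b₁ : F} (hb₁ : b₁ ≠ 0)
    (h₁ : uS hF 0 b₁ ∈ M) :
    ∃ (c d : F) (j : Fˣ), uS hF c d * hS hF j ∈ M ∧ b₁ = sg m (j : F) * j * b₀ := by
  obtain ⟨g₀, hg₀, hne⟩ := hmove
  have h3 : (g₀ * uS hF 0 b₀ * g₀⁻¹) • (g₀ • ainf F m) = g₀ • ainf F m := by
    rw [← mul_smul, inv_mul_cancel_right, mul_smul, uS_ainf]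
  have ht'M : g₀ * uS hF 0 b₀ * g₀⁻¹ ∈ M := M.mul_mem (M.mul_mem hg₀ ht₀) (M.inv_mem hg₀)
  obtain ⟨u₀, hu₀M, hu₀u₀, hc₀, hu₀a, hu₀a'⟩ := conj_invol hm hF M ht₀ ht'M
    (uS_zero_ne_one hF hb₀) (uS_zero_sq hF b₀) (conj_ne (uS_zero_ne_one hF hb₀))
    (conj_sq (uS_zero_sq hF b₀)) (uS_ainf hF 0 b₀) h3 (Ne.symm hne)
  obtain ⟨u₁, hu₁M, hu₁u₁, hc₁, hu₁a, hu₁a'⟩ := conj_invol hm hF M h₁ ht'M
    (uS_zero_ne_one hF hb₁) (uS_zero_sq hF b₁) (conj_ne (uS_zero_ne_one hF hb₀))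
    (conj_sq (uS_zero_sq hF b₀)) (uS_ainf hF 0 b₁) h3 (Ne.symm hne)
  have hgM : u₁⁻¹ * u₀ ∈ M := M.mul_mem (M.inv_mem hu₁M) hu₀M
  have hgfix : (u₁⁻¹ * u₀) • ainf F m = ainf F m := by
    rw [mul_smul, hu₀a, inv_smul_eq_iff, hu₁a]
  have hgc : (u₁⁻¹ * u₀) * uS hF 0 b₀ * (u₁⁻¹ * u₀)⁻¹ = uS hF 0 b₁ := by
    calc (u₁⁻¹ * u₀) * uS hF 0 b₀ * (u₁⁻¹ * u₀)⁻¹
        = u₁⁻¹ * (u₀ * uS hF 0 b₀ * u₀⁻¹) * u₁ := by group
      _ = u₁⁻¹ * (u₁ * uS hF 0 b₁ * u₁⁻¹) * u₁ := by rw [hc₀, hc₁]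
      _ = uS hF 0 b₁ := by group
  obtain ⟨x, y, j, hxy, hconj⟩ := conj_uS hm hF hgfix
  rw [hconj] at hgc
  have h5 := (uS_inj hF hgc).2
  rw [mul_zero, mul_zero, sg_zero, zero_mul, add_zero, add_zero] at h5
  refine ⟨x, y, j, ?_, h5.symm⟩
  rw [← hxy]
  exact hgM

/-- the key counting statement: for every point of the orbit other than infinity, the two-point
stabiliser in `M` is transitive on the central involutions fixing infinity -/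
theorem two_pt_trans (hm : 1 ≤ m) (hF : Fintype.card F = 2 ^ (2 * m + 1))
    (M : Subgroup (Cfsg.Sz F m)) {b₀ : F} (hb₀ : b₀ ≠ 0) (ht₀ : uS hF 0 b₀ ∈ M)
    {p' : Cfsg.suzukiOvoid F m} (hp' : p' ∈ Om M) (hp'ne : p' ≠ ainf F m) {b' : F}
    (hb' : b' ≠ 0) (hb'M : uS hF 0 b' ∈ M) :
    ∃ y ∈ M, y • ainf F m = ainf F m ∧ y • p' = p' ∧
      y * uS hF 0 b₀ * y⁻¹ = uS hF 0 b' := by
  classical
  have hfin : Finite (Cfsg.suzukiOvoid F m) := (ovoid_finite m).to_subtype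
  have hex1 : ∀ p : Cfsg.suzukiOvoid F m, p ∈ Om M →
      ∃ g : Cfsg.Sz F m, g ∈ M ∧ g • ainf F m = p := fun p hp => hp
  choose! gp hgp using hex1
  have hex2 : ∀ p : Cfsg.suzukiOvoid F m, p ∈ Om M ∧ p ≠ ainf F m →
      ∃ u : Cfsg.Sz F m, u ∈ M ∧ u * u = 1 ∧ u • ainf F m = p ∧ u • p = ainf F m :=
    fun p hp => swap_pt hm hF M hb₀ ht₀ hp.1 hp.2
  choose! up hup using hex2
  let β := {x : Cfsg.suzukiOvoid F m × F //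
    x.1 ∈ Om M ∧ x.1 ≠ ainf F m ∧ x.2 ≠ 0 ∧ uS hF 0 x.2 ∈ M}
  -- properties of the involution attached to a pair
  have hprop : ∀ x : β, (gp x.1.1 * uS hF 0 x.1.2 * (gp x.1.1)⁻¹) ∈ M ∧
      (gp x.1.1 * uS hF 0 x.1.2 * (gp x.1.1)⁻¹) ≠ 1 ∧
      (gp x.1.1 * uS hF 0 x.1.2 * (gp x.1.1)⁻¹) * (gp x.1.1 * uS hF 0 x.1.2 * (gp x.1.1)⁻¹) = 1 ∧
      (gp x.1.1 * uS hF 0 x.1.2 * (gp x.1.1)⁻¹) • x.1.1 = x.1.1 ∧
      (gp x.1.1 * uS hF 0 x.1.2 * (gp x.1.1)⁻¹) • ainf F m ∈ Om M ∧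
      (gp x.1.1 * uS hF 0 x.1.2 * (gp x.1.1)⁻¹) • ainf F m ≠ ainf F m := by
    rintro ⟨⟨p, b⟩, hp, hpne, hb, hbM⟩
    have hgpM := (hgp p hp).1
    have hgpp := (hgp p hp).2
    have huM : gp p * uS hF 0 b * (gp p)⁻¹ ∈ M := M.mul_mem (M.mul_mem hgpM hbM) (M.inv_mem hgpM)
    have hu1 : gp p * uS hF 0 b * (gp p)⁻¹ ≠ 1 := conj_ne (uS_zero_ne_one hF hb)
    have huu : (gp p * uS hF 0 b * (gp p)⁻¹) * (gp p * uS hF 0 b * (gp p)⁻¹) = 1 :=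
      conj_sq (uS_zero_sq hF b)
    have hufix : (gp p * uS hF 0 b * (gp p)⁻¹) • p = p := by
      have h5 : (gp p * uS hF 0 b * (gp p)⁻¹) • (gp p • ainf F m) = gp p • ainf F m := by
        rw [← mul_smul, inv_mul_cancel_right, mul_smul, uS_ainf]
      rwa [hgpp] at h5
    refine ⟨huM, hu1, huu, hufix, ⟨_, huM, rfl⟩, ?_⟩
    intro h
    exact hpne (unique_fix_of_sq hm hF hu1 (by rw [pow_two, huu]) h hufix)
  have htot : ∀ x : β, ∃ z : β,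
      (gp x.1.1 * uS hF 0 x.1.2 * (gp x.1.1)⁻¹) • ainf F m = z.1.1 ∧
      (up z.1.1 * (gp x.1.1 * uS hF 0 x.1.2 * (gp x.1.1)⁻¹)) * uS hF 0 b₀ *
        (up z.1.1 * (gp x.1.1 * uS hF 0 x.1.2 * (gp x.1.1)⁻¹))⁻¹ = uS hF 0 z.1.2 := by
    intro x
    obtain ⟨huM, hu1, huu, hufix, hq, hqne⟩ := hprop x
    obtain ⟨hupM, hupup, hup1, hup2⟩ :=
      hup ((gp x.1.1 * uS hF 0 x.1.2 * (gp x.1.1)⁻¹) • ainf F m) ⟨hq, hqne⟩
    have hyfix : (up ((gp x.1.1 * uS hF 0 x.1.2 * (gp x.1.1)⁻¹) • ainf F m) *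
        (gp x.1.1 * uS hF 0 x.1.2 * (gp x.1.1)⁻¹)) • ainf F m = ainf F m := by
      rw [mul_smul, hup2]
    obtain ⟨j, hj⟩ := conj_center hm hF hyfix
    have hjb := hj b₀
    refine ⟨⟨((gp x.1.1 * uS hF 0 x.1.2 * (gp x.1.1)⁻¹) • ainf F m, sg m (j : F) * j * b₀),
      hq, hqne, ?_, ?_⟩, rfl, hjb⟩
    · exact mul_ne_zero (mul_ne_zero (fun h => j.ne_zero (sg_eq_zero.1 h)) j.ne_zero) hb₀
    · show uS hF 0 (sg m (j : F) * j * b₀) ∈ M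
      rw [← hjb]
      exact M.mul_mem (M.mul_mem (M.mul_mem hupM huM) ht₀) (M.inv_mem (M.mul_mem hupM huM))
  choose Ψ hΨ using htot
  have hinj : Function.Injective Ψ := by
    intro x₁ x₂ heq
    obtain ⟨e1, e2⟩ := hΨ x₁
    obtain ⟨e1', e2'⟩ := hΨ x₂
    obtain ⟨hu₁M, hu₁1, hu₁u₁, hu₁fix, hq₁, hqne₁⟩ := hprop x₁
    obtain ⟨hu₂M, hu₂1, hu₂u₂, hu₂fix, hq₂, hqne₂⟩ := hprop x₂
    rw [heq] at e1 e2
    generalize hu₁ : gp x₁.1.1 * uS hF 0 x₁.1.2 * (gp x₁.1.1)⁻¹ = u₁ at *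
    generalize hu₂ : gp x₂.1.1 * uS hF 0 x₂.1.2 * (gp x₂.1.1)⁻¹ = u₂ at *
    generalize hv : up (Ψ x₂).1.1 = v at *
    have hw : (u₂⁻¹ * u₁) * uS hF 0 b₀ * (u₂⁻¹ * u₁)⁻¹ = uS hF 0 b₀ := by
      calc (u₂⁻¹ * u₁) * uS hF 0 b₀ * (u₂⁻¹ * u₁)⁻¹
          = (v * u₂)⁻¹ * ((v * u₁) * uS hF 0 b₀ * (v * u₁)⁻¹) * (v * u₂) := by group
        _ = (v * u₂)⁻¹ * ((v * u₂) * uS hF 0 b₀ * (v * u₂)⁻¹) * (v * u₂) := by rw [e2, e2']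
        _ = uS hF 0 b₀ := by group
    have hw' : (u₂⁻¹ * u₁) * uS hF 0 b₀ = uS hF 0 b₀ * (u₂⁻¹ * u₁) := by
      calc (u₂⁻¹ * u₁) * uS hF 0 b₀
          = (u₂⁻¹ * u₁) * uS hF 0 b₀ * (u₂⁻¹ * u₁)⁻¹ * (u₂⁻¹ * u₁) := by group
        _ = uS hF 0 b₀ * (u₂⁻¹ * u₁) := by rw [hw]
    obtain ⟨c, d, hcd⟩ := cent_center hm hF hb₀ hw'
    have hi₂ : u₂⁻¹ = u₂ := inv_eq_of_mul_eq_one_right hu₂u₂
    have ha1 : u₁ • (Ψ x₂).1.1 = ainf F m := by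
      rw [← e1, ← mul_smul, hu₁u₁, one_smul]
    have hfixp : (u₂⁻¹ * u₁) • (Ψ x₂).1.1 = (Ψ x₂).1.1 := by
      rw [mul_smul, ha1, hi₂, e1']
    have hcd0 : c = 0 ∧ d = 0 := by
      by_contra hcon
      rw [hcd] at hfixp
      exact hqne₂ (e1'.trans (fix_uS hF hcon hfixp))
    have hu12 : u₁ = u₂ := by
      rw [hcd0.1, hcd0.2, uS_zero] at hcd
      calc u₁ = u₂ * (u₂⁻¹ * u₁) := by group
        _ = u₂ := by rw [hcd, mul_one]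
    have hp12 : x₁.1.1 = x₂.1.1 := by
      rw [hu12] at hu₁fix
      exact unique_fix_of_sq hm hF hu₂1 (by rw [pow_two, hu₂u₂]) hu₂fix hu₁fix
    have hb12 : x₁.1.2 = x₂.1.2 := by
      have h5 : gp x₁.1.1 * uS hF 0 x₁.1.2 * (gp x₁.1.1)⁻¹ =
          gp x₁.1.1 * uS hF 0 x₂.1.2 * (gp x₁.1.1)⁻¹ := by
        rw [hu₁, hu12, ← hu₂, hp12]
      exact (uS_inj hF (mul_left_cancel (mul_right_cancel h5))).2
    exact Subtype.ext (Prod.ext hp12 hb12)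
  have hfinβ : Finite β := by
    have : Finite (Cfsg.suzukiOvoid F m × F) := inferInstance
    exact Subtype.finite
  have hsurj := Finite.injective_iff_surjective.1 hinj
  obtain ⟨x, hx⟩ := hsurj ⟨(p', b'), hp', hp'ne, hb', hb'M⟩
  obtain ⟨e1, e2⟩ := hΨ x
  obtain ⟨huM, hu1, huu, hufix, hq, hqne⟩ := hprop x
  rw [hx] at e1 e2
  simp only at e1 e2
  obtain ⟨hupM, hupup, hup1, hup2⟩ := hup p' ⟨hp', hp'ne⟩
  refine ⟨_, M.mul_mem hupM huM, ?_, ?_, e2⟩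
  · rw [mul_smul, e1, hup2]
  · have ha1 : (gp x.1.1 * uS hF 0 x.1.2 * (gp x.1.1)⁻¹) • p' = ainf F m := by
      rw [← e1, ← mul_smul, huu, one_smul]
    rw [mul_smul, ha1, hup1]

end Cfsg.Agent.Lib.Helper6.SzS3
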