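import Mathlib
import Cfsg.Prelude.Def_LieExceptional
import Cfsg.Agent.Lib.Helper6.SzS3

set_option autoImplicit false
set_option linter.unusedSimpArgs false
set_option linter.unusedVariables false

namespace Cfsg.Agent.Lib.Helper6.SzS4

open Cfsg Cfsg.Agent.Lib.Helper6.Sz0 Cfsg.Agent.Lib.Helper6.Sz1 Cfsg.Agent.Lib.Helper6.Sz2
  Cfsg.Agent.Lib.Helper6.Sz3 Cfsg.Agent.Lib.Helper6.Sz4 Cfsg.Agent.Lib.Helper6.Sz5
  Cfsg.Agent.Lib.Helper6.Sz6 Cfsg.Agent.Lib.Helper6.Sz7 Cfsg.Agent.Lib.Helper6.Sz8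
  Cfsg.Agent.Lib.Helper6.Sz9 Cfsg.Agent.Lib.Helper6.Sz10 Cfsg.Agent.Lib.Helper6.Sz11
  Cfsg.Agent.Lib.Helper6.Sz12 Cfsg.Agent.Lib.Helper6.Sz13 Cfsg.Agent.Lib.Helper6.Sz14
  Cfsg.Agent.Lib.Helper6.Sz15 Cfsg.Agent.Lib.Helper6.Sz16 Cfsg.Agent.Lib.Helper6.Sz17
  Cfsg.Agent.Lib.Helper6.Sz18 Cfsg.Agent.Lib.Helper6.Sz19 Cfsg.Agent.Lib.Helper6.SzS1
  Cfsg.Agent.Lib.Helper6.SzS2 Cfsg.Agent.Lib.Helper6.SzS3 Matrix
open scoped Pointwise commutatorElement

variable {F : Type*} [Field F] [Fintype F] {m : ℕ}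

theorem uS_sq (hF : Fintype.card F = 2 ^ (2 * m + 1)) (c e : F) :
    uS hF c e * uS hF c e = uS hF 0 (sg m c * c) := by
  rw [uS_mul, add_self hF, add_self hF, zero_add]

/-- `x ↦ σ(x) x` is injective on non-zero elements -/
theorem sg_mul_self_inj' (hF : Fintype.card F = 2 ^ (2 * m + 1)) {c c' : F} (hc : c ≠ 0)
    (hc' : c' ≠ 0) (h : sg m c * c = sg m c' * c') : c = c' := by
  have := sg_mul_self_inj hF (j := Units.mk0 c hc) (j' := Units.mk0 c' hc') h
  exact congrArg Units.val this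

theorem uS_inv_mul (hF : Fintype.card F = 2 ^ (2 * m + 1)) (c e e' : F) :
    (uS hF c e)⁻¹ * uS hF c e' = uS hF 0 (e + e') := by
  have two := two_eq_zero hF
  rw [uS_inv, uS_mul, add_self hF]
  congr 1
  linear_combination (sg m c * c) * two

/-- if `M` has a unique central involution fixing infinity, its unipotent elements form a cyclic
group -/
theorem unip_cyclic (hF : Fintype.card F = 2 ^ (2 * m + 1))
    (M : Subgroup (Cfsg.Sz F m)) {b₀ : F} (hb₀ : b₀ ≠ 0) (ht₀ : uS hF 0 b₀ ∈ M)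
    (huniq : ∀ b, b ≠ 0 → uS hF 0 b ∈ M → b = b₀) :
    ∃ g₁ : Cfsg.Sz F m, ∀ c e, uS hF c e ∈ M → uS hF c e ∈ Subgroup.zpowers g₁ := by
  by_cases hA : ∃ c e, c ≠ 0 ∧ uS hF c e ∈ M
  · obtain ⟨c₀, e₀, hc₀, h₀⟩ := hA
    have hsq : ∀ c e, c ≠ 0 → uS hF c e ∈ M → sg m c * c = b₀ := by
      intro c e hc h
      have h1 : uS hF 0 (sg m c * c) ∈ M := by
        rw [← uS_sq]
        exact M.mul_mem h h
      exact huniq _ (mul_ne_zero (fun h => hc (sg_eq_zero.1 h)) hc) h1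
    have hg2 : uS hF c₀ e₀ * uS hF c₀ e₀ = uS hF 0 b₀ := by
      rw [uS_sq, hsq c₀ e₀ hc₀ h₀]
    refine ⟨uS hF c₀ e₀, fun c e h => ?_⟩
    by_cases hc : c = 0
    · subst hc
      by_cases he : e = 0
      · subst he
        rw [uS_zero]
        exact Subgroup.one_mem _
      · rw [huniq e he h, ← hg2]
        exact Subgroup.mul_mem _ (Subgroup.mem_zpowers _) (Subgroup.mem_zpowers _)
    · have hcc : c = c₀ :=
        sg_mul_self_inj' hF hc hc₀ ((hsq c e hc h).trans (hsq c₀ e₀ hc₀ h₀).symm)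
      subst hcc
      have h1 : uS hF 0 (e₀ + e) ∈ M := by
        rw [← uS_inv_mul hF c e₀ e]
        exact M.mul_mem (M.inv_mem h₀) h
      have h2 : uS hF c e = uS hF c e₀ * uS hF 0 (e₀ + e) := by
        rw [← uS_inv_mul hF c e₀ e, mul_inv_cancel_left]
      by_cases he : e₀ + e = 0
      · rw [h2, he, uS_zero, mul_one]
        exact Subgroup.mem_zpowers _
      · rw [h2, huniq _ he h1, ← hg2]
        exact Subgroup.mul_mem _ (Subgroup.mem_zpowers _)
          (Subgroup.mul_mem _ (Subgroup.mem_zpowers _) (Subgroup.mem_zpowers _))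
  · refine ⟨uS hF 0 b₀, fun c e h => ?_⟩
    have hc : c = 0 := by
      by_contra hc
      exact hA ⟨c, e, hc, h⟩
    subst hc
    by_cases he : e = 0
    · subst he
      rw [uS_zero]
      exact Subgroup.one_mem _
    · rw [huniq e he h]
      exact Subgroup.mem_zpowers _

/-- if `M` has a unique central involution fixing infinity, its Sylow 2-subgroups are cyclic -/
theorem cyclic_sylow (hm : 1 ≤ m) (hF : Fintype.card F = 2 ^ (2 * m + 1))
    (M : Subgroup (Cfsg.Sz F m)) {b₀ : F} (hb₀ : b₀ ≠ 0) (ht₀ : uS hF 0 b₀ ∈ M)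
    (huniq : ∀ b, b ≠ 0 → uS hF 0 b ∈ M → b = b₀) (P : Sylow 2 M) : IsCyclic P := by
  classical
  have : Fact (Nat.Prime 2) := ⟨Nat.prime_two⟩
  have hfin : Finite (Cfsg.suzukiOvoid F m) := (ovoid_finite m).to_subtype
  obtain ⟨g₁, hg₁⟩ := unip_cyclic hF M hb₀ ht₀ huniq
  by_cases hP : ∀ x : (P : Subgroup M), x = 1
  · have : Subsingleton (P : Subgroup M) := ⟨fun a b => (hP a).trans (hP b).symm⟩
    exact isCyclic_of_subsingleton
  · push Not at hP
    obtain ⟨x, hx⟩ := hP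
    -- an involution in P
    obtain ⟨k, hk⟩ := (IsPGroup.iff_orderOf.1 P.isPGroup') x
    have hk0 : k ≠ 0 := by
      rintro rfl
      rw [pow_zero, orderOf_eq_one_iff] at hk
      exact hx hk
    obtain ⟨k', rfl⟩ : ∃ k', k = k' + 1 := ⟨k - 1, by omega⟩
    have ht1 : x ^ (2 ^ k') ≠ 1 := by
      apply pow_ne_one_of_lt_orderOf (by positivity)
      rw [hk]
      exact Nat.pow_lt_pow_right (by norm_num) (by omega)
    have ht2 : x ^ (2 ^ k') * x ^ (2 ^ k') = 1 := by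
      rw [← pow_add, ← two_mul, ← pow_succ', ← hk, pow_orderOf_eq_one]
    -- a fixed point of P
    obtain ⟨a, ha⟩ := P.isPGroup'.nonempty_fixed_point_of_prime_not_dvd_card
      (Cfsg.suzukiOvoid F m) (card_ovoid_odd hF)
    have hfixa : ∀ y : (P : Subgroup M), ((y : M) : Cfsg.Sz F m) • a = a := fun y => ha y
    have haOm : a ∈ Om M := by
      refine fix_mem_Om hm hF M hb₀ ht₀ (t := (((x ^ (2 ^ k') : (P : Subgroup M)) : M) :
        Cfsg.Sz F m)) (x ^ (2 ^ k') : (P : Subgroup M)).1.2 ?_ ?_ (hfixa _)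
      · intro h
        apply ht1
        apply Subtype.ext
        apply Subtype.ext
        exact h
      · have := congrArg (fun y : (P : Subgroup M) => ((y : M) : Cfsg.Sz F m)) ht2
        simpa using this
    obtain ⟨g, hgM, hga⟩ := haOm
    have hmem : ∀ y : (P : Subgroup M), g⁻¹ * ((y : M) : Cfsg.Sz F m) * g ∈ Subgroup.zpowers g₁ := by
      intro y
      have hyM : g⁻¹ * ((y : M) : Cfsg.Sz F m) * g ∈ M :=
        M.mul_mem (M.mul_mem (M.inv_mem hgM) y.1.2) hgM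
      have hyfix : (g⁻¹ * ((y : M) : Cfsg.Sz F m) * g) • ainf F m = ainf F m := by
        rw [mul_smul, mul_smul, hga, hfixa, inv_smul_eq_iff, hga]
      obtain ⟨j, hj⟩ := P.isPGroup' y
      have hj' : ((y : M) : Cfsg.Sz F m) ^ (2 ^ j) = 1 := by
        have := congrArg (fun y : (P : Subgroup M) => ((y : M) : Cfsg.Sz F m)) hj
        simpa using this
      have hpow : (g⁻¹ * ((y : M) : Cfsg.Sz F m) * g) ^ (2 ^ j) = 1 := by
        have e : g⁻¹ * ((y : M) : Cfsg.Sz F m) * g = MulAut.conj g⁻¹ ((y : M) : Cfsg.Sz F m) := by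
          rw [MulAut.conj_apply, inv_inv]
        rw [e, ← map_pow, hj', map_one]
      obtain ⟨c, e, hce⟩ := two_pow_mem_U hm hF hyfix hpow
      rw [hce]
      apply hg₁
      rw [← hce]
      exact hyM
    let ψ : (P : Subgroup M) →* Subgroup.zpowers g₁ :=
      { toFun := fun y => ⟨g⁻¹ * ((y : M) : Cfsg.Sz F m) * g, hmem y⟩
        map_one' := Subtype.ext (by simp)
        map_mul' := fun y y' => Subtype.ext (by simp [mul_assoc]) }
    have hψ : Function.Injective ψ := by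
      intro y y' h
      have h1 : g⁻¹ * ((y : M) : Cfsg.Sz F m) * g = g⁻¹ * ((y' : M) : Cfsg.Sz F m) * g :=
        congrArg Subtype.val h
      apply Subtype.ext
      apply Subtype.ext
      exact mul_left_cancel (mul_right_cancel h1)
    exact isCyclic_of_injective ψ hψ

end Cfsg.Agent.Lib.Helper6.SzS4
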