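import Mathlib
import Cfsg.Prelude.Def_LieExceptional
import Cfsg.Agent.Lib.Helper6.SzS4

set_option autoImplicit false
set_option linter.unusedSimpArgs false
set_option linter.unusedVariables false

namespace Cfsg.Agent.Lib.Helper6.SzS5

open Cfsg Cfsg.Agent.Lib.Helper6.Sz0 Cfsg.Agent.Lib.Helper6.Sz1 Cfsg.Agent.Lib.Helper6.Sz2
  Cfsg.Agent.Lib.Helper6.Sz3 Cfsg.Agent.Lib.Helper6.Sz4 Cfsg.Agent.Lib.Helper6.Sz5
  Cfsg.Agent.Lib.Helper6.Sz6 Cfsg.Agent.Lib.Helper6.Sz7 Cfsg.Agent.Lib.Helper6.Sz8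
  Cfsg.Agent.Lib.Helper6.Sz9 Cfsg.Agent.Lib.Helper6.Sz10 Cfsg.Agent.Lib.Helper6.Sz11
  Cfsg.Agent.Lib.Helper6.Sz12 Cfsg.Agent.Lib.Helper6.Sz13 Cfsg.Agent.Lib.Helper6.Sz14
  Cfsg.Agent.Lib.Helper6.Sz15 Cfsg.Agent.Lib.Helper6.Sz16 Cfsg.Agent.Lib.Helper6.Sz17
  Cfsg.Agent.Lib.Helper6.Sz18 Cfsg.Agent.Lib.Helper6.Sz19 Cfsg.Agent.Lib.Helper6.SzS1
  Cfsg.Agent.Lib.Helper6.SzS2 Cfsg.Agent.Lib.Helper6.SzS3 Cfsg.Agent.Lib.Helper6.SzS4 Matrix
open scoped Pointwise commutatorElement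

variable {F : Type*} [Field F] [Fintype F] {m : ℕ}

theorem wS_apt (hF : Fintype.card F = 2 ^ (2 * m + 1)) (x y : F) (hf : fO m x y ≠ 0) :
    wS hF • apt m x y = apt m (y / fO m x y) (x / fO m x y) :=
  Subtype.ext (Wm_smul_pt hF x y hf)

/-- the normalised configuration: the subgroup contains the central involution `u(0,1)`, the
origin lies in the orbit of infinity, and there is a second central involution -/
structure NF (hF : Fintype.card F = 2 ^ (2 * m + 1)) (M : Subgroup (Cfsg.Sz F m)) : Prop where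
  one : uS hF 0 1 ∈ M
  zero : apt m (0 : F) 0 ∈ Om M
  two : ∃ b₁ : F, b₁ ≠ 0 ∧ b₁ ≠ 1 ∧ uS hF 0 b₁ ∈ M

variable {hF : Fintype.card F = 2 ^ (2 * m + 1)} {M : Subgroup (Cfsg.Sz F m)}

theorem NF.torus_of_invol (hm : 1 ≤ m) (h : NF hF M) {b : F} (hb : b ≠ 0)
    (hbM : uS hF 0 b ∈ M) : ∃ j : Fˣ, hS hF j ∈ M ∧ b = sg m (j : F) * j := by
  obtain ⟨y, hyM, hy1, hy2, hy3⟩ :=
    two_pt_trans hm hF M one_ne_zero h.one h.zero (apt_ne_ainf m 0 0) hb hbM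
  obtain ⟨j, hj⟩ := mem_torus_of_fix hm hF hy1 hy2
  have hj' : hS hF j = y := hj
  rw [← hj'] at hy3 hyM
  rw [hS_conj_uS] at hy3
  have h5 := (uS_inj hF hy3).2
  exact ⟨j, hyM, by rw [← h5, mul_one]⟩

theorem NF.stab_decomp (hm : 1 ≤ m) (h : NF hF M) {g : Cfsg.Sz F m} (hg : g ∈ M)
    (hfix : g • ainf F m = ainf F m) :
    ∃ (c e : F) (j : Fˣ), g = uS hF c e * hS hF j ∧ uS hF c e ∈ M ∧ hS hF j ∈ M := by
  obtain ⟨x, y, j, hxy, hconj⟩ := conj_uS hm hF hfix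
  have h1 : uS hF 0 (sg m (j : F) * j) ∈ M := by
    have h2 : g * uS hF 0 1 * g⁻¹ ∈ M := M.mul_mem (M.mul_mem hg h.one) (M.inv_mem hg)
    rw [hconj, mul_zero, mul_zero, sg_zero, zero_mul, add_zero, add_zero, mul_one] at h2
    exact h2
  have hne : sg m (j : F) * j ≠ 0 :=
    mul_ne_zero (fun h => j.ne_zero (sg_eq_zero.1 h)) j.ne_zero
  obtain ⟨j', hj'M, hj'⟩ := h.torus_of_invol hm hne h1
  have hjj : j = j' := sg_mul_self_inj hF hj'
  subst hjj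
  refine ⟨x, y, j, hxy, ?_, hj'M⟩
  have e : uS hF x y = g * (hS hF j)⁻¹ := by rw [hxy]; group
  rw [e]
  exact M.mul_mem hg (M.inv_mem hj'M)

theorem NF.exists_torus (hm : 1 ≤ m) (h : NF hF M) : ∃ j : Fˣ, j ≠ 1 ∧ hS hF j ∈ M := by
  obtain ⟨b₁, hb0, hb1, hbM⟩ := h.two
  obtain ⟨j, hjM, hj⟩ := h.torus_of_invol hm hb0 hbM
  refine ⟨j, ?_, hjM⟩
  rintro rfl
  apply hb1
  rw [hj, Units.val_one, sg_one, one_mul]

/-- the orbit of infinity consists of infinity and the translates of the origin under the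
unipotent elements of the subgroup -/
theorem NF.orbit_pts (hm : 1 ≤ m) (h : NF hF M) {p : Cfsg.suzukiOvoid F m} (hp : p ∈ Om M)
    (hpne : p ≠ ainf F m) : ∃ c e : F, uS hF c e ∈ M ∧ p = apt m c e := by
  obtain ⟨b₁, hb0, hb1, hbM⟩ := h.two
  obtain ⟨y, hyM, hy1, hy2, hy3⟩ := two_pt_trans hm hF M one_ne_zero h.one hp hpne hb0 hbM
  obtain ⟨c, e, j, hce, hceM, hjM⟩ := h.stab_decomp hm hyM hy1
  have hy_ne : y ≠ 1 := by
    rintro rfl
    rw [one_mul, inv_one, mul_one] at hy3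
    exact hb1 (uS_inj hF hy3).2.symm
  have hj1 : j ≠ 1 := by
    rintro rfl
    rw [hS_one, mul_one] at hce
    have hce0 : c = 0 ∧ e = 0 := by
      by_contra hcon
      rw [hce] at hy2
      exact hpne (fix_uS hF hcon hy2)
    apply hy_ne
    rw [hce, hce0.1, hce0.2, uS_zero]
  -- bijection on the unipotent part
  have hconjQ : ∀ v : (M ⊓ Usub hF : Subgroup (Cfsg.Sz F m)),
      hS hF j * (v : Cfsg.Sz F m)⁻¹ * (hS hF j)⁻¹ ∈ (M ⊓ Usub hF : Subgroup (Cfsg.Sz F m)) := by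
    rintro ⟨v, hvM, a, b, rfl⟩
    refine ⟨M.mul_mem (M.mul_mem hjM (M.inv_mem hvM)) (M.inv_mem hjM), ?_⟩
    show hS hF j * (uS hF a b)⁻¹ * (hS hF j)⁻¹ ∈ Usub hF
    rw [uS_inv, hS_conj_uS]
    exact ⟨_, _, rfl⟩
  let f : (M ⊓ Usub hF : Subgroup (Cfsg.Sz F m)) → (M ⊓ Usub hF : Subgroup (Cfsg.Sz F m)) :=
    fun v => ⟨(v : Cfsg.Sz F m) * (hS hF j * (v : Cfsg.Sz F m)⁻¹ * (hS hF j)⁻¹),
      Subgroup.mul_mem _ v.2 (hconjQ v)⟩
  have hf : Function.Injective f := by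
    intro v v' hvv
    have h1 : (v : Cfsg.Sz F m) * (hS hF j * (v : Cfsg.Sz F m)⁻¹ * (hS hF j)⁻¹) =
        (v' : Cfsg.Sz F m) * (hS hF j * (v' : Cfsg.Sz F m)⁻¹ * (hS hF j)⁻¹) :=
      congrArg Subtype.val hvv
    have h3 : (v : Cfsg.Sz F m) * hS hF j * (v : Cfsg.Sz F m)⁻¹ =
        (v' : Cfsg.Sz F m) * hS hF j * (v' : Cfsg.Sz F m)⁻¹ := by
      calc (v : Cfsg.Sz F m) * hS hF j * (v : Cfsg.Sz F m)⁻¹
          = (v : Cfsg.Sz F m) * (hS hF j * (v : Cfsg.Sz F m)⁻¹ * (hS hF j)⁻¹) * hS hF j := by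
            group
        _ = (v' : Cfsg.Sz F m) * (hS hF j * (v' : Cfsg.Sz F m)⁻¹ * (hS hF j)⁻¹) * hS hF j := by
            rw [h1]
        _ = _ := by group
    have h2 : hS hF j * ((v' : Cfsg.Sz F m)⁻¹ * v) * (hS hF j)⁻¹ =
        (v' : Cfsg.Sz F m)⁻¹ * v := by
      calc hS hF j * ((v' : Cfsg.Sz F m)⁻¹ * v) * (hS hF j)⁻¹
          = (v' : Cfsg.Sz F m)⁻¹ * ((v' : Cfsg.Sz F m) * hS hF j * (v' : Cfsg.Sz F m)⁻¹) * v *
              (hS hF j)⁻¹ := by group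
        _ = (v' : Cfsg.Sz F m)⁻¹ * ((v : Cfsg.Sz F m) * hS hF j * (v : Cfsg.Sz F m)⁻¹) * v *
              (hS hF j)⁻¹ := by rw [h3]
        _ = _ := by group
    obtain ⟨a, b, hab⟩ : ∃ a b, (v' : Cfsg.Sz F m)⁻¹ * v = uS hF a b :=
      (Usub hF).mul_mem ((Usub hF).inv_mem v'.2.2) v.2.2
    rw [hab, hS_conj_uS] at h2
    obtain ⟨e1, e2⟩ := uS_inj hF h2
    have ha : a = 0 := by
      have h4 : ((j : F) - 1) * a = 0 := by linear_combination e1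
      rcases mul_eq_zero.1 h4 with h5 | h5
      · exfalso
        apply hj1
        apply Units.ext
        rw [Units.val_one]
        linear_combination h5
      · exact h5
    have hb : b = 0 := by
      have h4 : (sg m (j : F) * j - 1) * b = 0 := by linear_combination e2
      rcases mul_eq_zero.1 h4 with h5 | h5
      · exfalso
        apply hj1
        apply sg_mul_self_inj hF
        rw [Units.val_one, sg_one, one_mul]
        linear_combination h5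
      · exact h5
    rw [ha, hb, uS_zero] at hab
    apply Subtype.ext
    calc (v : Cfsg.Sz F m) = v' * ((v' : Cfsg.Sz F m)⁻¹ * v) := by group
      _ = v' := by rw [hab, mul_one]
  obtain ⟨v, hv⟩ := (Finite.injective_iff_surjective.1 hf) ⟨uS hF c e, hceM, c, e, rfl⟩
  have hv' : (v : Cfsg.Sz F m) * (hS hF j * (v : Cfsg.Sz F m)⁻¹ * (hS hF j)⁻¹) = uS hF c e :=
    congrArg Subtype.val hv
  have hy : y = (v : Cfsg.Sz F m) * hS hF j * (v : Cfsg.Sz F m)⁻¹ := by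
    rw [hce, ← hv']; group
  obtain ⟨hvM, a, b, hab⟩ := v.2
  have hfix3 : y • ((v : Cfsg.Sz F m) • apt m (0 : F) 0) = (v : Cfsg.Sz F m) • apt m (0 : F) 0 := by
    rw [hy, ← mul_smul, inv_mul_cancel_right, mul_smul, hS_apt_zero]
  rcases three_fix hm hF hy_ne hy1 hy2 hfix3 with h3 | h3 | h3
  · exact absurd h3.symm hpne
  · refine ⟨a, b, ?_, ?_⟩
    · rw [← hab]; exact hvM
    · rw [h3, hab, uS_apt_zero]
  · exfalso
    rw [hab, uS_apt_zero] at h3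
    exact apt_ne_ainf m a b h3.symm

theorem NF.conj_one (h : NF hF M) {j : Fˣ} (hj : hS hF j ∈ M) :
    uS hF 0 (sg m (j : F) * j) ∈ M := by
  have h2 : hS hF j * uS hF 0 1 * (hS hF j)⁻¹ ∈ M := M.mul_mem (M.mul_mem hj h.one) (M.inv_mem hj)
  rw [hS_conj_uS, mul_zero, mul_one] at h2
  exact h2

theorem NF.torus_surj (h : NF hF M) {j : Fˣ} (hj : hS hF j ∈ M) :
    ∃ j' : Fˣ, hS hF j' ∈ M ∧ (j : F) = sg m (j' : F) * j' := by
  let f : (M.comap (torusHom hF) : Subgroup Fˣ) → (M.comap (torusHom hF) : Subgroup Fˣ) :=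
    fun x => ⟨x.1 ^ (2 ^ (m + 1)) * x.1, Subgroup.mul_mem _ (Subgroup.pow_mem _ x.2 _) x.2⟩
  have hf : Function.Injective f := by
    intro x x' hxx
    have h1 : x.1 ^ (2 ^ (m + 1)) * x.1 = x'.1 ^ (2 ^ (m + 1)) * x'.1 := congrArg Subtype.val hxx
    apply Subtype.ext
    apply sg_mul_self_inj hF
    have h2 := congrArg Units.val h1
    simpa [sg] using h2
  obtain ⟨x, hx⟩ := (Finite.injective_iff_surjective.1 hf) ⟨j, hj⟩
  refine ⟨x.1, x.2, ?_⟩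
  have h1 : x.1 ^ (2 ^ (m + 1)) * x.1 = j := congrArg Subtype.val hx
  rw [← h1]
  simp [sg]

theorem NF.mem_iff_torus (hm : 1 ≤ m) (h : NF hF M) {b : F} (hb : b ≠ 0) :
    uS hF 0 b ∈ M ↔ ∃ j : Fˣ, hS hF j ∈ M ∧ b = (j : F) := by
  constructor
  · intro hbM
    obtain ⟨j, hjM, hj⟩ := h.torus_of_invol hm hb hbM
    refine ⟨j ^ (2 ^ (m + 1)) * j, ?_, ?_⟩
    · rw [← hS_mul, ← hS_pow]
      exact M.mul_mem (M.pow_mem hjM _) hjM
    · rw [hj]
      simp [sg]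
  · rintro ⟨j, hjM, rfl⟩
    obtain ⟨j', hj'M, hj'⟩ := h.torus_surj hjM
    rw [hj']
    exact h.conj_one hj'M

/-- the subfield attached to a normalised configuration -/
def NF.F0 (hm : 1 ≤ m) (h : NF hF M) : Subfield F where
  carrier := {x | uS hF 0 x ∈ M}
  mul_mem' := by
    intro x y hx hy
    by_cases hx0 : x = 0
    · subst hx0
      show uS hF 0 (0 * y) ∈ M
      rw [zero_mul, uS_zero]
      exact M.one_mem
    by_cases hy0 : y = 0
    · subst hy0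
      show uS hF 0 (x * 0) ∈ M
      rw [mul_zero, uS_zero]
      exact M.one_mem
    obtain ⟨j, hjM, rfl⟩ := (h.mem_iff_torus hm hx0).1 hx
    obtain ⟨j', hj'M, rfl⟩ := (h.mem_iff_torus hm hy0).1 hy
    exact (h.mem_iff_torus hm (mul_ne_zero hx0 hy0)).2
      ⟨j * j', by rw [← hS_mul]; exact M.mul_mem hjM hj'M, by simp⟩
  one_mem' := h.one
  add_mem' := by
    intro x y hx hy
    have h3 := M.mul_mem hx hy
    rw [uS_mul, sg_zero, zero_mul, add_zero, add_zero] at h3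
    exact h3
  zero_mem' := by
    show uS hF 0 0 ∈ M
    rw [uS_zero]
    exact M.one_mem
  neg_mem' := by
    intro x hx
    show uS hF 0 (-x) ∈ M
    rw [neg_eq hF]
    exact hx
  inv_mem' := by
    intro x hx
    by_cases hx0 : x = 0
    · subst hx0
      show uS hF 0 (0 : F)⁻¹ ∈ M
      rw [_root_.inv_zero]
      exact hx
    obtain ⟨j, hjM, rfl⟩ := (h.mem_iff_torus hm hx0).1 hx
    exact (h.mem_iff_torus hm (inv_ne_zero hx0)).2
      ⟨j⁻¹, by rw [← hS_inv]; exact M.inv_mem hjM, by simp⟩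

theorem NF.mem_F0 (hm : 1 ≤ m) (h : NF hF M) (x : F) : x ∈ h.F0 hm ↔ uS hF 0 x ∈ M := Iff.rfl

theorem NF.fst_mem (hm : 1 ≤ m) (h : NF hF M) {a e : F} (hae : uS hF a e ∈ M) :
    a ∈ h.F0 hm := by
  by_cases ha : a = 0
  · subst ha
    exact (h.F0 hm).zero_mem
  · have h1 : uS hF 0 (sg m a * a) ∈ M := by
      rw [← uS_sq]
      exact M.mul_mem hae hae
    have hne : sg m a * a ≠ 0 := mul_ne_zero (fun h => ha (sg_eq_zero.1 h)) ha
    obtain ⟨j, hjM, hj⟩ := h.torus_of_invol hm hne h1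
    have e : a = j := sg_mul_self_inj' hF ha j.ne_zero hj
    rw [e]
    exact (h.mem_iff_torus hm j.ne_zero).2 ⟨j, hjM, rfl⟩

theorem NF.hS_mem_iff (hm : 1 ≤ m) (h : NF hF M) (j : Fˣ) :
    hS hF j ∈ M ↔ (j : F) ∈ h.F0 hm := by
  constructor
  · intro hj
    exact (h.mem_iff_torus hm j.ne_zero).2 ⟨j, hj, rfl⟩
  · intro hj
    obtain ⟨j', hj'M, hj'⟩ := (h.mem_iff_torus hm j.ne_zero).1 hj
    have e : j = j' := Units.ext hj'
    rw [e]
    exact hj'M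

/-- the subgroup contains an involution `w h(l)` exchanging infinity and the origin, and the
unipotent element `u(l⁻¹, 0)` -/
theorem NF.weyl (hm : 1 ≤ m) (h : NF hF M) :
    ∃ l : Fˣ, wS hF * hS hF l ∈ M ∧ uS hF ((l : F)⁻¹) 0 ∈ M := by
  obtain ⟨u, huM, huu, hu1, hu2⟩ :=
    swap_pt hm hF M one_ne_zero h.one h.zero (apt_ne_ainf m 0 0)
  have hf1 : (wS hF * u) • ainf F m = ainf F m := by rw [mul_smul, hu1, wS_apt_zero]
  have hf2 : (wS hF * u) • apt m (0 : F) 0 = apt m 0 0 := by rw [mul_smul, hu2, wS_ainf]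
  obtain ⟨l, hl⟩ := mem_torus_of_fix hm hF hf1 hf2
  have hl' : hS hF l = wS hF * u := hl
  have hu : u = wS hF * hS hF l := by rw [hl', ← mul_assoc, wS_mul_self, one_mul]
  refine ⟨l, hu ▸ huM, ?_⟩
  have hpt : apt m (0 : F) 1 ∈ Om M := by
    obtain ⟨g, hg, hga⟩ := h.zero
    exact ⟨uS hF 0 1 * g, M.mul_mem h.one hg, by rw [mul_smul, hga, uS_apt_zero]⟩
  have hpt2 : u • apt m (0 : F) 1 ∈ Om M := by
    obtain ⟨g, hg, hga⟩ := hpt
    exact ⟨u * g, M.mul_mem huM hg, by rw [mul_smul, hga]⟩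
  have hl0 : (l : F) ≠ 0 := l.ne_zero
  have hsl0 : sg m (l : F) ≠ 0 := fun h => hl0 (sg_eq_zero.1 h)
  have hfO : fO m 0 (sg m (l : F) * l) = sg m (sg m (l : F) * l) := by
    simp [fO, sg]
  have hfO0 : fO m 0 (sg m (l : F) * l) ≠ 0 := by
    rw [hfO]
    exact fun h => (mul_ne_zero hsl0 hl0) (sg_eq_zero.1 h)
  have hcomp : u • apt m (0 : F) 1 = apt m ((l : F)⁻¹) 0 := by
    rw [hu, mul_smul, hS_apt, mul_zero, mul_one, wS_apt hF _ _ hfO0, hfO, sg_mul, sg_sg hF,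
      zero_div]
    congr 1
    field_simp
  rw [hcomp] at hpt2
  obtain ⟨c, e, hceM, hce⟩ := h.orbit_pts hm hpt2 (apt_ne_ainf m _ _)
  obtain ⟨rfl, rfl⟩ := apt_inj hce
  exact hceM

theorem NF.wS_mem (hm : 1 ≤ m) (h : NF hF M) : wS hF ∈ M := by
  obtain ⟨l, hlM, hl⟩ := h.weyl hm
  have h1 : ((l : F)⁻¹) ∈ h.F0 hm := h.fst_mem hm hl
  have h2 : (l : F) ∈ h.F0 hm := by simpa using (h.F0 hm).inv_mem h1
  have h3 := (h.hS_mem_iff hm l).2 h2
  have e : wS hF = wS hF * hS hF l * (hS hF l)⁻¹ := by group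
  rw [e]
  exact M.mul_mem hlM (M.inv_mem h3)

theorem NF.uS_one_mem (hm : 1 ≤ m) (h : NF hF M) : uS hF 1 0 ∈ M := by
  obtain ⟨l, hlM, hl⟩ := h.weyl hm
  have h1 : ((l : F)⁻¹) ∈ h.F0 hm := h.fst_mem hm hl
  have h2 : (l : F) ∈ h.F0 hm := by simpa using (h.F0 hm).inv_mem h1
  have h3 := (h.hS_mem_iff hm l).2 h2
  have h4 : hS hF l * uS hF ((l : F)⁻¹) 0 * (hS hF l)⁻¹ ∈ M :=
    M.mul_mem (M.mul_mem h3 hl) (M.inv_mem h3)
  rw [hS_conj_uS, mul_inv_cancel₀ l.ne_zero, mul_zero] at h4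
  exact h4

/-- the unipotent elements of the subgroup are those with coordinates in the subfield -/
theorem NF.mem_iff (hm : 1 ≤ m) (h : NF hF M) (a b : F) :
    uS hF a b ∈ M ↔ a ∈ h.F0 hm ∧ b ∈ h.F0 hm := by
  have key : ∀ j : Fˣ, hS hF j ∈ M → uS hF (j : F) 0 ∈ M := by
    intro j hj
    have h4 : hS hF j * uS hF 1 0 * (hS hF j)⁻¹ ∈ M :=
      M.mul_mem (M.mul_mem hj (h.uS_one_mem hm)) (M.inv_mem hj)
    rw [hS_conj_uS, mul_one, mul_zero] at h4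
    exact h4
  constructor
  · intro hab
    have ha := h.fst_mem hm hab
    refine ⟨ha, ?_⟩
    by_cases ha0 : a = 0
    · subst ha0
      exact hab
    · obtain ⟨j, hjM, rfl⟩ := (h.mem_iff_torus hm ha0).1 ha
      have h5 : (uS hF (j : F) 0)⁻¹ * uS hF (j : F) b ∈ M := M.mul_mem (M.inv_mem (key j hjM)) hab
      rw [uS_inv_mul, zero_add] at h5
      exact h5
  · rintro ⟨ha, hb⟩
    by_cases ha0 : a = 0
    · subst ha0
      exact hb
    · obtain ⟨j, hjM, rfl⟩ := (h.mem_iff_torus hm ha0).1 ha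
      have h5 : uS hF (j : F) 0 * uS hF 0 b ∈ M := M.mul_mem (key j hjM) hb
      rw [uS_mul, add_zero, zero_add, mul_zero, add_zero] at h5
      exact h5

/-- a subgroup containing the standard generators over the subfield contains `M` -/
theorem NF.le_of_gens (hm : 1 ≤ m) (h : NF hF M) (S : Subgroup (Cfsg.Sz F m))
    (hSu : ∀ a b, a ∈ h.F0 hm → b ∈ h.F0 hm → uS hF a b ∈ S)
    (hSh : ∀ j : Fˣ, (j : F) ∈ h.F0 hm → hS hF j ∈ S) (hSw : wS hF ∈ S) : M ≤ S := by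
  have key : ∀ g ∈ M, g • ainf F m = ainf F m → g ∈ S := by
    intro g hg hfix
    obtain ⟨c, e, j, rfl, hce, hj⟩ := h.stab_decomp hm hg hfix
    obtain ⟨hc, he⟩ := (h.mem_iff hm c e).1 hce
    exact S.mul_mem (hSu c e hc he) (hSh j ((h.hS_mem_iff hm j).1 hj))
  intro g hg
  by_cases hfix : g • ainf F m = ainf F m
  · exact key g hg hfix
  · obtain ⟨c, e, hceM, hce⟩ := h.orbit_pts hm ⟨g, hg, rfl⟩ hfix
    have h1 : wS hF * (uS hF c e)⁻¹ * g ∈ M :=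
      M.mul_mem (M.mul_mem (h.wS_mem hm) (M.inv_mem hceM)) hg
    have h2 : (wS hF * (uS hF c e)⁻¹ * g) • ainf F m = ainf F m := by
      rw [mul_smul, mul_smul, hce, inv_smul_eq_iff.2 (uS_apt_zero hF c e).symm, wS_apt_zero]
    have h3 := key _ h1 h2
    obtain ⟨hc, he⟩ := (h.mem_iff hm c e).1 hceM
    have e' : g = uS hF c e * wS hF * (wS hF * (uS hF c e)⁻¹ * g) := by
      rw [← mul_assoc, ← mul_assoc, mul_assoc (uS hF c e), wS_mul_self, mul_one, mul_inv_cancel,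
        one_mul]
    rw [e']
    exact S.mul_mem (S.mul_mem (hSu c e hc he) hSw) h3

end Cfsg.Agent.Lib.Helper6.SzS5
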