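import Mathlib
import Cfsg.Prelude.Def_LieExceptional
import Cfsg.Agent.Lib.Helper6.SzS5

set_option autoImplicit false
set_option linter.unusedSimpArgs false
set_option linter.unusedVariables false

namespace Cfsg.Agent.Lib.Helper6.SzS6

open Cfsg Cfsg.Agent.Lib.Helper6.Sz0 Cfsg.Agent.Lib.Helper6.Sz1 Cfsg.Agent.Lib.Helper6.Sz2
  Cfsg.Agent.Lib.Helper6.Sz3 Cfsg.Agent.Lib.Helper6.Sz4 Cfsg.Agent.Lib.Helper6.Sz5
  Cfsg.Agent.Lib.Helper6.Sz6 Cfsg.Agent.Lib.Helper6.Sz7 Cfsg.Agent.Lib.Helper6.Sz8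
  Cfsg.Agent.Lib.Helper6.Sz9 Cfsg.Agent.Lib.Helper6.Sz10 Cfsg.Agent.Lib.Helper6.Sz11
  Cfsg.Agent.Lib.Helper6.Sz12 Cfsg.Agent.Lib.Helper6.Sz13 Cfsg.Agent.Lib.Helper6.Sz14
  Cfsg.Agent.Lib.Helper6.Sz15 Cfsg.Agent.Lib.Helper6.Sz16 Cfsg.Agent.Lib.Helper6.Sz17
  Cfsg.Agent.Lib.Helper6.Sz18 Cfsg.Agent.Lib.Helper6.Sz19 Cfsg.Agent.Lib.Helper6.SzS1
  Cfsg.Agent.Lib.Helper6.SzS2 Cfsg.Agent.Lib.Helper6.SzS3 Cfsg.Agent.Lib.Helper6.SzS4
  Cfsg.Agent.Lib.Helper6.SzS5 Matrix
open scoped Pointwise commutatorElement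

variable {F : Type*} [Field F] [Fintype F] {m : ℕ} {K : Type*} [Field K] [Fintype K] {k : ℕ}

/-! ### the fixed field of a power of the Frobenius map -/

/-- the elements fixed by the `n`-th power of the Frobenius map -/
def Fx (F : Type*) [Field F] (n : ℕ) : Set F := {x | x ^ (2 ^ n) = x}

theorem ncard_Fx_le (n : ℕ) (hn : 1 ≤ n) : (Fx F n).ncard ≤ 2 ^ n := by
  classical
  have h1 : 1 < 2 ^ n := Nat.one_lt_two_pow (by omega)
  have hne : (Polynomial.X ^ (2 ^ n) - Polynomial.X : Polynomial F) ≠ 0 :=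
    FiniteField.X_pow_card_sub_X_ne_zero F h1
  have hsub : Fx F n ⊆
      ↑((Polynomial.X ^ (2 ^ n) - Polynomial.X : Polynomial F).roots.toFinset) := by
    intro x hx
    have hx' : x ^ (2 ^ n) = x := hx
    rw [Finset.mem_coe, Multiset.mem_toFinset, Polynomial.mem_roots hne]
    simp [Polynomial.IsRoot, hx']
  calc (Fx F n).ncard
      ≤ (↑((Polynomial.X ^ (2 ^ n) - Polynomial.X : Polynomial F).roots.toFinset) : Set F).ncard :=
        Set.ncard_le_ncard hsub (Finset.finite_toSet _)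
    _ = ((Polynomial.X ^ (2 ^ n) - Polynomial.X : Polynomial F).roots.toFinset).card :=
        Set.ncard_coe_finset _
    _ ≤ Multiset.card (Polynomial.X ^ (2 ^ n) - Polynomial.X : Polynomial F).roots :=
        Multiset.toFinset_card_le _
    _ ≤ (Polynomial.X ^ (2 ^ n) - Polynomial.X : Polynomial F).natDegree :=
        Polynomial.card_roots' _
    _ = 2 ^ n := FiniteField.X_pow_card_sub_X_natDegree_eq F h1

theorem eq_Fx_of_card {n : ℕ} (hn : 1 ≤ n) {S : Set F} (hS : S ⊆ Fx F n)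
    (hc : 2 ^ n ≤ S.ncard) : S = Fx F n :=
  Set.eq_of_subset_of_ncard_le hS ((ncard_Fx_le n hn).trans hc) (Set.toFinite _)

/-- a subfield with more than two elements is the fixed field of a power of Frobenius -/
theorem subfield_eq_Fx (hF : Fintype.card F = 2 ^ (2 * m + 1)) (L : Subfield F)
    (hL : ∃ x ∈ L, x ≠ 0 ∧ x ≠ 1) :
    ∃ f, 2 ≤ f ∧ f ∣ 2 * m + 1 ∧ (L : Set F) = Fx F f := by
  classical
  have hcardF : Nat.card F = 2 ^ (2 * m + 1) := by rw [Nat.card_eq_fintype_card, hF]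
  have hdvd : Nat.card L ∣ 2 ^ (2 * m + 1) := by
    rw [← hcardF]
    exact AddSubgroup.card_addSubgroup_dvd_card L.toAddSubgroup
  obtain ⟨f, hf, hcard⟩ := (Nat.dvd_prime_pow Nat.prime_two).1 hdvd
  have hpow : ∀ x ∈ L, x ^ (2 ^ f) = x := by
    intro x hx
    have h1 : (⟨x, hx⟩ : L) ^ Fintype.card L = ⟨x, hx⟩ := FiniteField.pow_card _
    rw [← Nat.card_eq_fintype_card, hcard] at h1
    exact congrArg Subtype.val h1
  have hf2 : 2 ≤ f := by
    obtain ⟨x, hx, hx0, hx1⟩ := hL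
    by_contra hlt
    have hf1 : f ≤ 1 := by omega
    have h2 : x ^ 2 = x := by
      rcases Nat.lt_or_ge f 1 with h | h
      · have : f = 0 := by omega
        have h3 := hpow x hx
        rw [this, pow_zero, pow_one] at h3
        rw [pow_two]
        have h4 := hpow (x * x) (L.mul_mem hx hx)
        rw [this, pow_zero, pow_one] at h4
        have h5 := hpow 1 L.one_mem
        -- f = 0 forces card L = 1, impossible
        have hc1 : Nat.card L = 1 := by rw [hcard, this, pow_zero]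
        have hsub := (Nat.card_eq_one_iff_unique.1 hc1).1
        have h6 : (⟨x, hx⟩ : L) = ⟨0, L.zero_mem⟩ := Subsingleton.elim _ _
        exact absurd (congrArg Subtype.val h6) hx0
      · have : f = 1 := by omega
        have h3 := hpow x hx
        rw [this, pow_one] at h3
        exact h3
    have h3 : x * (x - 1) = 0 := by linear_combination h2
    rcases mul_eq_zero.1 h3 with h4 | h4
    · exact hx0 h4
    · exact hx1 (by linear_combination h4)
  have hdiv : f ∣ 2 * m + 1 := by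
    have h1 := Module.natCard_eq_pow_finrank (K := L) (V := F)
    rw [hcardF, hcard, ← pow_mul] at h1
    have h2 := Nat.pow_right_injective (le_refl 2) h1
    exact ⟨_, h2⟩
  refine ⟨f, hf2, hdiv, ?_⟩
  apply eq_Fx_of_card (by omega)
  · intro x hx
    exact hpow x hx
  · rw [← hcard]
    exact (Nat.card_coe_set_eq (L : Set F)).le

/-! ### the standard subfield subgroup -/

/-- the subgroup generated by the standard generators with coordinates fixed by the `n`-th
power of Frobenius -/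
def Std (hF : Fintype.card F = 2 ^ (2 * m + 1)) (n : ℕ) : Subgroup (Cfsg.Sz F m) :=
  Subgroup.closure {g | (∃ a b : F, a ∈ Fx F n ∧ b ∈ Fx F n ∧ g = uS hF a b) ∨
    (∃ j : Fˣ, (j : F) ∈ Fx F n ∧ g = hS hF j) ∨ g = wS hF}

/-! ### the embedding of the Suzuki group over a subfield -/

theorem exists_quot (hdiv : 2 * k + 1 ∣ 2 * m + 1) : ∃ j, m = k + j * (2 * k + 1) := by
  obtain ⟨c, hc⟩ := hdiv
  rcases Nat.even_or_odd c with ⟨d, rfl⟩ | ⟨d, rfl⟩
  · exfalso
    have e : (2 * k + 1) * (d + d) = 2 * ((2 * k + 1) * d) := by ring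
    rw [e] at hc
    omega
  · refine ⟨d, ?_⟩
    have e : (2 * k + 1) * (2 * d + 1) = 2 * (d * (2 * k + 1)) + (2 * k + 1) := by ring
    rw [e] at hc
    omega

theorem pow_two_pow_eq (hK : Fintype.card K = 2 ^ (2 * k + 1)) (hdiv : 2 * k + 1 ∣ 2 * m + 1)
    (x : K) (i : ℕ) : x ^ (2 ^ (m + i)) = x ^ (2 ^ (k + i)) := by
  obtain ⟨j, hj⟩ := exists_quot hdiv
  have e : 2 ^ (m + i) = 2 ^ (k + i) * (Fintype.card K) ^ j := by
    rw [hK, ← pow_mul, ← pow_add, hj]
    congr 1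
    ring
  rw [e, pow_mul, FiniteField.pow_card_pow]

variable (hK : Fintype.card K = 2 ^ (2 * k + 1)) (hdiv : 2 * k + 1 ∣ 2 * m + 1) (ι : K →+* F)

include hK hdiv in
theorem iota_sg (x : K) : ι (sg k x) = sg m (ι x) := by
  unfold sg
  rw [← map_pow, pow_two_pow_eq hK hdiv x 1]

include hK hdiv in
theorem iota_fO (x y : K) : ι (fO k x y) = fO m (ι x) (ι y) := by
  rw [fO_eq, fO_eq, map_add, map_add, map_mul, map_mul, map_pow, iota_sg hK hdiv, iota_sg hK hdiv]

include hK hdiv in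
theorem iota_pow (x : K) : ι (x ^ (2 ^ k)) = (ι x) ^ (2 ^ m) := by
  have := pow_two_pow_eq hK hdiv x 0
  rw [add_zero, add_zero] at this
  rw [← map_pow, this]

include hK hdiv in
theorem map_Um (a b : K) :
    Matrix.SpecialLinearGroup.map ι (Um k a b) = Um m (ι a) (ι b) := by
  apply Subtype.ext
  rw [Matrix.SpecialLinearGroup.map_apply_coe]
  simp only [Um, UmMat]
  ext i j
  fin_cases i <;> fin_cases j <;> simp [iota_sg hK hdiv, iota_fO hK hdiv]

include hK hdiv in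
theorem map_Hm (κ : Kˣ) :
    Matrix.SpecialLinearGroup.map ι (Hm k κ) = Hm m (Units.map ι.toMonoidHom κ) := by
  apply Subtype.ext
  rw [Matrix.SpecialLinearGroup.map_apply_coe]
  simp only [Hm, HmMat]
  ext i j
  fin_cases i <;> fin_cases j <;> simp [pow_succ, iota_pow hK hdiv]

omit [Fintype F] [Fintype K] in
theorem map_Wm : Matrix.SpecialLinearGroup.map ι (Wm : SL4 K) = Wm := by
  apply Subtype.ext
  rw [Matrix.SpecialLinearGroup.map_apply_coe]
  simp only [Wm, WmMat]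
  ext i j
  fin_cases i <;> fin_cases j <;> simp

include hK hdiv in
theorem mem_map (hk : 1 ≤ k) (hF : Fintype.card F = 2 ^ (2 * m + 1)) :
    ∀ g ∈ Cfsg.Sz K k, Matrix.SpecialLinearGroup.map ι g ∈ Cfsg.Sz F m := by
  refine Sz_induction hk hK (P := fun g => Matrix.SpecialLinearGroup.map ι g ∈ Cfsg.Sz F m)
    ?_ ?_ ?_ ?_
  · intro a b
    show Matrix.SpecialLinearGroup.map ι (Um k a b) ∈ Cfsg.Sz F m
    rw [map_Um hK hdiv]
    exact Um_mem hF _ _
  · intro κ
    show Matrix.SpecialLinearGroup.map ι (Hm k κ) ∈ Cfsg.Sz F m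
    rw [map_Hm hK hdiv]
    exact Hm_mem hF _
  · show Matrix.SpecialLinearGroup.map ι (Wm : SL4 K) ∈ Cfsg.Sz F m
    rw [map_Wm]
    exact Wm_mem hF
  · intro g h hg hh
    show Matrix.SpecialLinearGroup.map ι (g * h) ∈ Cfsg.Sz F m
    rw [map_mul]
    exact mul_mem hg hh

/-- the embedding of the Suzuki group over a subfield -/
noncomputable def Phi (hk : 1 ≤ k) (hF : Fintype.card F = 2 ^ (2 * m + 1)) :
    Cfsg.Sz K k →* Cfsg.Sz F m :=
  ((Matrix.SpecialLinearGroup.map ι).comp (Cfsg.Sz K k).subtype).codRestrict (Cfsg.Sz F m)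
    (fun g => mem_map hK hdiv ι hk hF g.1 g.2)

theorem Phi_uS (hk : 1 ≤ k) (hF : Fintype.card F = 2 ^ (2 * m + 1)) (a b : K) :
    Phi hK hdiv ι hk hF (uS hK a b) = uS hF (ι a) (ι b) :=
  Subtype.ext (map_Um hK hdiv ι a b)

theorem Phi_hS (hk : 1 ≤ k) (hF : Fintype.card F = 2 ^ (2 * m + 1)) (κ : Kˣ) :
    Phi hK hdiv ι hk hF (hS hK κ) = hS hF (Units.map ι.toMonoidHom κ) :=
  Subtype.ext (map_Hm hK hdiv ι κ)

theorem Phi_wS (hk : 1 ≤ k) (hF : Fintype.card F = 2 ^ (2 * m + 1)) :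
    Phi hK hdiv ι hk hF (wS hK) = wS hF :=
  Subtype.ext (map_Wm ι)

theorem Phi_injective (hk : 1 ≤ k) (hF : Fintype.card F = 2 ^ (2 * m + 1)) :
    Function.Injective (Phi hK hdiv ι hk hF) := by
  intro g g' h
  have h1 : Matrix.SpecialLinearGroup.map ι g.1 = Matrix.SpecialLinearGroup.map ι g'.1 :=
    congrArg Subtype.val h
  have h2 := congrArg Subtype.val h1
  rw [Matrix.SpecialLinearGroup.map_apply_coe, Matrix.SpecialLinearGroup.map_apply_coe] at h2
  apply Subtype.ext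
  apply Subtype.ext
  ext i j
  have h3 := congrFun (congrFun h2 i) j
  simp only [RingHom.mapMatrix_apply, Matrix.map_apply] at h3
  exact ι.injective h3

include hK in
theorem range_iota : Set.range ι = Fx F (2 * k + 1) := by
  apply eq_Fx_of_card (by omega)
  · rintro _ ⟨x, rfl⟩
    show ι x ^ (2 ^ (2 * k + 1)) = ι x
    rw [← map_pow, ← hK, FiniteField.pow_card]
  · rw [← Set.image_univ, Set.ncard_image_of_injective _ ι.injective, Set.ncard_univ,
      Nat.card_eq_fintype_card, hK]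

theorem Phi_range (hk : 1 ≤ k) (hF : Fintype.card F = 2 ^ (2 * m + 1)) :
    (Phi hK hdiv ι hk hF).range = Std hF (2 * k + 1) := by
  have hmem : ∀ x : K, ι x ∈ Fx F (2 * k + 1) := fun x => by
    rw [← range_iota hK ι]; exact ⟨x, rfl⟩
  apply le_antisymm
  · rintro _ ⟨g, rfl⟩
    have hu : ∀ a b, Phi hK hdiv ι hk hF (uS hK a b) ∈ Std hF (2 * k + 1) := fun a b =>
      Subgroup.subset_closure (Or.inl ⟨ι a, ι b, hmem a, hmem b, Phi_uS hK hdiv ι hk hF a b⟩)
    have hh : ∀ κ, Phi hK hdiv ι hk hF (hS hK κ) ∈ Std hF (2 * k + 1) := fun κ =>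
      Subgroup.subset_closure (Or.inr (Or.inl ⟨Units.map ι.toMonoidHom κ, hmem κ,
        Phi_hS hK hdiv ι hk hF κ⟩))
    have hw : Phi hK hdiv ι hk hF (wS hK) ∈ Std hF (2 * k + 1) :=
      Subgroup.subset_closure (Or.inr (Or.inr (Phi_wS hK hdiv ι hk hF)))
    rcases bruhatS hk hK g with ⟨a, b, κ, rfl⟩ | ⟨a, b, c, d, κ, rfl⟩
    · rw [map_mul]
      exact mul_mem (hu a b) (hh κ)
    · rw [map_mul, map_mul, map_mul]
      exact mul_mem (mul_mem (hu a b) hw) (mul_mem (hu c d) (hh κ))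
  · rw [Std, Subgroup.closure_le]
    rintro g (⟨a, b, ha, hb, rfl⟩ | ⟨j, hj, rfl⟩ | rfl)
    · rw [← range_iota hK ι] at ha hb
      obtain ⟨a', rfl⟩ := ha
      obtain ⟨b', rfl⟩ := hb
      exact ⟨uS hK a' b', Phi_uS hK hdiv ι hk hF a' b'⟩
    · rw [← range_iota hK ι] at hj
      obtain ⟨κ, hκ⟩ := hj
      have hκ0 : κ ≠ 0 := by
        rintro rfl
        rw [map_zero] at hκ
        exact j.ne_zero hκ.symm
      refine ⟨hS hK (Units.mk0 κ hκ0), ?_⟩
      rw [Phi_hS]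
      congr 1
      apply Units.ext
      simp [hκ]
    · exact ⟨wS hK, Phi_wS hK hdiv ι hk hF⟩

/-- the standard subfield subgroup is a Suzuki group over the subfield -/
theorem std_iso (hk : 1 ≤ k) (hF : Fintype.card F = 2 ^ (2 * m + 1))
    (hK : Fintype.card K = 2 ^ (2 * k + 1)) (hdiv : 2 * k + 1 ∣ 2 * m + 1) :
    Nonempty (Std hF (2 * k + 1) ≃* Cfsg.Sz K k) := by
  have : Fact (Nat.Prime 2) := ⟨Nat.prime_two⟩
  have : CharP F 2 := charP hF
  have : CharP K 2 := charP hK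
  let _ : Algebra (ZMod 2) F := ZMod.algebra F 2
  let _ : Algebra (ZMod 2) K := ZMod.algebra K 2
  have hfrF : Module.finrank (ZMod 2) F = 2 * m + 1 := by
    have h := FiniteField.pow_finrank_eq_card 2 F
    rw [hF] at h
    exact Nat.pow_right_injective (le_refl 2) h
  have hfrK : Module.finrank (ZMod 2) K = 2 * k + 1 := by
    have h := FiniteField.pow_finrank_eq_card 2 K
    rw [hK] at h
    exact Nat.pow_right_injective (le_refl 2) h
  have hdvd' : Module.finrank (ZMod 2) K ∣ Module.finrank (ZMod 2) F := by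
    rw [hfrK, hfrF]; exact hdiv
  obtain ⟨φ⟩ := FiniteField.nonempty_algHom_of_finrank_dvd hdvd'
  have e1 := MonoidHom.ofInjective (Phi_injective hK hdiv φ.toRingHom hk hF)
  have e2 := MulEquiv.subgroupCongr (Phi_range hK hdiv φ.toRingHom hk hF)
  exact ⟨(e1.trans e2).symm⟩

end Cfsg.Agent.Lib.Helper6.SzS6
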