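import Mathlib
import Cfsg.Prelude.Def_LieExceptional
import Cfsg.Agent.Lib.Helper6.SzS6

set_option autoImplicit false
set_option linter.unusedSimpArgs false
set_option linter.unusedVariables false
set_option linter.unusedSectionVars false

namespace Cfsg.Agent.Lib.Helper6.SzS7

open Cfsg Cfsg.Agent.Lib.Helper6.Sz0 Cfsg.Agent.Lib.Helper6.Sz1 Cfsg.Agent.Lib.Helper6.Sz2
  Cfsg.Agent.Lib.Helper6.Sz3 Cfsg.Agent.Lib.Helper6.Sz4 Cfsg.Agent.Lib.Helper6.Sz5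
  Cfsg.Agent.Lib.Helper6.Sz6 Cfsg.Agent.Lib.Helper6.Sz7 Cfsg.Agent.Lib.Helper6.Sz8
  Cfsg.Agent.Lib.Helper6.Sz9 Cfsg.Agent.Lib.Helper6.Sz10 Cfsg.Agent.Lib.Helper6.Sz11
  Cfsg.Agent.Lib.Helper6.Sz12 Cfsg.Agent.Lib.Helper6.Sz13 Cfsg.Agent.Lib.Helper6.Sz14
  Cfsg.Agent.Lib.Helper6.Sz15 Cfsg.Agent.Lib.Helper6.Sz16 Cfsg.Agent.Lib.Helper6.Sz17
  Cfsg.Agent.Lib.Helper6.Sz18 Cfsg.Agent.Lib.Helper6.Sz19 Cfsg.Agent.Lib.Helper6.SzS1
  Cfsg.Agent.Lib.Helper6.SzS2 Cfsg.Agent.Lib.Helper6.SzS3 Cfsg.Agent.Lib.Helper6.SzS4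
  Cfsg.Agent.Lib.Helper6.SzS5 Cfsg.Agent.Lib.Helper6.SzS6 Matrix
open scoped Pointwise commutatorElement

variable {F : Type*} [Field F] [Fintype F] {m : ℕ}

theorem mem_conj {G : Type*} [Group G] (M : Subgroup G) (g x : G) :
    x ∈ M.map (MulAut.conj g).toMonoidHom ↔ g⁻¹ * x * g ∈ M := by
  rw [Subgroup.mem_map_equiv, MulAut.conj_symm_apply]

theorem map_conj_map {G : Type*} [Group G] (M : Subgroup G) (g h : G) :
    (M.map (MulAut.conj g).toMonoidHom).map (MulAut.conj h).toMonoidHom =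
      M.map (MulAut.conj (h * g)).toMonoidHom := by
  ext x
  rw [mem_conj, mem_conj, mem_conj]
  have e : g⁻¹ * (h⁻¹ * x * h) * g = (h * g)⁻¹ * x * (h * g) := by group
  rw [e]

theorem uS_central (hF : Fintype.card F = 2 ^ (2 * m + 1)) (x y b : F) :
    uS hF x y * uS hF 0 b * (uS hF x y)⁻¹ = uS hF 0 b := by
  have e : uS hF x y * uS hF 0 b = uS hF 0 b * uS hF x y := by
    rw [uS_mul, uS_mul, sg_zero]
    congr 1 <;> ring
  rw [e, mul_inv_cancel_right]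

/-- normalisation of a subgroup of even order by conjugation -/
theorem normalise (hm : 1 ≤ m) (hF : Fintype.card F = 2 ^ (2 * m + 1))
    (M : Subgroup (Cfsg.Sz F m)) (heven : ∃ t ∈ M, t ≠ 1 ∧ t * t = 1) :
    ∃ g : Cfsg.Sz F m,
      (∀ x ∈ M.map (MulAut.conj g).toMonoidHom, x • ainf F m = ainf F m) ∨
      (∃ b₀ : F, b₀ ≠ 0 ∧ uS hF 0 b₀ ∈ M.map (MulAut.conj g).toMonoidHom ∧
        ∀ b, b ≠ 0 → uS hF 0 b ∈ M.map (MulAut.conj g).toMonoidHom → b = b₀) ∨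
      NF hF (M.map (MulAut.conj g).toMonoidHom) := by
  obtain ⟨t, htM, ht1, htt⟩ := heven
  obtain ⟨a, ha⟩ := exists_fix_of_two_pow hF (y := t) (j := 1) (by rw [pow_one, pow_two]; exact htt)
  have := pretransitive (m := m) hF
  obtain ⟨g₁, hg₁⟩ := MulAction.exists_smul_eq (Cfsg.Sz F m) a (ainf F m)
  have ht₁M : g₁ * t * g₁⁻¹ ∈ M.map (MulAut.conj g₁).toMonoidHom := by
    rw [mem_conj]
    have e : g₁⁻¹ * (g₁ * t * g₁⁻¹) * g₁ = t := by group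
    rw [e]
    exact htM
  have ht₁fix : (g₁ * t * g₁⁻¹) • ainf F m = ainf F m := by
    rw [mul_smul, mul_smul, inv_smul_eq_iff.2 hg₁.symm, ha, hg₁]
  obtain ⟨b₀, hb₀, ht₁⟩ := invol_ainf hm hF (conj_ne ht1) (conj_sq htt) ht₁fix
  rw [ht₁] at ht₁M
  by_cases hfix : ∀ x ∈ M.map (MulAut.conj g₁).toMonoidHom, x • ainf F m = ainf F m
  · exact ⟨g₁, Or.inl hfix⟩
  by_cases huniq : ∀ b, b ≠ 0 → uS hF 0 b ∈ M.map (MulAut.conj g₁).toMonoidHom → b = b₀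
  · exact ⟨g₁, Or.inr (Or.inl ⟨b₀, hb₀, ht₁M, huniq⟩)⟩
  push Not at hfix huniq
  obtain ⟨g₀, hg₀M, hg₀⟩ := hfix
  obtain ⟨b₁, hb₁0, hb₁M, hb₁ne⟩ := huniq
  -- scale so that b₀ becomes 1
  obtain ⟨μ, hμ⟩ := mul_sg_surj hF (b₀⁻¹)
  have hμ0 : μ ≠ 0 := by
    rintro rfl
    rw [zero_mul] at hμ
    exact (inv_ne_zero hb₀) hμ.symm
  have hsμ0 : sg m μ ≠ 0 := fun h => hμ0 (sg_eq_zero.1 h)
  have hμb : sg m μ * μ * b₀ = 1 := by
    have : sg m μ * μ = b₀⁻¹ := by rw [mul_comm]; exact hμ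
    rw [this, inv_mul_cancel₀ hb₀]
  set M₁ := M.map (MulAut.conj g₁).toMonoidHom with hM₁
  have hconjμ : ∀ b, uS hF 0 b ∈ M₁ →
      uS hF 0 (sg m μ * μ * b) ∈ M₁.map (MulAut.conj (hS hF (Units.mk0 μ hμ0))).toMonoidHom := by
    intro b hb
    rw [mem_conj]
    have e : (hS hF (Units.mk0 μ hμ0))⁻¹ * uS hF 0 (sg m μ * μ * b) * hS hF (Units.mk0 μ hμ0) =
        uS hF 0 b := by
      have h1 := hS_conj_uS hF (Units.mk0 μ hμ0) 0 b
      rw [Units.val_mk0, mul_zero] at h1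
      rw [← h1]
      group
    rw [e]
    exact hb
  set M₂ := M₁.map (MulAut.conj (hS hF (Units.mk0 μ hμ0))).toMonoidHom with hM₂
  have h1M₂ : uS hF 0 1 ∈ M₂ := by
    have := hconjμ b₀ ht₁M
    rwa [hμb] at this
  have hb₁M₂ : uS hF 0 (sg m μ * μ * b₁) ∈ M₂ := hconjμ b₁ hb₁M
  have hb₁'0 : sg m μ * μ * b₁ ≠ 0 := mul_ne_zero (mul_ne_zero hsμ0 hμ0) hb₁0
  have hb₁'1 : sg m μ * μ * b₁ ≠ 1 := by
    intro h
    apply hb₁ne
    have h2 : sg m μ * μ * (b₁ - b₀) = 0 := by linear_combination h - hμb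
    rcases mul_eq_zero.1 h2 with h3 | h3
    · exact absurd h3 (mul_ne_zero hsμ0 hμ0)
    · linear_combination h3
  have hg₂M : hS hF (Units.mk0 μ hμ0) * g₀ * (hS hF (Units.mk0 μ hμ0))⁻¹ ∈ M₂ := by
    rw [hM₂, mem_conj]
    have e : (hS hF (Units.mk0 μ hμ0))⁻¹ *
        (hS hF (Units.mk0 μ hμ0) * g₀ * (hS hF (Units.mk0 μ hμ0))⁻¹) *
        hS hF (Units.mk0 μ hμ0) = g₀ := by group
    rw [e]
    exact hg₀M
  have hg₂ : (hS hF (Units.mk0 μ hμ0) * g₀ * (hS hF (Units.mk0 μ hμ0))⁻¹) • ainf F m ≠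
      ainf F m := by
    intro h
    apply hg₀
    rw [mul_smul, mul_smul, inv_smul_eq_iff.2 (hS_ainf hF _).symm] at h
    have h2 := congrArg (fun p => (hS hF (Units.mk0 μ hμ0))⁻¹ • p) h
    simp only [inv_smul_smul] at h2
    rw [h2, inv_smul_eq_iff, hS_ainf]
  generalize hS hF (Units.mk0 μ hμ0) * g₀ * (hS hF (Units.mk0 μ hμ0))⁻¹ = g₂ at hg₂M hg₂
  rcases ovoid_cases (g₂ • ainf F m) with h | ⟨x, y, hxy⟩
  · exact absurd h hg₂
  have hcen : ∀ b, uS hF 0 b ∈ M₂ →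
      uS hF 0 b ∈ M₂.map (MulAut.conj (uS hF x y)⁻¹).toMonoidHom := by
    intro b hb
    rw [mem_conj, inv_inv, uS_central]
    exact hb
  have hnf : NF hF (M₂.map (MulAut.conj (uS hF x y)⁻¹).toMonoidHom) := by
    refine ⟨hcen 1 h1M₂, ?_, ⟨_, hb₁'0, hb₁'1, hcen _ hb₁M₂⟩⟩
    refine ⟨(uS hF x y)⁻¹ * g₂ * uS hF x y, ?_, ?_⟩
    · rw [mem_conj, inv_inv]
      have e : uS hF x y * ((uS hF x y)⁻¹ * g₂ * uS hF x y) * (uS hF x y)⁻¹ = g₂ := by group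
      rw [e]
      exact hg₂M
    · rw [mul_smul, mul_smul, uS_ainf, hxy, inv_smul_eq_iff, uS_apt_zero]
  refine ⟨(uS hF x y)⁻¹ * (hS hF (Units.mk0 μ hμ0) * g₁), Or.inr (Or.inr ?_)⟩
  rw [← map_conj_map, ← map_conj_map]
  exact hnf

/-- a normalised configuration is a standard subfield subgroup -/
theorem eq_Std_of_NF (hm : 1 ≤ m) {hF : Fintype.card F = 2 ^ (2 * m + 1)}
    {M : Subgroup (Cfsg.Sz F m)} (h : NF hF M) :
    ∃ f, 3 ≤ f ∧ f ∣ 2 * m + 1 ∧ M = Std hF f := by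
  obtain ⟨b₁, hb0, hb1, hbM⟩ := h.two
  obtain ⟨f, hf2, hdiv, hset⟩ := subfield_eq_Fx hF (h.F0 hm) ⟨b₁, hbM, hb0, hb1⟩
  have hf3 : 3 ≤ f := by
    obtain ⟨c, hc⟩ := hdiv
    by_contra hlt
    have hf : f = 2 := by omega
    subst hf
    omega
  have hmemF : ∀ x, x ∈ h.F0 hm ↔ x ∈ Fx F f := fun x => by rw [← hset]; rfl
  refine ⟨f, hf3, hdiv, le_antisymm ?_ ?_⟩
  · apply h.le_of_gens hm
    · intro a b ha hb
      exact Subgroup.subset_closure (Or.inl ⟨a, b, (hmemF a).1 ha, (hmemF b).1 hb, rfl⟩)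
    · intro j hj
      exact Subgroup.subset_closure (Or.inr (Or.inl ⟨j, (hmemF _).1 hj, rfl⟩))
    · exact Subgroup.subset_closure (Or.inr (Or.inr rfl))
  · rw [Std, Subgroup.closure_le]
    rintro g (⟨a, b, ha, hb, rfl⟩ | ⟨j, hj, rfl⟩ | rfl)
    · exact (h.mem_iff hm a b).2 ⟨(hmemF a).2 ha, (hmemF b).2 hb⟩
    · exact (h.hS_mem_iff hm j).2 ((hmemF _).2 hj)
    · exact h.wS_mem hm

/-- the trichotomy for subgroups of even order -/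
theorem main_even (hm : 1 ≤ m) (hF : Fintype.card F = 2 ^ (2 * m + 1))
    (M : Subgroup (Cfsg.Sz F m)) (heven : ∃ t ∈ M, t ≠ 1 ∧ t * t = 1) :
    ∃ g : Cfsg.Sz F m,
      (M.map (MulAut.conj g).toMonoidHom ≤ Bt F m) ∨
      (∀ P : Sylow 2 (M.map (MulAut.conj g).toMonoidHom), IsCyclic P) ∨
      (∃ f, 3 ≤ f ∧ f ∣ 2 * m + 1 ∧ M.map (MulAut.conj g).toMonoidHom = Std hF f) := by
  obtain ⟨g, h | ⟨b₀, hb₀, hM, huniq⟩ | h⟩ := normalise hm hF M heven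
  · exact ⟨g, Or.inl (fun x hx => MulAction.mem_stabilizer_iff.2 (h x hx))⟩
  · exact ⟨g, Or.inr (Or.inl (fun P => cyclic_sylow hm hF _ hb₀ hM huniq P))⟩
  · exact ⟨g, Or.inr (Or.inr (eq_Std_of_NF hm h))⟩

theorem Std_top (hm : 1 ≤ m) (hF : Fintype.card F = 2 ^ (2 * m + 1)) :
    Std hF (2 * m + 1) = ⊤ := by
  have hx : ∀ x : F, x ∈ Fx F (2 * m + 1) := by
    intro x
    show x ^ (2 ^ (2 * m + 1)) = x
    rw [← hF]
    exact FiniteField.pow_card x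
  apply eq_top_of_gens hm hF
  · intro a b
    exact Subgroup.subset_closure (Or.inl ⟨a, b, hx a, hx b, rfl⟩)
  · intro j
    exact Subgroup.subset_closure (Or.inr (Or.inl ⟨j, hx _, rfl⟩))
  · exact Subgroup.subset_closure (Or.inr (Or.inr rfl))

/-- a Sylow 2-subgroup with a non-identity element contains an involution -/
theorem exists_invol_of_sylow {G : Type*} [Group G] (P : Sylow 2 G) (hP : ∃ x : P, x ≠ 1) :
    ∃ t : G, t ∈ (P : Subgroup G) ∧ t ≠ 1 ∧ t * t = 1 := by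
  have : Fact (Nat.Prime 2) := ⟨Nat.prime_two⟩
  obtain ⟨x, hx⟩ := hP
  obtain ⟨k, hk⟩ := (IsPGroup.iff_orderOf.1 P.isPGroup') x
  have hk0 : k ≠ 0 := by
    rintro rfl
    rw [pow_zero, orderOf_eq_one_iff] at hk
    exact hx hk
  obtain ⟨k', rfl⟩ : ∃ k', k = k' + 1 := ⟨k - 1, by omega⟩
  have ht1 : x ^ (2 ^ k') ≠ 1 := by
    apply pow_ne_one_of_lt_orderOf (by positivity)
    rw [hk]
    exact Nat.pow_lt_pow_right (by norm_num) (by omega)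
  have ht2 : x ^ (2 ^ k') * x ^ (2 ^ k') = 1 := by
    rw [← pow_add, ← two_mul, ← pow_succ', ← hk, pow_orderOf_eq_one]
  refine ⟨((x ^ (2 ^ k') : (P : Subgroup G)) : G), (x ^ (2 ^ k')).2, ?_, ?_⟩
  · intro h
    exact ht1 (Subtype.ext h)
  · have := congrArg (fun y : (P : Subgroup G) => (y : G)) ht2
    simpa using this

end Cfsg.Agent.Lib.Helper6.SzS7
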