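import Mathlib
import Cfsg.Prelude.Def_LieExceptional
import Cfsg.Agent.Lib.Helper6.SzS7

set_option autoImplicit false
set_option linter.unusedSimpArgs false
set_option linter.unusedVariables false
set_option linter.unusedSectionVars false

namespace Cfsg.Agent.Lib.Helper6.SzS8

open Cfsg Cfsg.Agent.Lib.Helper6.Sz0 Cfsg.Agent.Lib.Helper6.Sz1 Cfsg.Agent.Lib.Helper6.Sz2
  Cfsg.Agent.Lib.Helper6.Sz3 Cfsg.Agent.Lib.Helper6.Sz4 Cfsg.Agent.Lib.Helper6.Sz5
  Cfsg.Agent.Lib.Helper6.Sz6 Cfsg.Agent.Lib.Helper6.Sz7 Cfsg.Agent.Lib.Helper6.Sz8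
  Cfsg.Agent.Lib.Helper6.Sz9 Cfsg.Agent.Lib.Helper6.Sz10 Cfsg.Agent.Lib.Helper6.Sz11
  Cfsg.Agent.Lib.Helper6.Sz12 Cfsg.Agent.Lib.Helper6.Sz13 Cfsg.Agent.Lib.Helper6.Sz14
  Cfsg.Agent.Lib.Helper6.Sz15 Cfsg.Agent.Lib.Helper6.Sz16 Cfsg.Agent.Lib.Helper6.Sz17
  Cfsg.Agent.Lib.Helper6.Sz18 Cfsg.Agent.Lib.Helper6.Sz19 Cfsg.Agent.Lib.Helper6.SzS1
  Cfsg.Agent.Lib.Helper6.SzS2 Cfsg.Agent.Lib.Helper6.SzS3 Cfsg.Agent.Lib.Helper6.SzS4
  Cfsg.Agent.Lib.Helper6.SzS5 Cfsg.Agent.Lib.Helper6.SzS6 Cfsg.Agent.Lib.Helper6.SzS7 Matrix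
open scoped Pointwise commutatorElement

variable {F : Type*} [Field F] [Fintype F] {m : ℕ}

/-- the conclusion of the subgroup theorem -/
def Concl (m : ℕ) (M : Subgroup (Cfsg.Sz F m)) : Prop :=
  (∃ P : Sylow 2 ↥(Cfsg.Sz F m), M ≤ Subgroup.normalizer
      ((P : Subgroup ↥(Cfsg.Sz F m)) : Set ↥(Cfsg.Sz F m))) ∨
    (∃ U : Subgroup ↥(Cfsg.Sz F m), IsCyclic ↥U ∧ Nat.card ↥U ∈
        ({2 ^ (2 * m + 1) - 1, 2 ^ (2 * m + 1) + 2 ^ (m + 1) + 1,
          2 ^ (2 * m + 1) - 2 ^ (m + 1) + 1} : Set ℕ) ∧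
      M ≤ Subgroup.normalizer (U : Set ↥(Cfsg.Sz F m))) ∨
    (∃ (K : Type) (_ : Field K) (_ : Fintype K) (k : ℕ), 1 ≤ k ∧ k < m ∧
      Fintype.card K = 2 ^ (2 * k + 1) ∧ 2 * k + 1 ∣ 2 * m + 1 ∧
      ∃ S : Subgroup ↥(Cfsg.Sz F m), Nonempty (↥S ≃* ↥(Cfsg.Sz K k)) ∧ M ≤ S)

theorem concl_of_comp {M X : Subgroup (Cfsg.Sz F m)} (hX : IsComp m X)
    (hle : M ≤ Subgroup.normalizer (X : Set (Cfsg.Sz F m))) : Concl m M := by
  rcases hX with ⟨P, rfl⟩ | ⟨hc, hcard⟩
  · exact Or.inl ⟨P, hle⟩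
  · exact Or.inr (Or.inl ⟨X, hc, hcard, hle⟩)

theorem normalizer_conj {G : Type*} [Group G] (M X : Subgroup G) (g : G)
    (h : M.map (MulAut.conj g).toMonoidHom ≤ Subgroup.normalizer (X : Set G)) :
    M ≤ Subgroup.normalizer ((X.map (MulAut.conj g⁻¹).toMonoidHom : Subgroup G) : Set G) := by
  intro x hx
  have h1 : g * x * g⁻¹ ∈ Subgroup.normalizer (X : Set G) := by
    apply h
    rw [mem_conj]
    have e : g⁻¹ * (g * x * g⁻¹) * g = x := by group
    rw [e]
    exact hx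
  rw [Subgroup.mem_normalizer_iff] at h1 ⊢
  intro z
  rw [mem_conj, mem_conj, inv_inv, h1 (g * z * g⁻¹)]
  have e : g * x * g⁻¹ * (g * z * g⁻¹) * (g * x * g⁻¹)⁻¹ = g * (x * z * x⁻¹) * g⁻¹ := by group
  rw [e]

theorem concl_conj {M : Subgroup (Cfsg.Sz F m)} (g : Cfsg.Sz F m)
    (h : Concl m (M.map (MulAut.conj g).toMonoidHom)) : Concl m M := by
  have : Fact (Nat.Prime 2) := ⟨Nat.prime_two⟩
  rcases h with ⟨P, hP⟩ | ⟨U, hc, hcard, hU⟩ | ⟨K, iK, iK', k, hk1, hkm, hK, hdiv, S, ⟨e⟩, hS⟩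
  · exact Or.inl ⟨P.mapSurjective (f := (MulAut.conj g⁻¹).toMonoidHom) (MulAut.conj g⁻¹).surjective,
      normalizer_conj M _ g hP⟩
  · refine Or.inr (Or.inl ⟨U.map (MulAut.conj g⁻¹).toMonoidHom, ?_, ?_, normalizer_conj M U g hU⟩)
    · exact isCyclic_of_surjective ((MulAut.conj g⁻¹).toMonoidHom.subgroupMap U)
        (MonoidHom.subgroupMap_surjective _ _)
    · rw [Subgroup.card_map_of_injective (MulAut.conj g⁻¹).injective]
      exact hcard
  · refine Or.inr (Or.inr ⟨K, iK, iK', k, hk1, hkm, hK, hdiv,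
      S.map (MulAut.conj g⁻¹).toMonoidHom, ⟨?_⟩, ?_⟩)
    · exact (S.equivMapOfInjective _ (MulAut.conj g⁻¹).injective).symm.trans e
    · intro x hx
      rw [mem_conj, inv_inv]
      apply hS
      rw [mem_conj]
      have e' : g⁻¹ * (g * x * g⁻¹) * g = x := by group
      rw [e']
      exact hx

/-- Suzuki's theorem on the subgroups of the Suzuki groups -/
theorem subgroups (hm : 1 ≤ m) (hF : Fintype.card F = 2 ^ (2 * m + 1))
    (M : Subgroup (Cfsg.Sz F m)) (hM : M ≠ ⊤) : Concl m M := by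
  have : Fact (Nat.Prime 2) := ⟨Nat.prime_two⟩
  by_cases heven : ∃ t ∈ M, t ≠ 1 ∧ t * t = 1
  · obtain ⟨g, h⟩ := main_even hm hF M heven
    apply concl_conj g
    have hM' : M.map (MulAut.conj g).toMonoidHom ≠ ⊤ := by
      intro htop
      apply hM
      rw [eq_top_iff]
      intro x _
      have h1 : g * x * g⁻¹ ∈ M.map (MulAut.conj g).toMonoidHom := by rw [htop]; trivial
      rw [mem_conj] at h1
      have e : g⁻¹ * (g * x * g⁻¹) * g = x := by group
      rw [e] at h1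
      exact h1
    have hM'1 : M.map (MulAut.conj g).toMonoidHom ≠ ⊥ := by
      obtain ⟨t, htM, ht1, -⟩ := heven
      intro hbot
      have h1 : g * t * g⁻¹ ∈ M.map (MulAut.conj g).toMonoidHom := by
        rw [mem_conj]
        have e : g⁻¹ * (g * t * g⁻¹) * g = t := by group
        rw [e]
        exact htM
      rw [hbot, Subgroup.mem_bot] at h1
      exact conj_ne ht1 h1
    rcases h with h | h | ⟨f, hf3, hfd, hS⟩
    · refine Or.inl ⟨P0 hm hF, ?_⟩
      rw [coe_P0, normalizer_Usub hm hF]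
      exact h
    · obtain ⟨X, hX, hle⟩ := zgroup_case hm hF _ hM'1 (zgroup_of_two hm hF _ h)
      exact concl_of_comp hX hle
    · -- subfield subgroup
      obtain ⟨k, rfl⟩ : ∃ k, f = 2 * k + 1 := by
        obtain ⟨c, hc⟩ := hfd
        rcases Nat.even_or_odd f with ⟨d, rfl⟩ | ⟨d, rfl⟩
        · exfalso
          have e : (d + d) * c = 2 * (d * c) := by ring
          rw [e] at hc
          omega
        · exact ⟨d, rfl⟩
      have hk1 : 1 ≤ k := by omega
      have hle : 2 * k + 1 ≤ 2 * m + 1 := Nat.le_of_dvd (by omega) hfd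
      have hkm : k < m := by
        rcases Nat.lt_or_ge k m with h | h
        · exact h
        · exfalso
          have hkm : k = m := by omega
          subst hkm
          rw [Std_top hm hF] at hS
          exact hM' hS
      have hfin : Finite (GaloisField 2 (2 * k + 1)) := inferInstance
      let iK' : Fintype (GaloisField 2 (2 * k + 1)) := Fintype.ofFinite _
      have hK : Fintype.card (GaloisField 2 (2 * k + 1)) = 2 ^ (2 * k + 1) := by
        rw [← Nat.card_eq_fintype_card]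
        exact GaloisField.card 2 _ (by omega)
      refine Or.inr (Or.inr ⟨GaloisField 2 (2 * k + 1), inferInstance, iK', k, hk1, hkm, hK, hfd,
        Std hF (2 * k + 1), std_iso hk1 hF hK hfd, hS.le⟩)
  · -- no involutions: all Sylow subgroups are cyclic
    have h2 : ∀ P : Sylow 2 M, IsCyclic P := by
      intro P
      by_cases hP : ∃ x : (P : Subgroup M), x ≠ 1
      · exfalso
        obtain ⟨t, htP, ht1, htt⟩ := exists_invol_of_sylow P hP
        exact heven ⟨(t : Cfsg.Sz F m), t.2, fun h => ht1 (Subtype.ext h),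
          congrArg Subtype.val htt⟩
      · push Not at hP
        have : Subsingleton (P : Subgroup M) := ⟨fun a b => (hP a).trans (hP b).symm⟩
        exact isCyclic_of_subsingleton
    by_cases hbot : M = ⊥
    · refine Or.inl ⟨P0 hm hF, ?_⟩
      rw [hbot]
      exact bot_le
    · obtain ⟨X, hX, hle⟩ := zgroup_case hm hF M hbot (zgroup_of_two hm hF M h2)
      exact concl_of_comp hX hle

/-! ### conjugacy of the subfield subgroups -/

theorem card_lt {k k' : ℕ} (h : k < k') :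
    (2 ^ (2 * k + 1)) ^ 2 * ((2 ^ (2 * k + 1)) ^ 2 + 1) * (2 ^ (2 * k + 1) - 1) <
      (2 ^ (2 * k' + 1)) ^ 2 * ((2 ^ (2 * k' + 1)) ^ 2 + 1) * (2 ^ (2 * k' + 1) - 1) := by
  have h1 : 2 ^ (2 * k + 1) < 2 ^ (2 * k' + 1) := Nat.pow_lt_pow_right (by norm_num) (by omega)
  have h0 : 2 ≤ 2 ^ (2 * k + 1) := q_ge_two k
  generalize 2 ^ (2 * k + 1) = q at h1 h0
  generalize 2 ^ (2 * k' + 1) = q' at h1
  have h2 : q ^ 2 < q' ^ 2 := Nat.pow_lt_pow_left h1 (by norm_num)
  have h3 : q ^ 2 * (q ^ 2 + 1) < q' ^ 2 * (q' ^ 2 + 1) :=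
    Nat.mul_lt_mul_of_lt_of_le h2 (by omega) (by omega)
  exact Nat.mul_lt_mul_of_lt_of_le h3 (by omega) (by omega)

/-- every subgroup isomorphic to a Suzuki group over a subfield is conjugate to the standard
subfield subgroup -/
theorem exists_conj_Std (hm : 1 ≤ m) (hF : Fintype.card F = 2 ^ (2 * m + 1))
    {K : Type*} [Field K] [Fintype K] {k : ℕ} (hk : 1 ≤ k)
    (hK : Fintype.card K = 2 ^ (2 * k + 1)) (S : Subgroup (Cfsg.Sz F m))
    (e : S ≃* Cfsg.Sz K k) :
    ∃ g : Cfsg.Sz F m, S.map (MulAut.conj g).toMonoidHom = Std hF (2 * k + 1) := by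
  have : Fact (Nat.Prime 2) := ⟨Nat.prime_two⟩
  have hnt : Nontrivial (Cfsg.Sz K k) := nontrivial_Sz hk hK
  have hperf : commutator (Cfsg.Sz K k) = ⊤ := perfect hk hK
  have heven : ∃ t ∈ S, t ≠ 1 ∧ t * t = 1 := by
    refine ⟨(e.symm (uS hK 0 1) : Cfsg.Sz F m), (e.symm (uS hK 0 1)).2, ?_, ?_⟩
    · intro h
      have h1 : e.symm (uS hK 0 1) = 1 := Subtype.ext h
      rw [map_eq_one_iff e.symm e.symm.injective] at h1
      exact uS_zero_ne_one hK one_ne_zero h1
    · have h1 : e.symm (uS hK 0 1) * e.symm (uS hK 0 1) = 1 := by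
        rw [← map_mul, uS_zero_sq, map_one]
      exact congrArg Subtype.val h1
  obtain ⟨g, h⟩ := main_even hm hF S heven
  refine ⟨g, ?_⟩
  have e' : S.map (MulAut.conj g).toMonoidHom ≃* Cfsg.Sz K k :=
    (S.equivMapOfInjective _ (MulAut.conj g).injective).symm.trans e
  rcases h with h | h | ⟨f, hf3, hfd, hS⟩
  · exfalso
    have hsB : Group.IsSolvable (Bt F m) := solvable_Bt hm hF
    have hs1 : Group.IsSolvable (S.map (MulAut.conj g).toMonoidHom) :=
      Group.isSolvable_of_isSolvable_injective (Subgroup.inclusion_injective h)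
    have hs2 : Group.IsSolvable (Cfsg.Sz K k) :=
      Group.isSolvable_of_surjective (f := e'.toMonoidHom) e'.surjective
    have := Group.IsSolvable.commutator_lt_top_of_nontrivial (Cfsg.Sz K k)
    rw [hperf] at this
    exact lt_irrefl _ this
  · exfalso
    have hz : IsZGroup (S.map (MulAut.conj g).toMonoidHom) := zgroup_of_two hm hF _ h
    have hz2 : IsZGroup (Cfsg.Sz K k) := IsZGroup.of_surjective (f := e'.toMonoidHom) e'.surjective
    have := IsZGroup.commutator_lt (G := Cfsg.Sz K k)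
    rw [hperf] at this
    exact lt_irrefl _ this
  · obtain ⟨k', rfl⟩ : ∃ k', f = 2 * k' + 1 := by
      obtain ⟨c, hc⟩ := hfd
      rcases Nat.even_or_odd f with ⟨d, rfl⟩ | ⟨d, rfl⟩
      · exfalso
        have e : (d + d) * c = 2 * (d * c) := by ring
        rw [e] at hc
        omega
      · exact ⟨d, rfl⟩
    have hk'1 : 1 ≤ k' := by omega
    have hfin : Finite (GaloisField 2 (2 * k' + 1)) := inferInstance
    let iK' : Fintype (GaloisField 2 (2 * k' + 1)) := Fintype.ofFinite _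
    have hK' : Fintype.card (GaloisField 2 (2 * k' + 1)) = 2 ^ (2 * k' + 1) := by
      rw [← Nat.card_eq_fintype_card]
      exact GaloisField.card 2 _ (by omega)
    obtain ⟨e₂⟩ := std_iso hk'1 hF hK' hfd
    have hcard : Nat.card (Cfsg.Sz K k) = Nat.card (Cfsg.Sz (GaloisField 2 (2 * k' + 1)) k') := by
      rw [← Nat.card_congr e'.toEquiv, ← Nat.card_congr e₂.toEquiv, hS]
    rw [card_Sz hk hK, card_Sz hk'1 hK'] at hcard
    have hkk : k = k' := by
      rcases Nat.lt_trichotomy k k' with h | h | h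
      · exact absurd hcard (card_lt h).ne
      · exact h
      · exact absurd hcard.symm (card_lt h).ne
    rw [hkk]
    exact hS

end Cfsg.Agent.Lib.Helper6.SzS8
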